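import Groth.Agent.CohFin.Acyclic

/-!
# Right derived functors from resolutions by acyclic objects
-/

universe v u v' u'

open CategoryTheory CategoryTheory.Limits

namespace Groth.LocCohZBase

variable {C : Type u} [Category.{v} C] [Abelian C] [EnoughInjectives C]
  {D : Type u'} [Category.{v'} D] [Abelian D]
  (S : C ⥤ D) [S.Additive] [PreservesFiniteLimits S]

/-- A complex of acyclic objects resolving `X` computes the derived functors at `X`. -/
theorem nonempty_homology_iso_of_acyclic (n : ℕ) : ∀ (A : CochainComplex C ℕ) (X : C) (ι : X ⟶ A.X 0)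
    (w : ι ≫ A.d 0 1 = 0), Mono ι → (ShortComplex.mk ι (A.d 0 1) w).Exact →
    (∀ m, A.ExactAt (m + 1)) → (∀ m, Groth.CohFin.RightAcyclic S (A.X m)) →
    Nonempty (((S.mapHomologicalComplex (ComplexShape.up ℕ)).obj A).homology n ≅
      (S.rightDerived n).obj X) := by
  induction n using Nat.strong_induction_on with
  | _ n ih =>
    intro A X ι w hι h0 hA hac
    let B := (S.mapHomologicalComplex (ComplexShape.up ℕ)).obj A
    have hX : IsLimit (KernelFork.ofι (f := B.d 0 1) (S.map ι)
        ((S.map_comp _ _).symm.trans ((congrArg S.map w).trans (S.map_zero _ _)))) :=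
      KernelFork.mapIsLimit _ h0.fIsKernel S
    have wZ : ι ≫ A.toCycles 0 1 = 0 := by
      rw [← cancel_mono (A.iCycles 1), Category.assoc, A.toCycles_i, w, zero_comp]
    have hp : Epi (A.toCycles 0 1) := by
      have h := (A.exactAt_iff' 0 1 2 (by simp) (by simp)).1 (hA 0)
      have h' : Epi (A.sc' 0 1 2).toCycles := ShortComplex.exact_iff_epi_toCycles _ |>.1 h
      haveI : Epi (A.toCycles 0 1 ≫ (A.cyclesIsoSc' 0 1 2 (by simp) (by simp)).hom) := by
        rw [A.toCycles_cyclesIsoSc'_hom]
        exact h'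
      exact (epi_comp_iff_of_isIso _ _).1 this
    have hT : (ShortComplex.mk ι (A.toCycles 0 1) wZ).ShortExact :=
      { exact := ShortComplex.exact_of_f_is_kernel _
          (KernelFork.IsLimit.ofι' ι wZ fun {W} k hk => ⟨h0.fIsKernel.lift (KernelFork.ofι k
              (((congrArg (k ≫ ·) (A.toCycles_i 0 1)).symm.trans (Category.assoc _ _ _).symm).trans
                ((congrArg (· ≫ A.iCycles 1) hk).trans zero_comp))),
            h0.fIsKernel.fac _ WalkingParallelPair.zero⟩)
        mono_f := hι
        epi_g := hp }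
    match n with
    | 0 =>
      exact ⟨(CochainComplex.isoHomologyπ₀ B).symm ≪≫
        IsLimit.conePointUniqueUpToIso (B.cyclesIsKernel 0 1 (by simp)) hX ≪≫
        (S.rightDerivedZeroIsoSelf.app X).symm⟩
    | 1 =>
      have hK : IsLimit (KernelFork.ofι (f := B.d 1 2) (S.map (A.iCycles 1))
          ((S.map_comp _ _).symm.trans ((congrArg S.map (A.iCycles_d 1 2)).trans (S.map_zero _ _)))) :=
        KernelFork.mapIsLimit _ (A.cyclesIsKernel 1 2 (by simp)) S
      let e : B.cycles 1 ≅ S.obj (A.cycles 1) :=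
        IsLimit.conePointUniqueUpToIso (B.cyclesIsKernel 1 2 (by simp)) hK
      have he : B.toCycles 0 1 ≫ e.hom = S.map (A.toCycles 0 1) := by
        refine Fork.IsLimit.hom_ext hK ?_
        show (B.toCycles 0 1 ≫ e.hom) ≫ S.map (A.iCycles 1) = S.map (A.toCycles 0 1) ≫ S.map (A.iCycles 1)
        rw [← S.map_comp, A.toCycles_i, Category.assoc]
        exact (congrArg (B.toCycles 0 1 ≫ ·)
          (IsLimit.conePointUniqueUpToIso_hom_comp (B.cyclesIsKernel 1 2 (by simp)) hK
            WalkingParallelPair.zero)).trans (B.toCycles_i 0 1)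
      obtain ⟨i⟩ := Groth.CohFin.nonempty_rightDerived_one_iso (F := S) hT (hac 0)
      exact ⟨(B.homologyIsCokernel 0 1 (by simp)).coconePointUniqueUpToIso (cokernelIsCokernel _) ≪≫
        cokernel.mapIso (B.toCycles 0 1) (S.map (A.toCycles 0 1)) (Iso.refl _) e
          (he.trans (Category.id_comp _).symm) ≪≫ i.symm⟩
    | m + 2 =>
      let A' : CochainComplex C ℕ :=
        { X := fun i => A.X (i + 1)
          d := fun i k => A.d (i + 1) (k + 1)
          shape := fun i k h => A.shape _ _ (by simp only [ComplexShape.up_Rel] at h ⊢; omega)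
          d_comp_d' := fun i k l _ _ => A.d_comp_d _ _ _ }
      obtain ⟨i⟩ := ih (m + 1) (by omega) A' (A.cycles 1) (A.iCycles 1) (A.iCycles_d 1 2) inferInstance
        (ShortComplex.exact_of_f_is_kernel _ (A.cyclesIsKernel 1 2 (by simp)))
        (fun k => (A'.exactAt_iff' k (k + 1) (k + 2) (by simp) (by simp)).2
          ((A.exactAt_iff' (k + 1) (k + 2) (k + 3) (by simp) (by simp)).1 (hA (k + 1))))
        (fun k => hac (k + 1))
      obtain ⟨j⟩ := Groth.CohFin.nonempty_rightDerived_shift S m _ hT (hac 0)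
      exact ⟨B.homologyIsoSc' (m + 1) (m + 2) (m + 3) (by simp) (by simp) ≪≫
        (((S.mapHomologicalComplex (ComplexShape.up ℕ)).obj A').homologyIsoSc' m (m + 1) (m + 2)
          (by simp) (by simp)).symm ≪≫ i ≪≫ j.symm⟩

end Groth.LocCohZBase
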