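import Groth.Agent.CohBase.DerivedShift
import Mathlib.CategoryTheory.Preadditive.Injective.Preserves

/-!
# Right derived functors of a functor precomposed with an exact functor preserving injectives
-/

universe v u v' u' v'' u''

open CategoryTheory CategoryTheory.Limits

namespace Groth.LocCohZBase.DerivedComp

variable {C : Type u} [Category.{v} C] [Abelian C] [HasInjectiveResolutions C]
  {E : Type u'} [Category.{v'} E] [Abelian E] [HasInjectiveResolutions E]
  {D : Type u''} [Category.{v''} D] [Abelian D]
  (A : C ⥤ E) [A.Additive] [PreservesFiniteLimits A] [PreservesFiniteColimits A]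
  [A.PreservesInjectiveObjects] (B : E ⥤ D) [B.Additive]

theorem isZero_rightDerived (n : ℕ) (X : C) : IsZero ((A.rightDerived (n + 1)).obj X) := by
  let R := injectiveResolution X
  refine IsZero.of_iso ?_ (R.isoRightDerivedObj A (n + 1))
  refine (HomologicalComplex.exactAt_iff_isZero_homology _ _).mp ?_
  rw [HomologicalComplex.exactAt_iff' _ n (n + 1) (n + 2) (by simp) (by simp)]
  exact (R.exact_succ n).map A

/-- The mapped resolution. -/
noncomputable def res (X : C) : InjectiveResolution (A.obj X) :=
  Groth.CohBase.mapResolution A (injectiveResolution X)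
    (fun I hI => A.injective_obj I) (fun n => isZero_rightDerived A n X)

/-- The comparison of complexes. -/
noncomputable def cxIso (K : CochainComplex C ℕ) :
    ((A ⋙ B).mapHomologicalComplex (ComplexShape.up ℕ)).obj K ≅
      (B.mapHomologicalComplex _).obj ((A.mapHomologicalComplex _).obj K) :=
  HomologicalComplex.Hom.isoOfComponents (fun i => Iso.refl _)
    (fun i j _ => (Category.id_comp _).trans (Category.comp_id _).symm)

/-- `(A ⋙ B)ⁱ ≅ A ⋙ Bⁱ`. -/
noncomputable def rightDerivedCompIso (i : ℕ) :
    (A ⋙ B).rightDerived i ≅ A ⋙ B.rightDerived i :=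
  NatIso.ofComponents
    (fun X => (injectiveResolution X).isoRightDerivedObj (A ⋙ B) i ≪≫
      (HomologicalComplex.homologyFunctor D _ i).mapIso (cxIso A B (injectiveResolution X).cocomplex) ≪≫
      ((res A X).isoRightDerivedObj B i).symm)
    (fun {X Y} f => by
      let g := InjectiveResolution.desc f (injectiveResolution Y) (injectiveResolution X)
      have hg : (injectiveResolution X).ι.f 0 ≫ g.f 0 = f ≫ (injectiveResolution Y).ι.f 0 :=
        InjectiveResolution.desc_commutes_zero f _ _
      have hg' : (res A X).ι.f 0 ≫ ((A.mapHomologicalComplex _).map g).f 0 =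
          A.map f ≫ (res A Y).ι.f 0 := by
        have e : ∀ Z : C, (res A Z).ι.f 0 = A.map ((injectiveResolution Z).ι.f 0) := fun Z =>
          CochainComplex.fromSingle₀Equiv_symm_apply_f_zero
            (C := (A.mapHomologicalComplex (ComplexShape.up ℕ)).obj (injectiveResolution Z).cocomplex)
            (A.map (Groth.CohBase.resι (injectiveResolution Z)))
            (Groth.CohBase.map_resι_d A (injectiveResolution Z))
        rw [e, e]
        exact (A.map_comp _ _).symm.trans ((congrArg A.map hg).trans (A.map_comp _ _))
      have h1 := InjectiveResolution.isoRightDerivedObj_hom_naturality f (injectiveResolution X)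
        (injectiveResolution Y) g hg (A ⋙ B) i
      have h2 := InjectiveResolution.isoRightDerivedObj_inv_naturality (A.map f) (res A X) (res A Y)
        ((A.mapHomologicalComplex _).map g) hg' B i
      have h3 : ((A ⋙ B).mapHomologicalComplex _).map g ≫
          (cxIso A B (injectiveResolution Y).cocomplex).hom =
            (cxIso A B (injectiveResolution X).cocomplex).hom ≫
              (B.mapHomologicalComplex _).map ((A.mapHomologicalComplex _).map g) := by
        ext k
        exact (Category.comp_id _).trans (Category.id_comp _).symm
      have h4 := congrArg (HomologicalComplex.homologyFunctor D (ComplexShape.up ℕ) i).map h3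
      rw [Functor.map_comp, Functor.map_comp] at h4
      simp only [Iso.trans_hom, Iso.symm_hom, Functor.mapIso_hom, Category.assoc]
      refine ((Category.assoc _ _ _).symm.trans (congrArg (· ≫ _) h1)).trans ?_
      simp only [Category.assoc]
      refine congrArg (_ ≫ ·) ?_
      refine ((Category.assoc _ _ _).symm.trans (congrArg (· ≫ _) h4)).trans ?_
      rw [Category.assoc]
      exact congrArg (_ ≫ ·) h2.symm)

end Groth.LocCohZBase.DerivedComp
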