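import Groth.Agent.LocCohZBase.SectSupp
import Groth.Agent.SiteCohomology.Flasque
import Mathlib.Topology.Sheaves.SheafCondition.UniqueGluing

/-!
# Sections with support of a flasque sheaf form a flasque sheaf
-/

universe u

open CategoryTheory CategoryTheory.Limits Opposite TopologicalSpace

namespace Groth.LocCohZBase

variable {X : TopCat.{u}}

/-- Gluing two sections. -/
theorem exists_glue₂ (F : CohTop.Ab X) {S T W : Opens X} (hS : S ≤ W) (hT : T ≤ W) (hW : W ≤ S ⊔ T)
    (s : F.obj.obj (op S)) (t : F.obj.obj (op T))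
    (h : F.obj.map (homOfLE (inf_le_left : S ⊓ T ≤ S)).op s =
      F.obj.map (homOfLE (inf_le_right : S ⊓ T ≤ T)).op t) :
    ∃ g : F.obj.obj (op W), F.obj.map (homOfLE hS).op g = s ∧ F.obj.map (homOfLE hT).op g = t := by
  let F' : TopCat.Sheaf AddCommGrpCat.{u} X := ⟨F.obj, F.property⟩
  let V : Bool → Opens X := fun b ↦ bif b then S else T
  let sf : ∀ b, F.obj.obj (op (V b)) := fun b ↦ by cases b; exacts [t, s]
  have hle : ∀ b, V b ≤ W := by rintro (_ | _) <;> assumption
  obtain ⟨g, hg, -⟩ := F'.existsUnique_gluing' V W (fun b ↦ homOfLE (hle b))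
    (hW.trans (sup_le (le_iSup V true) (le_iSup V false))) sf (by
      rintro (_ | _) (_ | _)
      · rfl
      · have := congrArg (F.obj.map (homOfLE (le_inf inf_le_right inf_le_left : T ⊓ S ≤ S ⊓ T)).op) h
        rw [← ConcreteCategory.comp_apply, ← ConcreteCategory.comp_apply, ← Functor.map_comp,
          ← Functor.map_comp] at this
        exact this.symm
      · exact h
      · rfl)
  exact ⟨g, hg true, hg false⟩

theorem map_map (F : CohTop.Ab X) {A B C : (Opens X)ᵒᵖ} (f : A ⟶ B) (g : B ⟶ C) (h : A ⟶ C)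
    (s : F.obj.obj A) : F.obj.map g (F.obj.map f s) = F.obj.map h s := by
  rw [← ConcreteCategory.comp_apply, ← F.obj.map_comp]
  congr 3

theorem isFlasque_sectSupp (A : CohTop.Ab X) [TopCat.Sheaf.IsFlasque A] (U : Opens X) :
    TopCat.Sheaf.IsFlasque ((LocCohZ.sectSuppF U).obj A) := by
  rw [Groth.SiteCohomology.isFlasque_iff_surjective]
  intro V W f x
  have hflasque := (Groth.SiteCohomology.isFlasque_iff_surjective A).1 ‹_›
  have hWV : W ≤ V := leOfHom f
  obtain ⟨g, hg, hg0⟩ := exists_glue₂ A (le_sup_left : W ≤ W ⊔ (V ⊓ U)) le_sup_right le_rfl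
    ((suppι U A).hom.app (op W) x) 0 (by
      rw [map_zero, ← map_map A (homOfLE (inf_le_left : W ⊓ U ≤ W)).op
        (homOfLE (le_inf inf_le_left (inf_le_right.trans inf_le_right) : W ⊓ (V ⊓ U) ≤ W ⊓ U)).op,
        suppι_res, map_zero])
  obtain ⟨s, hs⟩ := hflasque (homOfLE (sup_le hWV inf_le_left : W ⊔ (V ⊓ U) ≤ V)) g
  obtain ⟨y, hy⟩ := exists_suppι U A V s (by
    rw [← map_map A (homOfLE (sup_le hWV inf_le_left : W ⊔ (V ⊓ U) ≤ V)).op
      (homOfLE (le_sup_right : V ⊓ U ≤ W ⊔ (V ⊓ U))).op, hs]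
    exact hg0)
  refine ⟨y, suppι_injective U A W ?_⟩
  have h1 := congrArg (fun m : ((LocCohZ.sectSuppF U).obj A).obj.obj (op V) ⟶ A.obj.obj (op W) => m y)
    ((suppι U A).hom.naturality f.op)
  refine h1.trans ?_
  change A.obj.map f.op ((suppι U A).hom.app (op V) y) = _
  rw [hy, ← map_map A (homOfLE (sup_le hWV inf_le_left : W ⊔ (V ⊓ U) ≤ V)).op
    (homOfLE (le_sup_left : W ≤ W ⊔ (V ⊓ U))).op f.op, hs]
  exact hg

end Groth.LocCohZBase
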