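import Groth.Agent.LocCohZBase.RestrExact
import Groth.Agent.LocCohZBase.Flasque
import Groth.Agent.SiteCohomology.ExtBasic
import Mathlib.Algebra.Homology.DerivedCategory.Ext.Map
import Mathlib.CategoryTheory.Abelian.GrothendieckCategory.EnoughInjectives

/-!
# Cohomology with supports does not depend on the ambient open
-/

universe u

open CategoryTheory CategoryTheory.Limits Opposite TopologicalSpace

namespace Groth.LocCohZBase

open Abelian

variable {X : TopCat.{u}} {W V : Opens X}

/-- Morphisms out of `ℤ_{V∖W}` are sections over `V` vanishing on `W`. -/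
noncomputable def zqVal {W V : Opens X} (h : W ≤ V) (G : CohTop.Ab X) (φ : LocCohZ.zq h ⟶ G) :
    G.obj.obj (op V) :=
  CohFree.evalGen (Opens.grothendieckTopology X) V G
    (cokernel.π (CohCx.freeSheafMap (Opens.grothendieckTopology X) (homOfLE h)) ≫ φ)

theorem zqVal_injective (h : W ≤ V) (G : CohTop.Ab X) : Function.Injective (zqVal h G) := fun a b e => by
  rw [← cancel_epi (cokernel.π (CohCx.freeSheafMap (Opens.grothendieckTopology X) (homOfLE h)))]
  exact (CohFree.homEquivSect (Opens.grothendieckTopology X) V G).injective e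

theorem exists_zqVal_iff (h : W ≤ V) (G : CohTop.Ab X) (s : G.obj.obj (op V)) :
    (∃ φ, zqVal h G φ = s) ↔ G.obj.map (homOfLE h).op s = 0 := by
  constructor
  · rintro ⟨φ, rfl⟩
    rw [zqVal, ← CohFree.evalGen_freeSheafMap_comp, cokernel.condition_assoc, zero_comp, map_zero]
  · intro hs
    let e : LocCohZ.zq h ⟶ G := Abelian.Ext.addEquiv₀ ((LocCohZ.sect0Equiv G h).symm ⟨s, hs⟩)
    exact ⟨e, congrArg Subtype.val ((LocCohZ.sect0Equiv G h).apply_symm_apply ⟨s, hs⟩)⟩

theorem zqVal_comp (h : W ≤ V) {G H : CohTop.Ab X} (φ : LocCohZ.zq h ⟶ G) (ψ : G ⟶ H) :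
    zqVal h H (φ ≫ ψ) = ψ.hom.app (op V) (zqVal h G φ) := rfl

variable (h : W ≤ V)

/-- The trace of `W` on `V`. -/
noncomputable abbrev traceW (W V : Opens X) : Opens (TopCat.of V) :=
  (Opens.map (CohCx.incl V)).obj W

theorem functor_top_le (V : Opens X) : (isOpenMap_incl V).functor.obj ⊤ ≤ V := functor_obj_le V ⊤

theorem le_functor_top (V : Opens X) : V ≤ (isOpenMap_incl V).functor.obj ⊤ :=
  (le_functor_map V (le_refl V)).trans (leOfHom ((isOpenMap_incl V).functor.map (homOfLE le_top)))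

theorem functor_traceW_le (W V : Opens X) : (isOpenMap_incl V).functor.obj (traceW W V) ≤ W := by
  rw [functor_map_obj]
  exact inf_le_left

/-- The canonical map `ℤ_{V∖W}` on `V` to the restriction of `ℤ_{V∖W}`. -/
theorem exists_canon : ∃ c : LocCohZ.zq (le_top : traceW W V ≤ ⊤) ⟶
    (CohTop.restrFunctor V).obj (LocCohZ.zq h),
      zqVal (le_top : traceW W V ≤ ⊤) _ c =
        (LocCohZ.zq h).obj.map (homOfLE (functor_top_le V)).op (zqVal h _ (𝟙 (LocCohZ.zq h))) := by
  refine (exists_zqVal_iff _ _ _).2 ?_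
  change (LocCohZ.zq h).obj.map ((isOpenMap_incl V).functor.map (homOfLE le_top)).op
    ((LocCohZ.zq h).obj.map (homOfLE (functor_top_le V)).op (zqVal h _ (𝟙 (LocCohZ.zq h)))) = 0
  rw [map_map (LocCohZ.zq h) _ _ ((homOfLE h).op ≫ (homOfLE (functor_traceW_le W V)).op),
    ← map_map (LocCohZ.zq h) (homOfLE h).op (homOfLE (functor_traceW_le W V)).op,
    (exists_zqVal_iff h (LocCohZ.zq h) _).1 ⟨𝟙 _, rfl⟩, map_zero]

/-- The canonical map. -/
noncomputable def canon : LocCohZ.zq (le_top : traceW W V ≤ ⊤) ⟶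
    (CohTop.restrFunctor V).obj (LocCohZ.zq h) := (exists_canon h).choose

theorem zqVal_canon_map {F : CohTop.Ab X} (φ : LocCohZ.zq h ⟶ F) :
    zqVal (le_top : traceW W V ≤ ⊤) _ (canon h ≫ (CohTop.restrFunctor V).map φ) =
      F.obj.map (homOfLE (functor_top_le V)).op (zqVal h F φ) := by
  rw [zqVal_comp, show zqVal (le_top : traceW W V ≤ ⊤) _ (canon h) = _ from (exists_canon h).choose_spec]
  conv_rhs => rw [← Category.id_comp φ, zqVal_comp]
  exact congrArg (fun m : (LocCohZ.zq h).obj.obj (op V) ⟶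
    F.obj.obj (op ((isOpenMap_incl V).functor.obj ⊤)) => m (zqVal h _ (𝟙 (LocCohZ.zq h))))
    (φ.hom.naturality (homOfLE (functor_top_le V)).op)

theorem res_functor_top_bijective (F : CohTop.Ab X) :
    Function.Bijective (F.obj.map (homOfLE (functor_top_le V)).op) := by
  have : IsIso (homOfLE (functor_top_le V)) :=
    ⟨homOfLE (le_functor_top V), Subsingleton.elim _ _, Subsingleton.elim _ _⟩
  exact ConcreteCategory.bijective_of_isIso _

/-- The comparison map. -/
noncomputable def restrExt (F : CohTop.Ab X) (i : ℕ) :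
    LocCohZ.HZ F i h →+ LocCohZ.HZc (CohTop.restr F V) i (traceW W V) :=
  ((Ext.mk₀ (canon h)).precomp _ (zero_add i)).comp
    ((CohTop.restrFunctor V).mapExtAddHom (LocCohZ.zq h) F i)

theorem restrExt_apply (F : CohTop.Ab X) (i : ℕ) (x : LocCohZ.HZ F i h) :
    restrExt h F i x = (Ext.mk₀ (canon h)).comp
      (x.mapExactFunctor (CohTop.restrFunctor V)) (zero_add i) := rfl

theorem restrExt_comp {F G : CohTop.Ab X} {i n m : ℕ} (x : LocCohZ.HZ F i h) (y : Ext F G n)
    (hm : i + n = m) :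
    restrExt h G m (x.comp y hm) =
      (restrExt h F i x).comp (y.mapExactFunctor (CohTop.restrFunctor V)) hm := by
  rw [restrExt_apply, restrExt_apply, Ext.mapExactFunctor_comp,
    Ext.comp_assoc _ _ _ (zero_add i) hm (by omega)]

theorem bijective_zero (F : CohTop.Ab X) : Function.Bijective (restrExt h F 0) := by
  have key : ∀ φ : LocCohZ.zq h ⟶ F, restrExt h F 0 (Ext.mk₀ φ) =
      Ext.mk₀ (canon h ≫ (CohTop.restrFunctor V).map φ) := fun φ => by
    rw [restrExt_apply, Ext.mapExactFunctor_mk₀, Ext.mk₀_comp_mk₀]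
  refine ⟨fun x y e => ?_, fun y => ?_⟩
  · obtain ⟨φ, rfl⟩ := (Ext.mk₀_bijective _ _).2 x
    obtain ⟨ψ, rfl⟩ := (Ext.mk₀_bijective _ _).2 y
    rw [key, key] at e
    refine congrArg Ext.mk₀ (zqVal_injective h F ((res_functor_top_bijective F).1 ?_))
    rw [← zqVal_canon_map, ← zqVal_canon_map, (Ext.mk₀_bijective _ _).1 e]
  · obtain ⟨ψ, rfl⟩ := (Ext.mk₀_bijective _ _).2 y
    obtain ⟨s, hs⟩ := (res_functor_top_bijective F).2 (zqVal (le_top : traceW W V ≤ ⊤) _ ψ)
    have h0 := (exists_zqVal_iff (le_top : traceW W V ≤ ⊤) (CohTop.restr F V) _).1 ⟨ψ, rfl⟩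
    change F.obj.map ((isOpenMap_incl V).functor.map (homOfLE le_top)).op _ = 0 at h0
    rw [← hs, map_map F _ _ ((homOfLE h).op ≫ (homOfLE (functor_traceW_le W V)).op),
      ← map_map F (homOfLE h).op (homOfLE (functor_traceW_le W V)).op] at h0
    have hW : W ≤ (isOpenMap_incl V).functor.obj (traceW W V) := by
      rw [functor_map_obj]
      exact le_inf le_rfl h
    have h1 : F.obj.map (homOfLE h).op s = 0 := by
      have := congrArg (F.obj.map (homOfLE hW).op) h0
      rwa [map_zero, map_map F _ _ (𝟙 _), CategoryTheory.Functor.map_id, AddCommGrpCat.id_apply] at this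
    obtain ⟨φ, hφ⟩ := (exists_zqVal_iff h F s).2 h1
    refine ⟨Ext.mk₀ φ, ?_⟩
    rw [key]
    refine congrArg Ext.mk₀ (zqVal_injective _ _ ?_)
    rw [zqVal_canon_map, hφ, hs]

theorem bijective_restrExt (i : ℕ) : ∀ F : CohTop.Ab X, Function.Bijective (restrExt h F i) := by
  induction i with
  | zero => exact bijective_zero h
  | succ i ih =>
    intro F
    let S := Groth.SiteCohomology.injSES F
    have hS : S.ShortExact := Groth.SiteCohomology.injSES_shortExact F
    have hI : Injective S.X₂ := inferInstanceAs (Injective (Injective.under F))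
    have hI' : Injective ((CohTop.restrFunctor V).obj S.X₂) := injective_restr V S.X₂
    have hS' := hS.map_of_exact (CohTop.restrFunctor V)
    have hδ : ∀ x : LocCohZ.HZ S.X₃ i h, restrExt h F (i + 1) (x.comp hS.extClass rfl) =
        (restrExt h S.X₃ i x).comp hS'.extClass rfl := fun x =>
      (restrExt_comp h x hS.extClass rfl).trans
        (congrArg (fun z => (restrExt h S.X₃ i x).comp z rfl)
          (Ext.mapExactFunctor_extClass (CohTop.restrFunctor V) hS))
    refine ⟨?_, fun y => ?_⟩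
    · rw [injective_iff_map_eq_zero]
      intro x hx
      obtain ⟨a, rfl⟩ := Ext.covariant_sequence_exact₁ _ hS x
        (@Subsingleton.elim _ (Ext.subsingleton_of_injective _ _ i) _ _) (n₀ := i) rfl
      rw [hδ] at hx
      obtain ⟨b, hb⟩ := Ext.covariant_sequence_exact₃ _ hS' _ rfl hx
      obtain ⟨b', rfl⟩ := (ih S.X₂).2 b
      have ha : a = b'.comp (Ext.mk₀ S.g) (add_zero i) := (ih S.X₃).1 (by
        rw [restrExt_comp, Ext.mapExactFunctor_mk₀]
        exact hb.symm)
      rw [ha, Ext.comp_assoc _ _ _ (add_zero i) (zero_add 1) (by omega), hS.comp_extClass, Ext.comp_zero]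
    · obtain ⟨b, rfl⟩ := Ext.covariant_sequence_exact₁ _ hS' y
        (@Subsingleton.elim _ (Ext.subsingleton_of_injective _ ((CohTop.restrFunctor V).obj S.X₂) i) _ _)
        (n₀ := i) rfl
      obtain ⟨a, rfl⟩ := (ih S.X₃).2 b
      exact ⟨_, hδ a⟩

theorem exists_natural_addEquiv (i : ℕ) :
    ∃ e : ∀ F : CohTop.Ab X,
        LocCohZ.HZ F i h ≃+ LocCohZ.HZc (CohTop.restr F V) i ((Opens.map (CohCx.incl V)).obj W),
      ∀ (F G : CohTop.Ab X) (φ : F ⟶ G) (x : LocCohZ.HZ F i h),
        e G (LocCohZ.map φ i h x) =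
          LocCohZ.map ((CohTop.restrFunctor V).map φ) i
            (le_top : (Opens.map (CohCx.incl V)).obj W ≤ ⊤) (e F x) := by
  refine ⟨fun F => AddEquiv.ofBijective (restrExt h F i) (bijective_restrExt h i F), fun F G φ x => ?_⟩
  change restrExt h G i (x.comp (Ext.mk₀ φ) (add_zero i)) = _
  rw [restrExt_comp, Ext.mapExactFunctor_mk₀]
  rfl

end Groth.LocCohZBase
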