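import Groth.Prelude.Def_LocCohZ
import Mathlib.CategoryTheory.Sites.EpiMono
import Mathlib.Algebra.Homology.ShortComplex.Ab
import Mathlib.CategoryTheory.Adjunction.Unique

/-!
# Sections of the subsheaf of sections with support, and exactness of sheaf complexes
-/

universe u

open CategoryTheory CategoryTheory.Limits Opposite TopologicalSpace

namespace Groth.LocCohZBase

section Sheaf

variable {C : Type u} [SmallCategory C] {J : GrothendieckTopology C}

/-- Evaluation at an object of the site. -/
noncomputable abbrev evalAt (J : GrothendieckTopology C) (U : Cᵒᵖ) :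
    Sheaf J AddCommGrpCat.{u} ⥤ AddCommGrpCat.{u} :=
  sheafToPresheaf J _ ⋙ (evaluation Cᵒᵖ AddCommGrpCat.{u}).obj U

theorem kernel_sections {F G : Sheaf J AddCommGrpCat.{u}} (φ : F ⟶ G) (U : Cᵒᵖ) :
    Function.Injective ((kernel.ι φ).hom.app U) ∧
      (∀ x, φ.hom.app U ((kernel.ι φ).hom.app U x) = 0) ∧
      (∀ y, φ.hom.app U y = 0 → ∃ x, (kernel.ι φ).hom.app U x = y) := by
  let S : ShortComplex (Sheaf J AddCommGrpCat.{u}) :=
    ShortComplex.mk (kernel.ι φ) φ (kernel.condition φ)
  have hS : S.Exact := ShortComplex.exact_of_f_is_kernel _ (kernelIsKernel φ)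
  have hm : Mono S.f := inferInstanceAs (Mono (kernel.ι φ))
  have hz : (evalAt J U).PreservesZeroMorphisms := ⟨fun _ _ => rfl⟩
  refine ⟨(AddCommGrpCat.mono_iff_injective ((evalAt J U).map S.f)).1 inferInstance, fun x => ?_, ?_⟩
  · exact congrArg (fun g : kernel φ ⟶ G => g.hom.app U x) (kernel.condition φ)
  · exact (ShortComplex.ab_exact_iff _).1
      (hS.map_of_mono_of_preservesKernel (evalAt J U) hm inferInstance)

/-- A short complex of sheaves is exact iff every cycle is locally a boundary. -/
theorem exact_iff_imageSieve_mem (S : ShortComplex (Sheaf J AddCommGrpCat.{u})) :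
    S.Exact ↔ ∀ (V : C) (s : S.X₂.obj.obj (op V)), S.g.hom.app (op V) s = 0 →
      Presheaf.imageSieve S.f.hom s ∈ J V := by
  rw [S.exact_iff_epi_kernel_lift, ← Sheaf.isLocallySurjective_iff_epi' AddCommGrpCat.{u}]
  have key : ∀ (V : C) (x : (kernel S.g).obj.obj (op V)),
      Presheaf.imageSieve (kernel.lift S.g S.f S.zero).hom x =
        Presheaf.imageSieve S.f.hom ((kernel.ι S.g).hom.app (op V) x) := by
    intro V x
    have hnat : ∀ {W : C} (f : W ⟶ V), (kernel.ι S.g).hom.app (op W) ((kernel S.g).obj.map f.op x)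
        = S.X₂.obj.map f.op ((kernel.ι S.g).hom.app (op V) x) := fun {W} f =>
      congrArg (fun g : (kernel S.g).obj.obj (op V) ⟶ S.X₂.obj.obj (op W) => g x)
        ((kernel.ι S.g).hom.naturality f.op)
    have hl : ∀ {W : C} (t : S.X₁.obj.obj (op W)),
        (kernel.ι S.g).hom.app (op W) ((kernel.lift S.g S.f S.zero).hom.app (op W) t) =
          S.f.hom.app (op W) t := fun {W} t =>
      congrArg (fun g : S.X₁ ⟶ S.X₂ => g.hom.app (op W) t) (kernel.lift_ι S.g S.f S.zero)
    ext W f
    constructor
    · rintro ⟨t, ht⟩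
      exact ⟨t, by rw [← hl, ← hnat f]; exact congrArg _ ht⟩
    · rintro ⟨t, ht⟩
      exact ⟨t, (kernel_sections S.g _).1 ((hl t).trans (ht.trans (hnat f).symm))⟩
  constructor
  · intro h V s hs
    obtain ⟨x, rfl⟩ := (kernel_sections S.g (op V)).2.2 s hs
    rw [← key]
    exact Presheaf.imageSieve_mem J (kernel.lift S.g S.f S.zero).hom x
  · intro h
    exact ⟨fun {V} x => key V x ▸ h V _ ((kernel_sections S.g (op V)).2.1 x)⟩

end Sheaf

variable {X : TopCat.{u}} (U : Opens X)

theorem isOpenMap_incl : IsOpenMap (CohCx.incl U) := U.isOpen.isOpenMap_subtype_val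

theorem functor_isContinuous : (isOpenMap_incl U).functor.IsContinuous
    (Opens.grothendieckTopology (TopCat.of U)) (Opens.grothendieckTopology X) :=
  Topology.IsOpenEmbedding.functor_isContinuous (f := CohCx.incl U) U.isOpenEmbedding'

theorem map_isContinuous : (Opens.map (CohCx.incl U)).IsContinuous
    (Opens.grothendieckTopology X) (Opens.grothendieckTopology (TopCat.of U)) :=
  Functor.isContinuous_of_coverPreserving (compatiblePreserving_opens_map (CohCx.incl U))
    (coverPreserving_opens_map (CohCx.incl U))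

attribute [local instance] functor_isContinuous map_isContinuous

/-- Restriction to an open is left adjoint to direct image. -/
noncomputable def restrAdj : CohTop.restrFunctor U ⊣ CohTop.push (CohCx.incl U) :=
  (isOpenMap_incl U).adjunction.sheafPushforwardContinuous
    (Opens.grothendieckTopology (TopCat.of U)) (Opens.grothendieckTopology X)

/-- Inverse image to an open is restriction. -/
noncomputable def pullInclIso : CohTop.pull (CohCx.incl U) ≅ CohTop.restrFunctor U :=
  Adjunction.leftAdjointUniq (TopCat.Sheaf.pullbackPushforwardAdjunction AddCommGrpCat.{u}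
    (CohCx.incl U)) (restrAdj U)

theorem map_eq_zero_iff_of_eq (F : CohTop.Ab X) {W W' V : Opens X} (i : W ⟶ V) (i' : W' ⟶ V)
    (e : W = W') (s : F.obj.obj (op V)) : F.obj.map i.op s = 0 ↔ F.obj.map i'.op s = 0 := by
  subst e
  rw [Subsingleton.elim i i']

theorem functor_map_obj (V : Opens X) :
    (isOpenMap_incl U).functor.obj ((Opens.map (CohCx.incl U)).obj V) = V ⊓ U := by
  ext x
  constructor
  · rintro ⟨⟨y, hy⟩, hyV, rfl⟩
    exact ⟨hyV, hy⟩
  · rintro ⟨hxV, hxU⟩
    exact ⟨⟨x, hxU⟩, hxV, rfl⟩

theorem unit_eq_zero_iff (F : CohTop.Ab X) (V : Opens X) (s : F.obj.obj (op V)) :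
    ((TopCat.Sheaf.pullbackPushforwardAdjunction AddCommGrpCat.{u} (CohCx.incl U)).unit.app F).hom.app
        (op V) s = 0 ↔
      F.obj.map (homOfLE (inf_le_left : V ⊓ U ≤ V)).op s = 0 := by
  have h := Adjunction.unit_leftAdjointUniq_hom_app (TopCat.Sheaf.pullbackPushforwardAdjunction
    AddCommGrpCat.{u} (CohCx.incl U)) (restrAdj U) F
  have hcomp := congrArg (fun g : F ⟶ (CohTop.push (CohCx.incl U)).obj
    ((CohTop.restrFunctor U).obj F) => g.hom.app (op V) s) h
  have hinj : Function.Injective (((CohTop.push (CohCx.incl U)).map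
      ((pullInclIso U).hom.app F)).hom.app (op V)) := by
    have : IsIso ((evalAt _ (op V)).map ((CohTop.push (CohCx.incl U)).map
      ((pullInclIso U).hom.app F))) := inferInstance
    exact (AddCommGrpCat.mono_iff_injective ((evalAt _ (op V)).map ((CohTop.push (CohCx.incl U)).map
      ((pullInclIso U).hom.app F)))).1 inferInstance
  have h2 : ((restrAdj U).unit.app F).hom.app (op V) s =
      F.obj.map ((isOpenMap_incl U).adjunction.counit.app V).op s := rfl
  rw [← map_eq_zero_iff_of_eq F ((isOpenMap_incl U).adjunction.counit.app V) _ (functor_map_obj U V),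
    ← h2, ← hcomp]
  exact ⟨fun e => (congrArg (((CohTop.push (CohCx.incl U)).map
      ((pullInclIso U).hom.app F)).hom.app (op V)).hom e).trans (map_zero _),
    fun e => hinj (e.trans (map_zero _).symm)⟩

/-- The inclusion of sections with support. -/
noncomputable abbrev suppι (F : CohTop.Ab X) : (LocCohZ.sectSuppF U).obj F ⟶ F :=
  kernel.ι _

theorem suppι_injective (F : CohTop.Ab X) (V : Opens X) :
    Function.Injective ((suppι U F).hom.app (op V)) :=
  (kernel_sections _ (op V)).1

theorem suppι_res (F : CohTop.Ab X) (V : Opens X) (x : ((LocCohZ.sectSuppF U).obj F).obj.obj (op V)) :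
    F.obj.map (homOfLE (inf_le_left : V ⊓ U ≤ V)).op ((suppι U F).hom.app (op V) x) = 0 :=
  (unit_eq_zero_iff U F V _).1 ((kernel_sections _ (op V)).2.1 x)

theorem exists_suppι (F : CohTop.Ab X) (V : Opens X) (s : F.obj.obj (op V))
    (hs : F.obj.map (homOfLE (inf_le_left : V ⊓ U ≤ V)).op s = 0) :
    ∃ x, (suppι U F).hom.app (op V) x = s :=
  (kernel_sections _ (op V)).2.2 s ((unit_eq_zero_iff U F V s).2 hs)

theorem suppι_naturality {F G : CohTop.Ab X} (φ : F ⟶ G) :
    (LocCohZ.sectSuppF U).map φ ≫ suppι U G = suppι U F ≫ φ :=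
  kernel.lift_ι _ _ _

theorem suppι_naturality_apply {F G : CohTop.Ab X} (φ : F ⟶ G) (V : Opens X)
    (x : ((LocCohZ.sectSuppF U).obj F).obj.obj (op V)) :
    (suppι U G).hom.app (op V) (((LocCohZ.sectSuppF U).map φ).hom.app (op V) x) =
      φ.hom.app (op V) ((suppι U F).hom.app (op V) x) :=
  congrArg (fun g : (LocCohZ.sectSuppF U).obj F ⟶ G => g.hom.app (op V) x) (suppι_naturality U φ)

end Groth.LocCohZBase
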