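import Groth.Prelude.Def_LocCohZ
import Mathlib.CategoryTheory.Abelian.Exact
import Mathlib.CategoryTheory.Abelian.Refinements

/-!
# The short exact sequence of a triple of opens
-/

universe u v w

open CategoryTheory CategoryTheory.Limits TopologicalSpace

namespace Groth.LocCohZBase

section Cat

variable {A : Type u} [Category.{v} A] [Abelian A] {P Q R : A} (j : P ⟶ Q) (i : Q ⟶ R)

/-- `Q/P ⟶ R/P ⟶ R/Q` for monomorphisms `P ⟶ Q ⟶ R`. -/
theorem shortExact_cokernel_comp [Mono i] {k : P ⟶ R} (hk : j ≫ i = k)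
    (f : cokernel j ⟶ cokernel k) (g : cokernel k ⟶ cokernel i)
    (hf : cokernel.π j ≫ f = i ≫ cokernel.π k) (hg : cokernel.π k ≫ g = cokernel.π i) :
    ∃ w : f ≫ g = 0, (ShortComplex.mk f g w).ShortExact := by
  have w : f ≫ g = 0 := by
    rw [← cancel_epi (cokernel.π j), reassoc_of% hf, hg, cokernel.condition, comp_zero]
  refine ⟨w, ?_⟩
  have hepi : Epi g := by
    have : Epi (cokernel.π k ≫ g) := by rw [hg]; infer_instance
    exact epi_of_epi (cokernel.π k) g
  have hc : IsColimit (CokernelCofork.ofπ g w) :=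
    CokernelCofork.IsColimit.ofπ' _ _ fun {T} t ht => by
      have h1 : i ≫ cokernel.π k ≫ t = 0 := by
        rw [← reassoc_of% hf, ht, comp_zero]
      refine ⟨cokernel.desc i (cokernel.π k ≫ t) h1, ?_⟩
      rw [← cancel_epi (cokernel.π k), reassoc_of% hg, cokernel.π_desc]
  have hmono : Mono f := by
    refine Preadditive.mono_of_cancel_zero _ fun {T} x hx => ?_
    obtain ⟨T', p, hp, b, hb⟩ := surjective_up_to_refinements_of_epi (cokernel.π j) x
    have h1 : (b ≫ i) ≫ cokernel.π k = 0 := by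
      rw [Category.assoc, ← hf, ← reassoc_of% hb, hx, comp_zero]
    have he : (ShortComplex.mk k (cokernel.π k) (cokernel.condition k)).Exact :=
      ShortComplex.exact_of_g_is_cokernel _ (cokernelIsCokernel k)
    obtain ⟨T'', q, hq, c, hc⟩ := he.exact_up_to_refinements (b ≫ i) h1
    have h2 : q ≫ b = c ≫ j := by
      rw [← cancel_mono i, Category.assoc, Category.assoc, hc]
      simp [← hk]
    rw [← cancel_epi p, ← cancel_epi q, hb, reassoc_of% h2, cokernel.condition]
    simp
  exact ⟨ShortComplex.exact_of_g_is_cokernel _ hc⟩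

end Cat

variable {X : TopCat.{w}}

theorem zqMap_triple {W V T : Opens X} (hWV : W ≤ V) (hVT : V ≤ T) :
    ∃ h : LocCohZ.zqMap (hWV.trans hVT) hWV le_rfl hVT ≫
        LocCohZ.zqMap hVT (hWV.trans hVT) hWV le_rfl = 0,
      (ShortComplex.mk _ _ h).ShortExact := by
  refine shortExact_cokernel_comp
    (CohCx.freeSheafMap (Opens.grothendieckTopology X) (homOfLE hWV))
    (CohCx.freeSheafMap (Opens.grothendieckTopology X) (homOfLE hVT))
    (k := CohCx.freeSheafMap (Opens.grothendieckTopology X) (homOfLE (hWV.trans hVT))) ?_ _ _ ?_ ?_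
  · rw [← CohFree.freeSheafMap_comp]
    rfl
  · simp [LocCohZ.zqMap]
  · simp [LocCohZ.zqMap, CohFree.freeSheafMap_id]

end Groth.LocCohZBase
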