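import Groth.Agent.LocCohZBase.SectSupp
import Mathlib.CategoryTheory.Preadditive.Injective.Preserves

/-!
# Restriction to an open preserves injective abelian sheaves
-/

universe u

open CategoryTheory CategoryTheory.Limits Opposite TopologicalSpace

namespace Groth.LocCohZBase

variable {X : TopCat.{u}} (U : Opens X)

open scoped Classical in
/-- Extension by zero of a presheaf on `U`. -/
noncomputable def extZero (P : (Opens (TopCat.of U))ᵒᵖ ⥤ AddCommGrpCat.{u}) :
    (Opens X)ᵒᵖ ⥤ AddCommGrpCat.{u} where
  obj V := AddCommGrpCat.of (PLift (V.unop ≤ U) → P.obj (op ((Opens.map (CohCx.incl U)).obj V.unop)))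
  map {V W} i := AddCommGrpCat.ofHom
    (AddMonoidHom.mk' (fun s _ => if hV : V.unop ≤ U
        then P.map ((Opens.map (CohCx.incl U)).map i.unop).op (s ⟨hV⟩) else 0)
      (fun a b => by
        funext h
        by_cases hV : V.unop ≤ U <;> simp [hV]))
  map_id V := by
    refine AddCommGrpCat.hom_ext (AddMonoidHom.ext fun s => funext fun h => ?_)
    change (if hV : V.unop ≤ U then
      P.map ((Opens.map (CohCx.incl U)).map (𝟙 V.unop)).op (s ⟨hV⟩) else 0) = s h
    rw [dif_pos h.down, CategoryTheory.Functor.map_id, op_id, CategoryTheory.Functor.map_id]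
    rfl
  map_comp {V W W'} i j := by
    refine AddCommGrpCat.hom_ext (AddMonoidHom.ext fun s => funext fun h => ?_)
    change (if hV : V.unop ≤ U then
        P.map ((Opens.map (CohCx.incl U)).map (i ≫ j).unop).op (s ⟨hV⟩) else 0) =
      (if hW : W.unop ≤ U then P.map ((Opens.map (CohCx.incl U)).map j.unop).op
        (if hV : V.unop ≤ U then P.map ((Opens.map (CohCx.incl U)).map i.unop).op (s ⟨hV⟩) else 0)
        else 0)
    by_cases hV : V.unop ≤ U
    · rw [dif_pos hV, dif_pos ((leOfHom i.unop).trans hV), dif_pos hV,
        ← ConcreteCategory.comp_apply, ← P.map_comp]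
      congr 3
    · rw [dif_neg hV]
      split
      · exact (map_zero _).symm
      · rfl

open scoped Classical in
/-- Extension by zero on morphisms. -/
noncomputable def extZeroMap {P Q : (Opens (TopCat.of U))ᵒᵖ ⥤ AddCommGrpCat.{u}} (f : P ⟶ Q) :
    extZero U P ⟶ extZero U Q where
  app V := AddCommGrpCat.ofHom (AddMonoidHom.mk' (fun s h => f.app _ (s h))
    (fun a b => by funext h; exact map_add _ _ _))
  naturality {V W} i := by
    refine AddCommGrpCat.hom_ext (AddMonoidHom.ext fun s => funext fun h => ?_)
    change f.app _ (if hV : V.unop ≤ U then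
        P.map ((Opens.map (CohCx.incl U)).map i.unop).op (s ⟨hV⟩) else 0) =
      (if hV : V.unop ≤ U then
        Q.map ((Opens.map (CohCx.incl U)).map i.unop).op (f.app _ (s ⟨hV⟩)) else 0)
    split
    · exact congrArg (fun g : P.obj _ ⟶ Q.obj _ => g (s _))
        (f.naturality ((Opens.map (CohCx.incl U)).map i.unop).op)
    · exact map_zero _

theorem map_functor_obj (A : Opens (TopCat.of U)) :
    (Opens.map (CohCx.incl U)).obj ((isOpenMap_incl U).functor.obj A) = A := by
  ext y
  exact ⟨fun ⟨z, hz, e⟩ => Subtype.ext (show (z : X) = y from e) ▸ hz, fun h => ⟨y, h, rfl⟩⟩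

theorem le_functor_map {V : Opens X} (h : V ≤ U) :
    V ≤ (isOpenMap_incl U).functor.obj ((Opens.map (CohCx.incl U)).obj V) := by
  rw [functor_map_obj]
  exact le_inf le_rfl h

theorem functor_obj_le (A : Opens (TopCat.of U)) : (isOpenMap_incl U).functor.obj A ≤ U := by
  rintro _ ⟨z, -, rfl⟩
  exact z.2

theorem injective_restr (I : CohTop.Ab X) [Injective I] :
    Injective ((CohTop.restrFunctor U).obj I) := by
  classical
  refine ⟨fun {A B} φ f hf => ?_⟩
  have hI : Injective I.obj :=
    Injective.injective_of_adjoint (sheafificationAdjunction (Opens.grothendieckTopology X)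
      AddCommGrpCat.{u}) I
  have hf' : ∀ W : (Opens (TopCat.of U))ᵒᵖ, Function.Injective (f.hom.app W) := fun W =>
    (AddCommGrpCat.mono_iff_injective ((evalAt _ W).map f)).1 inferInstance
  have hmono : Mono (extZeroMap U f.hom) := by
    have : ∀ V, Mono ((extZeroMap U f.hom).app V) := fun V => by
      rw [AddCommGrpCat.mono_iff_injective]
      intro a b e
      funext h
      exact hf' _ (congrFun e h)
    exact NatTrans.mono_of_mono_app _
  let ψ : extZero U A.obj ⟶ I.obj :=
    { app := fun V => AddCommGrpCat.ofHom (AddMonoidHom.mk'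
        (fun s => if hV : V.unop ≤ U
          then I.obj.map (homOfLE (le_functor_map U hV)).op
            (φ.hom.app (op ((Opens.map (CohCx.incl U)).obj V.unop)) (s ⟨hV⟩))
          else 0)
        (fun a b => by
          by_cases hV : V.unop ≤ U
          · simp only [dif_pos hV]
            change I.obj.map _ (φ.hom.app _ (a ⟨hV⟩ + b ⟨hV⟩)) = _
            rw [map_add]
            exact map_add _ _ _
          · simp [hV]))
      naturality := fun V W i => by
        refine AddCommGrpCat.hom_ext (AddMonoidHom.ext fun s => ?_)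
        change (if hW : W.unop ≤ U
          then I.obj.map (homOfLE (le_functor_map U hW)).op
            (φ.hom.app _ (if hV : V.unop ≤ U then
              A.obj.map ((Opens.map (CohCx.incl U)).map i.unop).op (s ⟨hV⟩) else 0))
          else 0) = I.obj.map i (if hV : V.unop ≤ U
          then I.obj.map (homOfLE (le_functor_map U hV)).op (φ.hom.app _ (s ⟨hV⟩))
          else 0)
        by_cases hV : V.unop ≤ U
        · rw [dif_pos ((leOfHom i.unop).trans hV), dif_pos hV, dif_pos hV]
          refine (congrArg (I.obj.map _) (congrArg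
            (fun g : A.obj.obj _ ⟶ ((CohTop.restrFunctor U).obj I).obj.obj _ => g (s ⟨hV⟩))
            (φ.hom.naturality ((Opens.map (CohCx.incl U)).map i.unop).op))).trans ?_
          change I.obj.map _ (I.obj.map ((isOpenMap_incl U).functor.map
            ((Opens.map (CohCx.incl U)).map i.unop)).op (φ.hom.app _ (s ⟨hV⟩))) = _
          rw [← ConcreteCategory.comp_apply, ← ConcreteCategory.comp_apply, ← I.obj.map_comp,
            ← I.obj.map_comp]
          congr 3
        · rw [dif_neg hV]
          split
          · exact ((congrArg (I.obj.map _) (map_zero _)).trans (map_zero _)).trans (map_zero _).symm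
          · exact (map_zero _).symm }
  let Ψ := Injective.factorThru ψ (extZeroMap U f.hom)
  have hΨ : extZeroMap U f.hom ≫ Ψ = ψ := Injective.comp_factorThru _ _
  let emb : ∀ (P : (Opens (TopCat.of U))ᵒᵖ ⥤ AddCommGrpCat.{u}) (W : (Opens (TopCat.of U))ᵒᵖ),
      P.obj W ⟶ (extZero U P).obj (op ((isOpenMap_incl U).functor.obj W.unop)) := fun P W =>
    AddCommGrpCat.ofHom (AddMonoidHom.mk'
      (fun b _ => P.map (eqToHom (map_functor_obj U W.unop)).op b)
      (fun a b => by funext h; exact map_add _ _ _))
  let g : B ⟶ (CohTop.restrFunctor U).obj I :=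
    ⟨{ app := fun W => emb B.obj W ≫ Ψ.app (op ((isOpenMap_incl U).functor.obj W.unop))
       naturality := fun W W' i => by
        have hn := Ψ.naturality ((isOpenMap_incl U).functor.map i.unop).op
        ext b
        refine (congrArg (Ψ.app _) (show emb B.obj W' (B.obj.map i b) =
          (extZero U B.obj).map ((isOpenMap_incl U).functor.map i.unop).op (emb B.obj W b) from ?_)).trans
          (congrArg (fun m : (extZero U B.obj).obj _ ⟶ I.obj.obj _ => m (emb B.obj W b)) hn)
        funext h
        change B.obj.map _ (B.obj.map i b) = if hV : _ then B.obj.map _ (B.obj.map _ b) else 0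
        rw [dif_pos (functor_obj_le U _)]
        rw [← ConcreteCategory.comp_apply, ← ConcreteCategory.comp_apply, ← B.obj.map_comp,
          ← B.obj.map_comp]
        congr 3 }⟩
  refine ⟨g, ?_⟩
  ext W a
  have h1 : emb B.obj W (f.hom.app W a) =
      (extZeroMap U f.hom).app _ (emb A.obj W a) := by
    funext h
    exact (congrArg (fun m : A.obj.obj _ ⟶ B.obj.obj _ => m a)
      (f.hom.naturality (eqToHom (map_functor_obj U W.unop)).op)).symm
  change Ψ.app _ (emb B.obj W (f.hom.app W a)) = φ.hom.app W a
  rw [h1]
  refine (congrArg (fun m : extZero U A.obj ⟶ I.obj => m.app _ (emb A.obj W a)) hΨ).trans ?_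
  change (if hV : _ then I.obj.map _ (φ.hom.app _ (A.obj.map _ a)) else 0) = _
  rw [dif_pos (functor_obj_le U _)]
  refine (congrArg (I.obj.map _) (congrArg
    (fun m : A.obj.obj W ⟶ ((CohTop.restrFunctor U).obj I).obj.obj _ => m a)
    (φ.hom.naturality (eqToHom (map_functor_obj U W.unop)).op))).trans ?_
  change I.obj.map _ (I.obj.map ((isOpenMap_incl U).functor.map (eqToHom (map_functor_obj U W.unop))).op (φ.hom.app W a)) = _
  rw [← ConcreteCategory.comp_apply, ← I.obj.map_comp]
  exact congrArg (fun m : I.obj.obj _ ⟶ I.obj.obj _ => m (φ.hom.app W a))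
    (((congrArg I.obj.map (Subsingleton.elim _ (𝟙 _))).trans (I.obj.map_id _)))

instance preservesInjective_restr : (CohTop.restrFunctor U).PreservesInjectiveObjects where
  injective_obj {I} hI := injective_restr U I

theorem injective_pull_incl (I : CohTop.Ab X) [Injective I] :
    Injective ((CohTop.pull (CohCx.incl U)).obj I) :=
  Injective.of_iso ((pullInclIso U).app I).symm (injective_restr U I)

end Groth.LocCohZBase
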