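import Groth.Prelude.Def_LocCohZ
import Groth.Agent.SiteCohomology.Flasque
import Mathlib.Algebra.Homology.DerivedCategory.Ext.ExactSequences

/-!
# The long exact sequence of cohomology with supports
-/

universe u

open CategoryTheory CategoryTheory.Limits Opposite TopologicalSpace

namespace Groth.LocCohZBase

open Abelian

variable {X : TopCat.{u}} (F : CohTop.Ab X) {W V : Opens X} (h : W ≤ V)

theorem res_apply (n : ℕ) (x : CohTop.HU F n V) :
    CohTop.res F n h x =
      (Ext.mk₀ (CohCx.freeSheafMap (Opens.grothendieckTopology X) (homOfLE h))).comp x (zero_add n) :=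
  rfl

theorem res_toHU (n : ℕ) (x : LocCohZ.HZ F n h) : CohTop.res F n h (LocCohZ.toHU F n h x) = 0 := by
  rw [res_apply]
  change Ext.comp _ ((Ext.mk₀ _).comp x (zero_add n)) (zero_add n) = 0
  rw [Ext.mk₀_comp_mk₀_assoc, cokernel.condition, Ext.mk₀_zero, Ext.zero_comp]

theorem delta_res (n : ℕ) (x : CohTop.HU F n V) :
    LocCohZ.delta F n h (CohTop.res F n h x) = 0 := by
  rw [res_apply]
  exact (LocCohZ.zqSeq_shortExact h).extClass_comp_assoc x (h := by omega)

theorem toHU_delta (n : ℕ) (x : CohTop.HU F n W) :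
    LocCohZ.toHU F (n + 1) h (LocCohZ.delta F n h x) = 0 :=
  (LocCohZ.zqSeq_shortExact h).comp_extClass_assoc x (h := by omega)

theorem exact_toHU_res (n : ℕ) (x : CohTop.HU F n V) (hx : CohTop.res F n h x = 0) :
    ∃ y, LocCohZ.toHU F n h y = x :=
  Ext.contravariant_sequence_exact₂ (LocCohZ.zqSeq_shortExact h) F x hx

theorem exact_res_delta (n : ℕ) (x : CohTop.HU F n W) (hx : LocCohZ.delta F n h x = 0) :
    ∃ y, CohTop.res F n h y = x :=
  Ext.contravariant_sequence_exact₁ (LocCohZ.zqSeq_shortExact h) F x (by omega) hx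

theorem exact_delta_toHU (n : ℕ) (x : LocCohZ.HZ F (n + 1) h)
    (hx : LocCohZ.toHU F (n + 1) h x = 0) : ∃ y, LocCohZ.delta F n h y = x :=
  Ext.contravariant_sequence_exact₃ (LocCohZ.zqSeq_shortExact h) F x hx (by omega)

theorem toHU_zero_injective : Function.Injective (LocCohZ.toHU F 0 h) := by
  intro x y hxy
  obtain ⟨f, rfl⟩ := (Ext.mk₀_bijective _ _).2 x
  obtain ⟨g, rfl⟩ := (Ext.mk₀_bijective _ _).2 y
  have e : (Ext.mk₀ (cokernel.π (CohCx.freeSheafMap (Opens.grothendieckTopology X) (homOfLE h)))).comp (Ext.mk₀ f) (zero_add 0) = (Ext.mk₀ (cokernel.π (CohCx.freeSheafMap (Opens.grothendieckTopology X) (homOfLE h)))).comp (Ext.mk₀ g) (zero_add 0) := hxy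
  rw [Ext.mk₀_comp_mk₀, Ext.mk₀_comp_mk₀] at e
  rw [(cancel_epi _).1 ((Ext.mk₀_bijective _ _).1 e)]

theorem subsingleton_zero_iff :
    Subsingleton (LocCohZ.HZ F 0 h) ↔ Function.Injective (CohTop.res F 0 h) := by
  constructor
  · intro _
    rw [injective_iff_map_eq_zero]
    intro x hx
    obtain ⟨y, rfl⟩ := exact_toHU_res F h 0 x hx
    rw [Subsingleton.elim y 0, map_zero]
  · intro hi
    exact subsingleton_of_forall_eq 0 fun x => toHU_zero_injective F h (by
      rw [map_zero]
      exact (injective_iff_map_eq_zero _).1 hi _ (res_toHU F h 0 x))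

theorem subsingleton_succ_iff (n : ℕ) :
    Subsingleton (LocCohZ.HZ F (n + 1) h) ↔
      Function.Surjective (CohTop.res F n h) ∧ Function.Injective (CohTop.res F (n + 1) h) := by
  constructor
  · intro _
    refine ⟨fun x => exact_res_delta F h n x (Subsingleton.elim _ _), ?_⟩
    rw [injective_iff_map_eq_zero]
    intro x hx
    obtain ⟨y, rfl⟩ := exact_toHU_res F h (n + 1) x hx
    rw [Subsingleton.elim y 0, map_zero]
  · rintro ⟨hs, hi⟩
    refine subsingleton_of_forall_eq 0 fun x => ?_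
    obtain ⟨y, rfl⟩ := exact_delta_toHU F h n x
      ((injective_iff_map_eq_zero _).1 hi _ (res_toHU F h (n + 1) x))
    obtain ⟨z, rfl⟩ := hs y
    exact delta_res F h n z

theorem subsingleton_le_iff (N : ℕ) :
    (∀ i ≤ N, Subsingleton (LocCohZ.HZ F i h)) ↔
      (∀ i < N, Function.Bijective (CohTop.res F i h)) ∧ Function.Injective (CohTop.res F N h) := by
  induction N with
  | zero => simp [subsingleton_zero_iff]
  | succ N ih =>
    constructor
    · intro hh
      obtain ⟨h1, h2⟩ := ih.1 fun i hi => hh i (by omega)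
      obtain ⟨h3, h4⟩ := (subsingleton_succ_iff F h N).1 (hh _ le_rfl)
      refine ⟨fun i hi => ?_, h4⟩
      obtain hi | rfl := Nat.lt_succ_iff_lt_or_eq.1 hi
      exacts [h1 i hi, ⟨h2, h3⟩]
    · rintro ⟨h1, h2⟩ i hi
      obtain hi | rfl := Nat.lt_succ_iff_lt_or_eq.1 (Nat.lt_succ_of_le hi)
      · exact ih.2 ⟨fun i hi => h1 i (by omega), (h1 N (by omega)).1⟩ i (by omega)
      · exact (subsingleton_succ_iff F h N).2 ⟨(h1 N (by omega)).2, h2⟩

theorem delta_surjective (n : ℕ) [Subsingleton (CohTop.HU F (n + 1) V)] :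
    Function.Surjective (LocCohZ.delta F n h) :=
  fun x => exact_delta_toHU F h n x (Subsingleton.elim _ _)

theorem delta_injective (n : ℕ) [Subsingleton (CohTop.HU F n V)] :
    Function.Injective (LocCohZ.delta F n h) := by
  rw [injective_iff_map_eq_zero]
  intro x hx
  obtain ⟨y, rfl⟩ := exact_res_delta F h n x hx
  rw [Subsingleton.elim y 0, map_zero]

theorem res_zero_surjective_of_surjective (hs : Function.Surjective (F.obj.map (homOfLE h).op)) :
    Function.Surjective (CohTop.res F 0 h) := by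
  intro x
  obtain ⟨f, rfl⟩ := (Ext.mk₀_bijective _ _).2 x
  obtain ⟨s, hs⟩ := hs (CohFree.evalGen (Opens.grothendieckTopology X) W F f)
  refine ⟨Ext.mk₀ (CohFree.ofSect (Opens.grothendieckTopology X) V F s), ?_⟩
  change (Ext.mk₀ (CohCx.freeSheafMap (Opens.grothendieckTopology X) (homOfLE h))).comp
    (Ext.mk₀ (CohFree.ofSect (Opens.grothendieckTopology X) V F s)) (zero_add 0) = _
  rw [Ext.mk₀_comp_mk₀, Groth.SiteCohomology.freeSheafMap_comp_ofSect, hs,
    CohFree.ofSect_evalGen]

theorem surjective_of_res_zero_surjective (hs : Function.Surjective (CohTop.res F 0 h)) :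
    Function.Surjective (F.obj.map (homOfLE h).op) := by
  intro t
  obtain ⟨x, hx⟩ := hs (Ext.mk₀ (CohFree.ofSect (Opens.grothendieckTopology X) W F t))
  obtain ⟨g, rfl⟩ := (Ext.mk₀_bijective _ _).2 x
  change (Ext.mk₀ (CohCx.freeSheafMap (Opens.grothendieckTopology X) (homOfLE h))).comp
    (Ext.mk₀ g) (zero_add 0) = _ at hx
  rw [Ext.mk₀_comp_mk₀] at hx
  refine ⟨CohFree.evalGen (Opens.grothendieckTopology X) V F g, ?_⟩
  rw [← CohFree.evalGen_freeSheafMap_comp, (Ext.mk₀_bijective _ _).1 hx, CohFree.evalGen_ofSect]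

/-- Flasque sheaves have no higher cohomology with supports. -/
theorem subsingleton_HZ_succ_of_flasque [TopCat.Sheaf.IsFlasque F] (n : ℕ) :
    Subsingleton (LocCohZ.HZ F (n + 1) h) := by
  rw [subsingleton_succ_iff]
  have hv := fun m => Groth.SiteCohomology.subsingleton_HU_succ_of_flasque F V m
  have hw := fun m => Groth.SiteCohomology.subsingleton_HU_succ_of_flasque F W m
  refine ⟨?_, fun x y _ => @Subsingleton.elim _ (hv n) x y⟩
  cases n with
  | zero =>
    exact res_zero_surjective_of_surjective F h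
      ((Groth.SiteCohomology.isFlasque_iff_surjective F).1 ‹_› (homOfLE h))
  | succ m => exact fun x => ⟨0, @Subsingleton.elim _ (hw m) _ _⟩

/-- `H¹_Z = 0` for all closed `Z` implies flasque. -/
theorem isFlasque_of_subsingleton_one (hF : ∀ U : Opens X, Subsingleton (LocCohZ.HZc F 1 U)) :
    TopCat.Sheaf.IsFlasque F := by
  rw [Groth.SiteCohomology.isFlasque_iff_surjective]
  intro U W f t
  have hs := surjective_of_res_zero_surjective F (le_top : W ≤ ⊤)
    ((subsingleton_succ_iff F (le_top : W ≤ ⊤) 0).1 (hF W)).1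
  obtain ⟨s, rfl⟩ := hs t
  refine ⟨F.obj.map (homOfLE (le_top : U ≤ ⊤)).op s, ?_⟩
  exact (congrArg (fun g : F.obj.obj (op ⊤) ⟶ F.obj.obj (op W) => g s)
    (F.obj.map_comp (homOfLE (le_top : U ≤ ⊤)).op f.op)).symm

end Groth.LocCohZBase
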