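import Groth.Agent.LocCohZBase.Derived
import Groth.Agent.LocCohZBase.ExtSeq
import Groth.Agent.SiteCohomology.Flasque

/-!
# Vanishing of local cohomology in low degrees
-/

universe u

open CategoryTheory CategoryTheory.Limits Opposite TopologicalSpace

namespace Groth.LocCohZBase

open Abelian

set_option linter.unusedVariables false

variable {X : TopCat.{u}} (U : Opens X) (F : CohTop.Ab X)

theorem resZ_apply (q : ℕ) {V W : Opens X} (f : W ⟶ V)
    (x : LocCohZ.HZ F q (inf_le_left : V ⊓ U ≤ V)) :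
    LocCohZ.resZ F q (inf_le_left : V ⊓ U ≤ V) (inf_le_left : W ⊓ U ≤ W)
        (inf_le_inf_right U (leOfHom f)) (leOfHom f) x =
      (Ext.mk₀ (zqRes U f)).comp x (zero_add q) := rfl

theorem locVanish_of_subsingleton (q : ℕ)
    (h : ∀ V : Opens X, Subsingleton (LocCohZ.HZ F q (inf_le_left : V ⊓ U ≤ V))) :
    LocVanish U F q := fun V _ =>
  ⟨⊤, GrothendieckTopology.top_mem _ _, fun W _ _ => @Subsingleton.elim _ (h W) _ _⟩

theorem subsingleton_zero_of_locVanish (h : LocVanish U F 0) (V : Opens X) :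
    Subsingleton (LocCohZ.HZ F 0 (inf_le_left : V ⊓ U ≤ V)) := by
  refine subsingleton_of_forall_eq 0 fun x => ?_
  obtain ⟨S, hS, hx⟩ := h V x
  obtain ⟨φ, rfl⟩ := (Ext.mk₀_bijective _ _).2 x
  suffices φ = 0 by rw [this, Ext.mk₀_zero]
  apply sectOf_injective U
  rw [sectOf_zero]
  refine ((((Presheaf.isSheaf_iff_isSheaf_forget _ _ (forget AddCommGrpCat.{u})).1
    F.property) |> (isSheaf_iff_isSheaf_of_type _ _).1) S hS).isSeparatedFor.ext fun W f hf => ?_
  have h0 := hx f hf
  rw [resZ_apply] at h0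
  change (Ext.mk₀ (zqRes U f)).comp (Ext.mk₀ φ) (zero_add 0) = 0 at h0
  rw [Ext.mk₀_comp_mk₀, ← Ext.mk₀_zero] at h0
  change F.obj.map f.op (sectOf U φ) = F.obj.map f.op 0
  rw [← sectOf_res, (Ext.mk₀_bijective _ _).1 h0, sectOf_zero, map_zero]

theorem isZero_iff_locVanish (q : ℕ) :
    IsZero ((LocCohZ.HZsh U q).obj F) ↔ LocVanish U F q := by
  cases q with
  | zero =>
    rw [isZero_zero_iff]
    exact ⟨locVanish_of_subsingleton U F 0, subsingleton_zero_of_locVanish U F⟩
  | succ q => exact isZero_succ_iff U F q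

/-- Embedding into an injective sheaf without sections supported outside `U`. -/
theorem exists_ses_of_zero
    (h0 : ∀ V : Opens X, Subsingleton (LocCohZ.HZ F 0 (inf_le_left : V ⊓ U ≤ V))) :
    ∃ (I Q : CohTop.Ab X) (i : F ⟶ I) (p : I ⟶ Q) (w : i ≫ p = 0),
      (ShortComplex.mk i p w).ShortExact ∧ Injective I ∧
      ∀ V : Opens X, Subsingleton (LocCohZ.HZ I 0 (inf_le_left : V ⊓ U ≤ V)) := by
  let η : F ⟶ (CohTop.push (CohCx.incl U)).obj ((CohTop.pull (CohCx.incl U)).obj F) :=
    (TopCat.Sheaf.pullbackPushforwardAdjunction AddCommGrpCat.{u} (CohCx.incl U)).unit.app F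
  have : Mono η := by
    have : ∀ V : (Opens X)ᵒᵖ, Mono (η.hom.app V) := fun V => by
      rw [AddCommGrpCat.mono_iff_injective, injective_iff_map_eq_zero]
      intro s hs
      obtain ⟨x, rfl⟩ := exists_suppι U F V.unop s ((unit_eq_zero_iff U F V.unop s).1 hs)
      obtain ⟨φ, hφ⟩ := exists_sectOf U x
      have hz : φ = 0 := (Ext.mk₀_bijective _ _).1 (@Subsingleton.elim _ (h0 V.unop) _ _)
      rw [hz, sectOf_zero] at hφ
      exact hφ.symm
    have : Mono η.hom := NatTrans.mono_of_mono_app _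
    exact (sheafToPresheaf _ _).mono_of_mono_map (by exact this)
  let J := Injective.under ((CohTop.pull (CohCx.incl U)).obj F)
  let i : F ⟶ (CohTop.push (CohCx.incl U)).obj J :=
    η ≫ (CohTop.push (CohCx.incl U)).map (Injective.ι _)
  have hinj : Injective ((CohTop.push (CohCx.incl U)).obj J) :=
    Groth.SiteCohomology.injective_push J (CohCx.incl U)
  have : PreservesLimitsOfSize.{0, 0} (CohTop.push (CohCx.incl U)) :=
    (TopCat.Sheaf.pullbackPushforwardAdjunction AddCommGrpCat.{u} (CohCx.incl U)).rightAdjoint_preservesLimits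
  have hη : Mono η := by assumption
  have : Mono i := mono_comp _ _
  refine ⟨_, cokernel i, i, cokernel.π i, cokernel.condition i, ?_, hinj, fun V => ?_⟩
  · exact ShortComplex.ShortExact.mk' (ShortComplex.exact_of_g_is_cokernel _ (cokernelIsCokernel i))
      this (inferInstanceAs (Epi (cokernel.π i)))
  · refine (subsingleton_zero_iff _ _).2 ?_
    rw [injective_iff_map_eq_zero]
    intro x hx
    obtain ⟨φ, rfl⟩ := (Ext.mk₀_bijective _ _).2 x
    change (Ext.mk₀ (CohCx.freeSheafMap (Opens.grothendieckTopology X) (homOfLE inf_le_left))).comp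
      (Ext.mk₀ φ) (zero_add 0) = 0 at hx
    rw [Ext.mk₀_comp_mk₀, ← Ext.mk₀_zero] at hx
    have hs := congrArg (CohFree.evalGen (Opens.grothendieckTopology X) (V ⊓ U) _)
      ((Ext.mk₀_bijective _ _).1 hx)
    rw [CohFree.evalGen_freeSheafMap_comp, map_zero] at hs
    have e : (Opens.map (CohCx.incl U)).obj (V ⊓ U) = (Opens.map (CohCx.incl U)).obj V := by
      ext y
      exact ⟨fun hy => hy.1, fun hy => ⟨hy, y.2⟩⟩
    suffices CohFree.evalGen (Opens.grothendieckTopology X) V _ φ = 0 by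
      rw [← CohFree.ofSect_evalGen (Opens.grothendieckTopology X) V _ φ, this]
      suffices CohFree.ofSect (Opens.grothendieckTopology X) V ((CohTop.push (CohCx.incl U)).obj J) 0 = 0 by
        rw [this]; exact Ext.mk₀_zero _ _
      apply (CohFree.homEquivSect (Opens.grothendieckTopology X) V _).injective
      rw [CohFree.homEquivSect_apply, CohFree.homEquivSect_apply, CohFree.evalGen_ofSect, map_zero]
    have : IsIso ((Opens.map (CohCx.incl U)).map
        (homOfLE (inf_le_left : V ⊓ U ≤ V))).op := by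
      rw [Subsingleton.elim ((Opens.map (CohCx.incl U)).map (homOfLE (inf_le_left : V ⊓ U ≤ V)))
        (eqToHom e)]
      infer_instance
    have : IsIso (((CohTop.push (CohCx.incl U)).obj J).obj.map (homOfLE (inf_le_left : V ⊓ U ≤ V)).op) :=
      inferInstanceAs (IsIso (J.obj.map ((Opens.map (CohCx.incl U)).map
        (homOfLE (inf_le_left : V ⊓ U ≤ V))).op))
    exact (AddCommGrpCat.mono_iff_injective _).1 inferInstance (hs.trans (map_zero _).symm)

theorem subsingleton_of_locVanish (m : ℕ) : ∀ F : CohTop.Ab X, (∀ j ≤ m, LocVanish U F j) →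
    ∀ V : Opens X, Subsingleton (LocCohZ.HZ F m (inf_le_left : V ⊓ U ≤ V)) := by
  induction m with
  | zero => exact fun F h => subsingleton_zero_of_locVanish U F (h 0 le_rfl)
  | succ m ih =>
    intro F h V
    obtain ⟨I, Q, i, p, w, hS, hI, hI0⟩ :=
      exists_ses_of_zero U F (subsingleton_zero_of_locVanish U F (h 0 (Nat.zero_le _)))
    have hIall : ∀ (j : ℕ) (W : Opens X),
        Subsingleton (LocCohZ.HZ I j (inf_le_left : W ⊓ U ≤ W)) := fun j W =>
      match j with
      | 0 => hI0 W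
      | j + 1 => Ext.subsingleton_of_injective _ I j
    have hQ : ∀ j ≤ m, LocVanish U Q j := by
      intro j hj W x
      obtain ⟨S, hS', hx⟩ := h (j + 1) (by omega) W (x.comp hS.extClass rfl)
      refine ⟨S, hS', fun W' f hf => ?_⟩
      have h1 : ((Ext.mk₀ (zqRes U f)).comp x (zero_add j)).comp hS.extClass rfl = 0 := by
        rw [Ext.comp_assoc _ _ _ (zero_add j) rfl (by omega)]
        exact hx f hf
      obtain ⟨a, ha⟩ := Ext.covariant_sequence_exact₃ _ hS ((Ext.mk₀ (zqRes U f)).comp x (zero_add j))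
        rfl h1
      rw [resZ_apply, ← ha, @Subsingleton.elim _ (hIall j W') a 0, Ext.zero_comp]
    refine subsingleton_of_forall_eq 0 fun x => ?_
    obtain ⟨y, rfl⟩ := Ext.covariant_sequence_exact₁ _ hS x (@Subsingleton.elim _ (hIall (m + 1) V) _ _)
      (n₀ := m) rfl
    rw [@Subsingleton.elim _ (ih Q hQ V) y 0, Ext.zero_comp]

theorem isZero_iff_subsingleton (n : ℕ) :
    (∀ i : ℕ, i < n → IsZero ((LocCohZ.HZsh U i).obj F)) ↔
      ∀ (V : Opens X) (i : ℕ), i < n → Subsingleton (LocCohZ.HZ F i (inf_le_left : V ⊓ U ≤ V)) := by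
  constructor
  · intro h V i hi
    exact subsingleton_of_locVanish U i F
      (fun j hj => (isZero_iff_locVanish U F j).1 (h j (by omega))) V
  · intro h i hi
    exact (isZero_iff_locVanish U F i).2 (locVanish_of_subsingleton U F i fun V => h V i hi)

theorem isZero_iff_res_bijective (N : ℕ) :
    (∀ i : ℕ, i ≤ N → IsZero ((LocCohZ.HZsh U i).obj F)) ↔
      ∀ V : Opens X, (∀ i : ℕ, i < N → Function.Bijective (CohTop.res F i (inf_le_left : V ⊓ U ≤ V))) ∧
        Function.Injective (CohTop.res F N (inf_le_left : V ⊓ U ≤ V)) := by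
  constructor
  · intro h V
    exact (subsingleton_le_iff F _ N).1 fun i hi =>
      (isZero_iff_subsingleton U F (N + 1)).1 (fun j hj => h j (by omega)) V i (by omega)
  · intro h i hi
    exact (isZero_iff_subsingleton U F (N + 1)).2
      (fun V j hj => (subsingleton_le_iff F _ N).2 (h V) j (by omega)) i (by omega)

theorem toHU_resZ (n : ℕ) {V W : Opens X} (f : W ⟶ V)
    (x : LocCohZ.HZ F n (inf_le_left : V ⊓ U ≤ V)) :
    LocCohZ.toHU F n (inf_le_left : W ⊓ U ≤ W) ((Ext.mk₀ (zqRes U f)).comp x (zero_add n)) =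
      CohTop.res F n (leOfHom f) (LocCohZ.toHU F n (inf_le_left : V ⊓ U ≤ V) x) := by
  change (Ext.mk₀ (zqπ U W)).comp ((Ext.mk₀ (zqRes U f)).comp x (zero_add n)) (zero_add n) =
    (Ext.mk₀ (CohCx.freeSheafMap (Opens.grothendieckTopology X) (homOfLE (leOfHom f)))).comp
      ((Ext.mk₀ (zqπ U V)).comp x (zero_add n)) (zero_add n)
  rw [Ext.mk₀_comp_mk₀_assoc, Ext.mk₀_comp_mk₀_assoc]
  congr 2
  exact cokernel.π_desc _ _ _

theorem isZero_of_res_bijective (N : ℕ) (hN : 0 < N)
    (h : ∀ (V : Opens X) (i : ℕ), i < N →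
      Function.Bijective (CohTop.res F i (inf_le_left : V ⊓ U ≤ V))) :
    ∀ i : ℕ, i ≤ N → IsZero ((LocCohZ.HZsh U i).obj F) := by
  obtain ⟨m, rfl⟩ := Nat.exists_eq_add_of_le' hN
  have hlow : ∀ i ≤ m, IsZero ((LocCohZ.HZsh U i).obj F) :=
    (isZero_iff_res_bijective U F m).2 fun V =>
      ⟨fun i hi => h V i (by omega), (h V m (by omega)).1⟩
  intro i hi
  obtain hi | rfl := Nat.lt_succ_iff_lt_or_eq.1 (Nat.lt_succ_of_le hi)
  · exact hlow i (by omega)
  rw [isZero_iff_locVanish]
  intro V x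
  obtain ⟨S, hS, hx⟩ := Groth.SiteCohomology.exists_cover_res_eq_zero m F V
    (LocCohZ.toHU F (m + 1) (inf_le_left : V ⊓ U ≤ V) x)
  refine ⟨S, hS, fun W f hf => ?_⟩
  rw [resZ_apply]
  have h0 : LocCohZ.toHU F (m + 1) (inf_le_left : W ⊓ U ≤ W)
      ((Ext.mk₀ (zqRes U f)).comp x (zero_add (m + 1))) = 0 := (toHU_resZ U F _ f x).trans (hx f hf)
  obtain ⟨y, hy⟩ := exact_delta_toHU F _ m _ h0
  obtain ⟨z, rfl⟩ := (h W m (by omega)).2 y
  rw [← hy, delta_res]

theorem flasque_vanishing [TopCat.Sheaf.IsFlasque F] :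
    (∀ (W V : Opens X) (h : W ≤ V) (i : ℕ), 0 < i → Subsingleton (LocCohZ.HZ F i h)) ∧
      ∀ (U : Opens X) (i : ℕ), 0 < i → IsZero ((LocCohZ.HZsh U i).obj F) := by
  have h1 : ∀ (W V : Opens X) (h : W ≤ V) (i : ℕ), 0 < i → Subsingleton (LocCohZ.HZ F i h) :=
    fun W V h i hi => by
      obtain ⟨j, rfl⟩ := Nat.exists_eq_add_of_le' hi
      exact subsingleton_HZ_succ_of_flasque F h j
  exact ⟨h1, fun U i hi => (isZero_iff_locVanish U F i).2
    (locVanish_of_subsingleton U F i fun V => h1 _ V _ i hi)⟩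

end Groth.LocCohZBase
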