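import Groth.Agent.LocCohZBase.AffineKoszul
import Groth.Agent.LocCohZBase.RestrExt
import Groth.Agent.LocCohZBase.Vanishing
import Groth.Agent.LocCohBase.DepthLocal
import Groth.Agent.QCohMod.Affine
import Groth.Agent.QCohMod.FiniteType
import Groth.Prelude.Def_CAlg

/-!
# Vanishing of cohomology with supports on affine opens and depths of stalks
-/

universe u

open CategoryTheory CategoryTheory.Limits AlgebraicGeometry TopologicalSpace Opposite
open Abelian

namespace Groth.LocCohZBase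

section Depth

variable {R R' : Type u} [CommRing R] [CommRing R'] [IsLocalRing R] [IsLocalRing R']
  {M M' : Type u} [AddCommGroup M] [AddCommGroup M'] [Module R M] [Module R' M']

theorem depth_le_of_semilinear (e : R ≃+* R') (f : M ≃+ M')
    (hf : ∀ (r : R) (x : M), f (r • x) = e r • f x) :
    LocCoh.depth R M ≤ LocCoh.depth R' M' := by
  have hm : ∀ r ∈ IsLocalRing.maximalIdeal R, e r ∈ IsLocalRing.maximalIdeal R' := by
    intro r hr
    simp only [IsLocalRing.mem_maximalIdeal, mem_nonunits_iff] at hr ⊢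
    exact fun hu => hr ((isUnit_map_iff e r).mp hu)
  have hm' : ∀ r ∈ IsLocalRing.maximalIdeal R', e.symm r ∈ IsLocalRing.maximalIdeal R := by
    intro r hr
    simp only [IsLocalRing.mem_maximalIdeal, mem_nonunits_iff] at hr ⊢
    exact fun hu => hr ((isUnit_map_iff e.symm r).mp hu)
  unfold LocCoh.depth LocCoh.idealDepth
  by_cases h' : IsLocalRing.maximalIdeal R' • (⊤ : Submodule R' M') = ⊤
  · rw [if_pos h']; exact le_top
  by_cases h : IsLocalRing.maximalIdeal R • (⊤ : Submodule R M) = ⊤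
  · refine absurd (Submodule.eq_top_iff'.2 fun y => ?_) h'
    have hy : f.symm y ∈ IsLocalRing.maximalIdeal R • (⊤ : Submodule R M) := by
      rw [h]; exact Submodule.mem_top
    rw [← f.apply_symm_apply y]
    refine Submodule.smul_induction_on hy (fun r hr x _ => ?_) fun a b ha hb => ?_
    · rw [hf]; exact Submodule.smul_mem_smul (hm r hr) Submodule.mem_top
    · rw [map_add]; exact Submodule.add_mem _ ha hb
  rw [if_neg h, if_neg h']
  refine iSup₂_le fun rs hrs => ?_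
  refine le_iSup₂_of_le (rs.map e) ⟨?_, ?_⟩ (by rw [List.length_map])
  · exact (f.isWeaklyRegular_congr (List.forall₂_map_right_iff.mpr
      (List.forall₂_same.mpr fun r _ x => hf r x))).mp hrs.1
  · intro r hr
    obtain ⟨r, hr', rfl⟩ := List.mem_map.mp hr
    exact hm r (hrs.2 r hr')

theorem depth_eq_of_semilinear (e : R ≃+* R') (f : M ≃+ M')
    (hf : ∀ (r : R) (x : M), f (r • x) = e r • f x) :
    LocCoh.depth R M = LocCoh.depth R' M' :=
  le_antisymm (depth_le_of_semilinear e f hf) (depth_le_of_semilinear e.symm f.symm fun r x =>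
    f.injective (by rw [hf, f.apply_symm_apply, f.apply_symm_apply, e.apply_symm_apply]))

end Depth

variable {X : Scheme.{u}} (M : X.Modules) [M.IsQuasicoherent]

/-- The depth of a stalk as the depth of a localisation of the sections. -/
theorem depth_stalk_eq {V : X.Opens} (hV : IsAffineOpen V) (x : X) (hx : x ∈ V) :
    LocCoh.depth (X.presheaf.stalk x) (M.presheaf.stalk x) =
      LocCoh.depth (Localization.AtPrime (hV.primeIdealOf ⟨x, hx⟩).asIdeal)
        (LocalizedModule (hV.primeIdealOf ⟨x, hx⟩).asIdeal.primeCompl Γ(M, V)) := by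
  let S := (hV.primeIdealOf ⟨x, hx⟩).asIdeal.primeCompl
  let _ := QCohMod.stalkModule M x hx
  let _ := TopCat.Presheaf.algebra_section_stalk X.presheaf ⟨x, hx⟩
  have : IsLocalization S (X.presheaf.stalk x) := hV.isLocalization_stalk ⟨x, hx⟩
  have := QCohMod.isLocalizedModule_germ M hV x hx
  let f := IsLocalizedModule.iso S (QCohMod.germₗ M x hx)
  let e := IsLocalization.algEquiv S (Localization S) (X.presheaf.stalk x)
  have tower : ∀ (a : Γ(X, V)) (y : M.presheaf.stalk x),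
      a • y = algebraMap Γ(X, V) (X.presheaf.stalk x) a • y := fun a y => rfl
  refine (depth_eq_of_semilinear e.toRingEquiv f.toAddEquiv fun r m => ?_).symm
  obtain ⟨a, s, rfl⟩ := IsLocalization.exists_mk'_eq S r
  change f (IsLocalization.mk' (Localization S) a s • m) =
    e (IsLocalization.mk' (Localization S) a s) • f m
  refine (IsLocalization.map_units (X.presheaf.stalk x) s).smul_left_cancel.1 ?_
  rw [← tower, ← map_smul, ← algebraMap_smul (Localization S) (s : Γ(X, V)), ← mul_smul,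
    IsLocalization.mk'_spec', algebraMap_smul, map_smul, tower, ← mul_smul]
  congr 1
  rw [← e.commutes (s : Γ(X, V)), ← map_mul, IsLocalization.mk'_spec', e.commutes]

section Affine

variable (U : X.Opens)

theorem exists_localCoh_model [IsLocallyNoetherian X] (V : X.Opens) (hV : IsAffineOpen V)
    (hA : IsAffineOpen (V.ι ''ᵁ ⊤)) :
    ∃ I : Ideal Γ(X, V.ι ''ᵁ ⊤),
      (∀ (x : X) (hx : x ∈ V.ι ''ᵁ ⊤), x ∈ U ↔ ¬ I ≤ (hA.primeIdealOf ⟨x, hx⟩).asIdeal) ∧
      ∀ i, Subsingleton (LocCohZ.HZ (X := X.toTopCat) (Coh.toAb M) i (inf_le_left : V ⊓ U ≤ V)) ↔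
        Subsingleton (LocCoh.H I i Γ(M, V.ι ''ᵁ ⊤)) := by
  have : IsAffine (V : Scheme.{u}) := hV
  obtain ⟨e, -⟩ : ∃ e : ∀ i, LocCohZ.HZ (X := X.toTopCat) (Coh.toAb M) i (inf_le_left : V ⊓ U ≤ V) ≃+
      LocCohZ.HZM (V : Scheme.{u}) (M.restrict V.ι) i (V.ι ⁻¹ᵁ (V ⊓ U)), True :=
    ⟨fun i => (exists_natural_addEquiv (inf_le_left : V ⊓ U ≤ V) i).choose (Coh.toAb M), trivial⟩
  have : IsNoetherianRing Γ((V : Scheme.{u}), ⊤) :=
    IsLocallyNoetherian.component_noetherian (X := X) ⟨V.ι ''ᵁ ⊤, hA⟩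
  let _ : Module Γ((V : Scheme.{u}), ⊤) Γ(M, V.ι ''ᵁ ⊤) :=
    inferInstanceAs (Module Γ(X, V.ι ''ᵁ ⊤) Γ(M, V.ι ''ᵁ ⊤))
  let τ : Γ(M.restrict V.ι, ⊤) ≃ₗ[Γ((V : Scheme.{u}), ⊤)] Γ(M, V.ι ''ᵁ ⊤) :=
    { (AddEquiv.refl Γ(M, V.ι ''ᵁ ⊤)) with
      map_smul' := fun r m => by
        change (M.restrictAppIso V.ι ⊤).hom (r • m) = r • (show Γ(M, V.ι ''ᵁ ⊤) from m)
        erw [Scheme.Modules.smul_restrictAppIso_hom_apply V.ι M ⊤ r m, Scheme.Opens.ι_appIso]
        rfl }
  have hc : IsCompact ((V.ι ⁻¹ᵁ (V ⊓ U) : (V : Scheme.{u}).Opens) : Set (V : Scheme.{u})) := by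
    have : IsLocallyNoetherian (V : Scheme.{u}) := inferInstance
    have : IsNoetherian (V : Scheme.{u}) := ⟨⟩
    exact TopologicalSpace.NoetherianSpace.isCompact _
  obtain ⟨s, hs, hseq⟩ := isCompact_and_isOpen_iff_finite_and_eq_biUnion_basicOpen.1
    ⟨hc, (V.ι ⁻¹ᵁ (V ⊓ U)).isOpen⟩
  let fs : List Γ((V : Scheme.{u}), ⊤) := hs.toFinset.toList
  have hfs : ∀ a, a ∈ fs ↔ a ∈ s := fun a => by simp [fs]
  have hW : V.ι ⁻¹ᵁ (V ⊓ U) = ⨆ j : Fin fs.length, (V : Scheme.{u}).basicOpen (fs.get j) := by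
    refine Opens.ext ?_
    rw [hseq, Opens.coe_iSup]
    refine subset_antisymm (Set.iUnion₂_subset fun a ha => ?_) (Set.iUnion_subset fun j => ?_)
    · obtain ⟨j, rfl⟩ := List.mem_iff_get.1 ((hfs a).2 ha)
      exact Set.subset_iUnion (fun k => ((V : Scheme.{u}).basicOpen (fs.get k) : Set (V : Scheme.{u}))) j
    · exact Set.subset_biUnion_of_mem (u := fun a => ((V : Scheme.{u}).basicOpen a : Set (V : Scheme.{u})))
        ((hfs _).1 (List.get_mem _ _))
  have hb : ∀ a : Γ((V : Scheme.{u}), ⊤), V.ι ''ᵁ ((V : Scheme.{u}).basicOpen a) =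
      X.basicOpen (U := V.ι ''ᵁ ⊤) a := fun a => by
    rw [Scheme.image_basicOpen, Scheme.Opens.ι_appIso]; rfl
  have key : ∀ (x : X) (hx : x ∈ V.ι ''ᵁ ⊤), x ∈ U ↔
      ¬ Ideal.span {a | a ∈ fs} ≤ (hA.primeIdealOf ⟨x, hx⟩).asIdeal := by
    intro x hx
    have hxV : x ∈ V := by rwa [Scheme.Opens.ι_image_top] at hx
    let y : (V : Scheme.{u}) := ⟨x, hxV⟩
    have h1 : x ∈ U ↔ y ∈ V.ι ⁻¹ᵁ (V ⊓ U) :=
      ⟨fun h => ⟨hxV, h⟩, fun h => h.2⟩
    rw [h1, hW, Opens.mem_iSup, Ideal.span_le, Set.not_subset]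
    constructor
    · rintro ⟨j, hj⟩
      refine ⟨_, List.get_mem _ j, (QCohMod.mem_basicOpen_iff_notMem_primeIdealOf hA (fs.get j) x hx).1 ?_⟩
      refine (congrArg (fun O : X.Opens => x ∈ O) (hb (fs.get j))).mp ?_
      exact ⟨_, hj, rfl⟩
    · rintro ⟨a, ha, hna⟩
      obtain ⟨j, rfl⟩ := List.mem_iff_get.1 ha
      have h2 := (QCohMod.mem_basicOpen_iff_notMem_primeIdealOf hA (fs.get j) x hx).2 hna
      obtain ⟨z, hz, hzx⟩ := (congrArg (fun O : X.Opens => x ∈ O) (hb (fs.get j))).mpr h2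
      obtain rfl : z = y := Subtype.ext hzx
      exact ⟨j, hz⟩
  refine ⟨Ideal.span {a | a ∈ fs}, key, fun i => ?_⟩
  have h1 := subsingleton_HZM_iff_H (M.restrict V.ι) fs τ i
  rw [← hW] at h1
  exact (e i).toEquiv.subsingleton_congr.trans h1

theorem subsingleton_iff_depth_image [IsLocallyNoetherian X] (hM : CohB1.IsFT M) (V : X.Opens)
    (hV : IsAffineOpen V) (n : ℕ) :
    (∀ i < n, Subsingleton
        (LocCohZ.HZ (X := X.toTopCat) (Coh.toAb M) i (inf_le_left : V ⊓ U ≤ V))) ↔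
      ∀ x ∈ V, x ∉ U → (n : ℕ∞) ≤ LocCoh.depth (X.presheaf.stalk x) (M.presheaf.stalk x) := by
  have hA : IsAffineOpen (V.ι ''ᵁ ⊤) := by rwa [Scheme.Opens.ι_image_top]
  obtain ⟨I, key, hI⟩ := exists_localCoh_model M U V hV hA
  have : IsNoetherianRing Γ(X, V.ι ''ᵁ ⊤) :=
    IsLocallyNoetherian.component_noetherian (X := X) ⟨V.ι ''ᵁ ⊤, hA⟩
  have : Module.Finite Γ(X, V.ι ''ᵁ ⊤) Γ(M, V.ι ''ᵁ ⊤) := QCohMod.finite_sections M hM hA
  simp only [hI]
  rw [← LocCohBase.le_idealDepth_iff_localCohomology, LocCohBase.idealDepth_eq_iInf_depth, le_iInf₂_iff]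
  constructor
  · intro h x hxV hxU
    have hx : x ∈ V.ι ''ᵁ ⊤ := by rwa [Scheme.Opens.ι_image_top]
    rw [depth_stalk_eq M hA x hx]
    exact h _ (not_not.1 fun hc => hxU ((key x hx).2 hc))
  · intro h p hp
    obtain ⟨⟨x, hx⟩, rfl⟩ : ∃ y, hA.primeIdealOf y = p :=
      (Scheme.Hom.homeomorph hA.isoSpec.hom).surjective p
    have hxV : x ∈ V := by rwa [Scheme.Opens.ι_image_top] at hx
    exact (h x hxV fun hxU => (key x hx).1 hxU hp).trans_eq (depth_stalk_eq M hA x hx)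

/-- Local vanishing may be tested on affine opens. -/
theorem locVanish_of_affine (F : CohTop.Ab X.toTopCat) (q : ℕ)
    (h : ∀ V : X.Opens, IsAffineOpen V →
      Subsingleton (LocCohZ.HZ (X := X.toTopCat) F q (inf_le_left : V ⊓ U ≤ V))) :
    LocVanish (X := X.toTopCat) U F q := by
  intro V z
  refine ⟨{ arrows := fun W _ => ∃ W' : X.Opens, IsAffineOpen W' ∧ W ≤ W' ∧ W' ≤ V
            downward_closed := fun {Y Z} _ hY g => by
              obtain ⟨W', h1, h2, h3⟩ := hY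
              exact ⟨W', h1, (leOfHom g).trans h2, h3⟩ }, fun x hx => ?_, fun W f hf => ?_⟩
  · obtain ⟨W', hW', hxW', hle⟩ := Opens.isBasis_iff_nbhd.mp X.isBasis_affineOpens hx
    exact ⟨W', homOfLE hle, ⟨W', hW', le_rfl, hle⟩, hxW'⟩
  · obtain ⟨W', hW', h1, h2⟩ := hf
    have e : zqRes (X := X.toTopCat) U f =
        zqRes (X := X.toTopCat) U (homOfLE h1) ≫ zqRes (X := X.toTopCat) U (homOfLE h2) := by
      refine (cancel_epi (cokernel.π _)).1 ?_
      simp only [zqRes, LocCohZ.zqMap, cokernel.π_desc, cokernel.π_desc_assoc, Category.assoc]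
      rw [← Category.assoc, ← CohFree.freeSheafMap_comp]
      rfl
    rw [resZ_apply, e, ← Ext.mk₀_comp_mk₀_assoc]
    have : (Ext.mk₀ (zqRes (X := X.toTopCat) U (homOfLE h2))).comp z (zero_add q) = 0 :=
      @Subsingleton.elim _ (h W' hW') _ _
    rw [this, Ext.comp_zero]

end Affine

end Groth.LocCohZBase
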