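import Groth.Agent.SiteCohomology.CohomologyPresheaf
import Mathlib.CategoryTheory.Abelian.Injective.Ext
import Mathlib.CategoryTheory.Abelian.RightDerived
import Mathlib.CategoryTheory.Preadditive.Yoneda.Basic

/-!
# `Ext^q(P, -)` is the `q`-th right derived functor of `Hom(P, -)`
-/

universe v u

open CategoryTheory CategoryTheory.Limits Opposite

set_option linter.unusedSectionVars false

namespace Groth.LocCohZBase.ExtDerived

open Abelian

variable {C : Type u} [Category.{v} C] [Abelian C] [HasExt.{v} C] [HasInjectiveResolutions C]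
variable (P : C)

/-- `Hom(P, -)`. -/
abbrev homF : C ⥤ AddCommGrpCat.{v} := preadditiveCoyoneda.obj (op P)

variable {P} {Y : C} (R : InjectiveResolution Y) (q : ℕ)

/-- `Hom(P, R)`. -/
noncomputable abbrev homCx (P : C) : CochainComplex AddCommGrpCat.{v} ℕ :=
  ((homF P).mapHomologicalComplex _).obj R.cocomplex

/-- The morphism underlying a cycle. -/
noncomputable def cycHom (z : (homCx R P).cycles q) : P ⟶ R.cocomplex.X q :=
  (homCx R P).iCycles q z

theorem cycHom_d (z : (homCx R P).cycles q) :
    cycHom R q z ≫ R.cocomplex.d q (q + 1) = 0 :=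
  ConcreteCategory.congr_hom ((homCx R P).iCycles_d q (q + 1)) z

theorem cycHom_toCycles (i : ℕ) (g : P ⟶ R.cocomplex.X i) :
    cycHom R q ((homCx R P).toCycles i q g) = g ≫ R.cocomplex.d i q :=
  ConcreteCategory.congr_hom ((homCx R P).toCycles_i i q) g

theorem cycHom_add (a b : (homCx R P).cycles q) :
    cycHom R q (a + b) = cycHom R q a + cycHom R q b :=
  map_add ((homCx R P).iCycles q).hom a b

theorem cycHom_injective : Function.Injective (cycHom R q (P := P)) :=
  (AddCommGrpCat.mono_iff_injective ((homCx R P).iCycles q)).1 inferInstance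

theorem exists_cycHom (f : P ⟶ R.cocomplex.X q) (hf : f ≫ R.cocomplex.d q (q + 1) = 0) :
    ∃ z, cycHom R q z = f := by
  have hex : (ShortComplex.mk ((homCx R P).iCycles q) ((homCx R P).d q (q + 1))
      ((homCx R P).iCycles_d q (q + 1))).Exact :=
    ShortComplex.exact_of_f_is_kernel _
      ((homCx R P).cyclesIsKernel q (q + 1) (CochainComplex.next ℕ q))
  exact (ShortComplex.ab_exact_iff _).1 hex f hf

theorem extMk_congr {X : C} {n : ℕ} (m : ℕ) (hm : n + 1 = m) {a b : X ⟶ R.cocomplex.X n} (h : a = b)
    (ha : a ≫ R.cocomplex.d n m = 0) (hb : b ≫ R.cocomplex.d n m = 0) :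
    R.extMk a m hm ha = R.extMk b m hm hb := by subst h; rfl

/-- The class of a cycle. -/
noncomputable def cls : (homCx R P).cycles q ⟶ ((extFunctor q).obj (op P)).obj Y :=
  AddCommGrpCat.ofHom (AddMonoidHom.mk'
    (fun z => R.extMk (cycHom R q z) (q + 1) rfl (cycHom_d R q z))
    (fun a b => (extMk_congr R (q + 1) rfl
      (cycHom_add R q a b) _
      (by
        rw [Preadditive.add_comp, cycHom_d, cycHom_d, add_zero])).trans (R.add_extMk _ _ _ rfl (cycHom_d R q a) (cycHom_d R q b)).symm))

theorem cls_apply (z : (homCx R P).cycles q) :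
    cls R q z = R.extMk (cycHom R q z) (q + 1) rfl (cycHom_d R q z) := rfl

theorem cls_surjective : Function.Surjective (cls R q (P := P)) := fun x => by
  obtain ⟨f, hf, rfl⟩ := R.extMk_surjective (show Ext P Y q from x) (q + 1) rfl
  obtain ⟨z, rfl⟩ := exists_cycHom R q f hf
  exact ⟨z, rfl⟩

theorem cls_eq_zero_iff (z : (homCx R P).cycles q) :
    cls R q z = 0 ↔ ∃ g, (homCx R P).toCycles ((ComplexShape.up ℕ).prev q) q g = z := by
  rw [cls_apply]
  cases q with
  | zero =>
    refine Iff.trans (Groth.SiteCohomology.extMk_zero_eq_zero_iff R _ _) ⟨fun h => ⟨0, ?_⟩, ?_⟩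
    · exact (map_zero _).trans (cycHom_injective R 0 ((map_zero ((homCx R P).iCycles 0).hom).trans h.symm))
    · rintro ⟨g, rfl⟩
      rw [cycHom_toCycles, R.cocomplex.shape _ _ (by simp), comp_zero]
  | succ p =>
    refine Iff.trans (R.extMk_eq_zero_iff _ _ rfl _ p rfl) ?_
    rw [CochainComplex.prev_nat_succ]
    exact ⟨fun ⟨g, hg⟩ => ⟨g, cycHom_injective R _ ((cycHom_toCycles R _ p g).trans hg)⟩,
      fun ⟨g, hg⟩ => ⟨g, (cycHom_toCycles R _ p g).symm.trans (congrArg _ hg)⟩⟩

theorem cls_w : (homCx R P).toCycles ((ComplexShape.up ℕ).prev q) q ≫ cls R q (P := P) = 0 := by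
  ext g
  exact (cls_eq_zero_iff R q _).2 ⟨g, rfl⟩

/-- Homology of `Hom(P, R)` is `Ext`. -/
noncomputable def homologyIso : (homCx R P).homology q ≅ ((extFunctor q).obj (op P)).obj Y :=
  haveI : Epi (cls R q (P := P)) := (AddCommGrpCat.epi_iff_surjective _).2 (cls_surjective R q)
  IsColimit.coconePointUniqueUpToIso ((homCx R P).homologyIsCokernel _ q rfl)
    (@ShortComplex.Exact.gIsCokernel _ _ _ (ShortComplex.mk _ _ (cls_w R q (P := P))) _
      ((ShortComplex.ab_exact_iff _).2 fun z hz => (cls_eq_zero_iff R q z).1 hz) this)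

theorem π_homologyIso : (homCx R P).homologyπ q ≫ (homologyIso R q (P := P)).hom = cls R q :=
  haveI : Epi (cls R q (P := P)) := (AddCommGrpCat.epi_iff_surjective _).2 (cls_surjective R q)
  IsColimit.comp_coconePointUniqueUpToIso_hom ((homCx R P).homologyIsCokernel _ q rfl)
    (@ShortComplex.Exact.gIsCokernel _ _ _ (ShortComplex.mk _ _ (cls_w R q (P := P))) _
      ((ShortComplex.ab_exact_iff _).2 fun z hz => (cls_eq_zero_iff R q z).1 hz) this)
    WalkingParallelPair.one

theorem cls_naturality {Y' : C} {R' : InjectiveResolution Y'} {g : Y ⟶ Y'}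
    (φ : InjectiveResolution.Hom R R' g) :
    HomologicalComplex.cyclesMap (((homF P).mapHomologicalComplex _).map φ.hom) q ≫ cls R' q =
      cls R q ≫ ((extFunctor q).obj (op P)).map g := by
  ext z
  change R'.extMk (cycHom R' q (HomologicalComplex.cyclesMap
      (((homF P).mapHomologicalComplex _).map φ.hom) q z)) (q + 1) rfl (cycHom_d R' q _) = (R.extMk (cycHom R q z) (q + 1) rfl (cycHom_d R q z)).comp (Ext.mk₀ g) (add_zero q)
  rw [InjectiveResolution.extMk_comp_mk₀ (cycHom R q z) (q + 1) rfl (cycHom_d R q z) φ]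
  refine extMk_congr R' _ rfl ?_ (cycHom_d R' q _) _
  exact ConcreteCategory.congr_hom
    (HomologicalComplex.cyclesMap_i (((homF P).mapHomologicalComplex _).map φ.hom) q) z

variable (P) in
/-- `(Hom(P, -))^q ≅ Ext^q(P, -)`. -/
noncomputable def derivedIso : (homF P).rightDerived q ≅ (extFunctor q).obj (op P) :=
  NatIso.ofComponents
    (fun Y => (injectiveResolution Y).isoRightDerivedObj (homF P) q ≪≫
      homologyIso (injectiveResolution Y) q)
    (fun {Y Y'} g => by
      let φ : InjectiveResolution.Hom (injectiveResolution Y) (injectiveResolution Y') g :=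
        ⟨InjectiveResolution.desc g (injectiveResolution Y') (injectiveResolution Y),
          by rw [CochainComplex.single₀_map_f_zero]; exact InjectiveResolution.desc_commutes_zero g _ _⟩
      have h1 := InjectiveResolution.isoRightDerivedObj_hom_naturality g (injectiveResolution Y)
        (injectiveResolution Y') φ.hom (InjectiveResolution.desc_commutes_zero g _ _) (homF P) q
      simp only [Iso.trans_hom, Category.assoc]
      refine ((Category.assoc _ _ _).symm.trans (congrArg (· ≫ _) h1)).trans ?_
      refine (Category.assoc _ _ _).trans (congrArg (_ ≫ ·) ?_)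
      change HomologicalComplex.homologyMap _ q ≫ _ = _
      rw [← cancel_epi ((homCx (injectiveResolution Y) P).homologyπ q)]
      refine ((Category.assoc _ _ _).symm.trans (congrArg (· ≫ _)
        (HomologicalComplex.homologyπ_naturality
          (((homF P).mapHomologicalComplex _).map φ.hom) q))).trans ?_
      refine (Category.assoc _ _ _).trans ?_
      refine (congrArg (_ ≫ ·) (π_homologyIso (injectiveResolution Y') q)).trans ?_
      refine (cls_naturality (injectiveResolution Y) q φ).trans ?_
      exact (congrArg (· ≫ _) (π_homologyIso (injectiveResolution Y) q)).symm.trans (Category.assoc _ _ _))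

end Groth.LocCohZBase.ExtDerived
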