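import Groth.Agent.LocCohZBase.QuotOnExact
import Groth.Agent.LocCohZBase.ExtDerived
import Groth.Agent.SitesTopoi.Mod.Projection
import Groth.Agent.SitesTopoi.Mod.TensorExact
import Groth.Agent.Misc4.InternalHomAcyclic
import Groth.Agent.Misc4.ExtFree
import Mathlib.CategoryTheory.Preadditive.Yoneda.Limits

/-!
# Sections with supports and internal hom; global sections of modules
-/

universe u

open CategoryTheory CategoryTheory.Limits Opposite MonoidalCategory
open Groth.SitesTopoi.ModH

namespace Groth.LocCohZBase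

variable {C : Type u} [SmallCategory C] {J : GrothendieckTopology C} {O : Sheaf J CommRingCat.{u}}
  (U : C) (M : ModSite.Mod O)

section Null

variable {W Z : ModSite.Mod O}

theorem isZero_restr_tensor (hW : IsZero ((ModSite.restr O U).obj W)) :
    IsZero ((ModSite.restr O U).obj (((ModSite.tensorBi O).obj W).obj M)) := by
  refine IsZero.of_iso ?_ (restrTensorIso U W M)
  have : ((ModSite.tensorBi (O.over U)).flip.obj ((ModSite.restr O U).obj M)).Additive :=
    Groth.SitesTopoi.Balanced.additive_of_rightExact _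
  exact Functor.map_isZero ((ModSite.tensorBi (O.over U)).flip.obj ((ModSite.restr O U).obj M)) hW

variable [ModSite.HasSheafHom M]

theorem isZero_restr_sheafHom (hZ : IsZero ((ModSite.restr O U).obj Z)) :
    IsZero ((ModSite.restr O U).obj ((ModSite.sheafHom M).obj Z)) := by
  let W := (ModSite.restr O U).obj ((ModSite.sheafHom M).obj Z)
  have key : ∀ f g : (ModSite.extZero O U).obj W ⟶ (ModSite.sheafHom M).obj Z, f = g := by
    intro f g
    apply ((ModSite.sheafHomAdj M).homEquiv _ _).symm.injective
    refine (cancel_epi (projectionIso W M).hom).1 ?_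
    apply ((ModSite.extZeroAdj O U).homEquiv _ _).injective
    exact hZ.eq_of_tgt _ _
  rw [IsZero.iff_id_eq_zero]
  exact ((ModSite.extZeroAdj O U).homEquiv _ _).symm.injective (key _ _)

end Null

variable [ModSite.HasPushOver O U]

theorem isNullOn_sectOn (N : ModSite.Mod O) :
    IsZero ((ModSite.restr O U).obj ((ModSite.sectOn O U).obj N)) := by
  rw [IsZero.iff_id_eq_zero]
  have : Mono ((ModSite.sectOnι O U).app N) := inferInstanceAs (Mono (kernel.ι _))
  have : Mono ((ModSite.restr O U).map ((ModSite.sectOnι O U).app N)) := inferInstance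
  rw [← cancel_mono ((ModSite.restr O U).map ((ModSite.sectOnι O U).app N)), restr_sectOnι, comp_zero,
    comp_zero]

variable [ModSite.HasSheafHom M]

theorem exists_toGamma (N : ModSite.Mod O) :
    ∃ a : (ModSite.sheafHom M).obj ((ModSite.sectOn O U).obj N) ⟶
        (ModSite.sectOn O U).obj ((ModSite.sheafHom M).obj N),
      a ≫ (ModSite.sectOnι O U).app _ = (ModSite.sheafHom M).map ((ModSite.sectOnι O U).app N) :=
  ⟨kernel.lift _ _ ((comp_unit_eq_zero_iff U _).2
    ((isZero_restr_sheafHom U M (isNullOn_sectOn U N)).eq_of_src _ _)), kernel.lift_ι _ _ _⟩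

theorem exists_ofGamma (N : ModSite.Mod O) :
    ∃ b : (ModSite.sectOn O U).obj ((ModSite.sheafHom M).obj N) ⟶
        (ModSite.sheafHom M).obj ((ModSite.sectOn O U).obj N),
      b ≫ (ModSite.sheafHom M).map ((ModSite.sectOnι O U).app N) = (ModSite.sectOnι O U).app _ := by
  let ψ := ((ModSite.sheafHomAdj M).homEquiv _ _).symm ((ModSite.sectOnι O U).app ((ModSite.sheafHom M).obj N))
  have hψ : ψ ≫ (ModSite.restrPushOverAdj O U).unit.app N = 0 := (comp_unit_eq_zero_iff U _).2
    ((isZero_restr_tensor U M (isNullOn_sectOn U _)).eq_of_src _ _)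
  refine ⟨(ModSite.sheafHomAdj M).homEquiv _ _ (kernel.lift _ ψ hψ), ?_⟩
  refine ((ModSite.sheafHomAdj M).homEquiv_naturality_right _ _).symm.trans ?_
  refine (congrArg ((ModSite.sheafHomAdj M).homEquiv _ _) (kernel.lift_ι _ ψ hψ)).trans ?_
  exact Equiv.apply_symm_apply _ _

instance mono_sectOnι (N : ModSite.Mod O) : Mono ((ModSite.sectOnι O U).app N) :=
  inferInstanceAs (Mono (kernel.ι _))

instance mono_sheafHom_sectOnι (N : ModSite.Mod O) :
    Mono ((ModSite.sheafHom M).map ((ModSite.sectOnι O U).app N)) :=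
  have := (ModSite.sheafHomAdj M).isRightAdjoint
  inferInstance

/-- `ℋom(M, Γ_Z N) = Γ_Z ℋom(M, N)`. -/
noncomputable def gammaHomIso :
    ModSite.sectOn O U ⋙ ModSite.sheafHom M ≅ ModSite.sheafHom M ⋙ ModSite.sectOn O U :=
  NatIso.ofComponents (fun N =>
    { hom := (exists_toGamma U M N).choose
      inv := (exists_ofGamma U M N).choose
      hom_inv_id := by
        rw [← cancel_mono ((ModSite.sheafHom M).map ((ModSite.sectOnι O U).app N)), Category.assoc,
          (exists_ofGamma U M N).choose_spec]
        exact (exists_toGamma U M N).choose_spec.trans (Category.id_comp _).symm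
      inv_hom_id := by
        rw [← cancel_mono ((ModSite.sectOnι O U).app _), Category.assoc, (exists_toGamma U M N).choose_spec]
        exact (exists_ofGamma U M N).choose_spec.trans (Category.id_comp _).symm })
    (fun {N N'} g => by
      apply (cancel_mono ((ModSite.sectOnι O U).app _)).1
      refine (Category.assoc _ _ _).trans ((congrArg (_ ≫ ·) (exists_toGamma U M N').choose_spec).trans ?_)
      refine Eq.trans ?_ ((Category.assoc _ _ _).trans
        (congrArg (_ ≫ ·) ((ModSite.sectOnι O U).naturality ((ModSite.sheafHom M).map g)))).symm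
      refine Eq.trans ?_ (Category.assoc _ _ _)
      refine Eq.trans ?_ (congrArg (· ≫ _) (exists_toGamma U M N).choose_spec).symm
      refine ((ModSite.sheafHom M).map_comp _ _).symm.trans (Eq.trans ?_ ((ModSite.sheafHom M).map_comp _ _))
      exact congrArg (ModSite.sheafHom M).map ((ModSite.sectOnι O U).naturality g))

section Unit

variable (O)

/-- The terminal sheaf of sets. -/
noncomputable def oneSh : Sheaf J (Type u) :=
  ⟨(Functor.const Cᵒᵖ).obj PUnit.{u + 1}, by
    rw [isSheaf_iff_isSheaf_of_type]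
    intro X S _ x _
    exact ⟨PUnit.unit, fun _ _ _ => Subsingleton.elim (α := PUnit) _ _,
      fun _ _ => Subsingleton.elim (α := PUnit) _ _⟩⟩

theorem nonempty_freeModT_one_iso :
    Nonempty ((Groth.Misc7.SitePush.freeModT (ModSite.ringSh O)).obj (oneSh (J := J)) ≅ ModSite.unit O) := by
  let G := SheafOfModules.toSheaf.{u} (ModSite.ringSh O) ⋙ sheafCompose J (forget AddCommGrpCat.{u})
  let e : ∀ N : ModSite.Mod O, (oneSh (J := J) ⟶ G.obj N) ≃ N.sections := fun N =>
    { toFun := fun t => PresheafOfModules.sectionsMk (fun V => t.hom.app V PUnit.unit)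
        (fun V W f => (congrArg (fun k => k PUnit.unit) (t.hom.naturality f)).symm)
      invFun := fun s => ⟨{ app := fun V => TypeCat.ofHom fun _ => s.val V
                            naturality := fun V W f => by ext x; exact (s.2 f).symm }⟩
      left_inv := fun t => by ext V x; rfl
      right_inv := fun s => rfl }
  exact Groth.Misc4.FreeOn.nonempty_iso_of_homEquiv (fun N : ModSite.Mod O => (oneSh (J := J) ⟶ G.obj N))
    (fun p => (· ≫ G.map p))
    (fun N => (Groth.Misc7.SitePush.freeModTAdj (ModSite.ringSh O)).homEquiv _ N)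
    (fun N => N.unitHomEquiv.trans (e N).symm)
    (fun p f => (Groth.Misc7.SitePush.freeModTAdj (ModSite.ringSh O)).homEquiv_naturality_right f p)
    (fun {N N'} p f => by ext V x; rfl)

/-- The constant sheaf `ℤ` is free on the terminal sheaf. -/
noncomputable def freeOneIso :
    (presheafToSheaf J AddCommGrpCat.{u}).obj ((oneSh (J := J)).obj ⋙ AddCommGrpCat.free.{u}) ≅
      (constantSheaf J AddCommGrpCat.{u}).obj (AddCommGrpCat.of (ULift.{u} ℤ)) :=
  (presheafToSheaf J AddCommGrpCat.{u}).mapIso (NatIso.ofComponents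
    (fun _ => ((FreeAbelianGroup.uniqueEquiv PUnit.{u + 1}).trans AddEquiv.ulift.symm).toAddCommGrpIso)
    (fun {V W} f => by
      refine (congrArg (· ≫ _) (AddCommGrpCat.free.{u}.map_id PUnit.{u + 1})).trans ?_
      exact (Category.id_comp _).trans (Category.comp_id _).symm))

theorem nonempty_ext_unit_equiv [HasExt.{u} (ModSite.Mod O)] [HasInjectiveResolutions (ModSite.Mod O)]
    (F : ModSite.Mod O) (p : ℕ) :
    Nonempty (Abelian.Ext (ModSite.unit O) F p ≃+ ModSite.HC O F p) ∧
      (CohCx.IsTotallyAcyclic (ModSite.toAb F) → ∀ q : ℕ, p = q + 1 →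
        Subsingleton (Abelian.Ext (ModSite.unit O) F p)) := by
  obtain ⟨i⟩ := nonempty_freeModT_one_iso O
  obtain ⟨e⟩ := Groth.Misc4.ExtFree.nonempty_ext_equiv (O := O) (oneSh (J := J)) F p
  let e1 := (Groth.SiteCohomology.extIsoLeft i F p).trans e
  refine ⟨⟨e1.trans (Groth.SiteCohomology.extIsoLeft (freeOneIso (J := J)).symm (ModSite.toAb F) p)⟩,
    fun h q hq => ?_⟩
  subst hq
  have := h (oneSh (J := J)) q
  exact e1.toEquiv.subsingleton

/-- `O ⊗ M = M`. -/
noncomputable def unitTensorIso (M : ModSite.Mod O) :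
    ((ModSite.tensorBi O).flip.obj M).obj (ModSite.unit O) ≅ M :=
  (aP O).mapIso (MonoidalCategoryStruct.leftUnitor (C := PM O) M.val) ≪≫ (asIso (adjP O).counit).app M

end Unit

/-- Global sections of the internal hom. -/
noncomputable def homUnitIso :
    ModSite.sheafHom M ⋙ preadditiveCoyoneda.obj (op (ModSite.unit O)) ≅
      preadditiveCoyoneda.obj (op M) :=
  NatIso.ofComponents (fun N => (((ModSite.sheafHomAdj M).homAddEquiv _ N).symm).toAddCommGrpIso)
    (fun {N N'} g => by
      ext φ
      exact (ModSite.sheafHomAdj M).homEquiv_naturality_right_symm φ g) ≪≫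
    preadditiveCoyoneda.mapIso (unitTensorIso O M).symm.op

theorem isTotallyAcyclic_gammaHom [HasInjectiveResolutions (ModSite.Mod O)] (Q : ModSite.Mod O)
    (hQ : Injective Q) :
    CohCx.IsTotallyAcyclic (ModSite.toAb ((ModSite.sheafHom M ⋙ ModSite.sectOn O U).obj Q)) := fun K p => by
  have := injective_sectOn U Q hQ
  have := Groth.Misc4.InternalHomAcyclic.isTotallyAcyclic_sheafHom M ((ModSite.sectOn O U).obj Q) K p
  let i := (SheafOfModules.toSheaf (ModSite.ringSh O)).mapIso ((gammaHomIso U M).app Q)
  refine subsingleton_of_forall_eq 0 fun (x : Abelian.Ext _ _ _) => ?_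
  have e : x.comp (Abelian.Ext.mk₀ i.inv) (add_zero _) = 0 := @Subsingleton.elim _ this _ _
  have e' := congrArg (fun y => y.comp (Abelian.Ext.mk₀ i.hom) (add_zero _)) e
  simpa using e'

end Groth.LocCohZBase
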