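import Groth.Agent.SiteCohomology.SchemeModules
import Groth.Agent.CohBase.RpushAb
import Groth.Agent.CohBase.DerivedShift
import Groth.Agent.CohFin.Rpush
import Groth.Agent.Misc6.QCohExt
import Groth.Agent.CohTwo.ComposeCoh
import Groth.Agent.QCohMod.Category
import Groth.Agent.CohTwo.Extend

/-!
# Quasi-coherence of the derived functors of `Γ_Z` on modules
-/

universe u

open CategoryTheory CategoryTheory.Limits AlgebraicGeometry Opposite

namespace Groth.LocCohZBase

variable {U Y : Scheme.{u}} (j : U ⟶ Y) [IsOpenImmersion j]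

theorem preservesHomology_restrictFunctor : (Scheme.Modules.restrictFunctor j).PreservesHomology :=
  haveI : (Scheme.Modules.restrictFunctor j).PreservesMonomorphisms :=
    ⟨fun φ _ => Groth.CohTwo.mono_restrictMap j φ⟩
  Functor.preservesHomology_of_preservesMonos_and_cokernels _

/-- `j_* j^*`. -/
noncomputable abbrev pushRestr : Y.Modules ⥤ Y.Modules :=
  Scheme.Modules.restrictFunctor j ⋙ Scheme.Modules.pushforward j

/-- Closedness of quasi-coherent modules under kernels, cokernels and extensions. -/
theorem closed_isQuasicoherent :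
    Groth.CohTwo.ComposeCoh.Closed (fun M : Y.Modules => M.IsQuasicoherent) where
  iso i h := (Groth.QCohMod.isQCoh_iff_of_iso i).mp h
  ker f h h' := @Groth.QCohMod.isQCoh_kernel _ _ _ h h' f
  coker f h h' := @Groth.QCohMod.isQCoh_cokernel _ _ _ h h' f
  ext hS h h' := @Groth.Misc6.isQCoh_of_extension _ _ hS h h'

theorem epi_unit_of_injective (I : Y.Modules) [Injective I] :
    Epi ((Scheme.Modules.restrictAdjunction j).unit.app I) := by
  haveI : (Groth.CohBase.toAbF Y).Faithful :=
    inferInstanceAs (SheafOfModules.toSheaf.{u} Y.ringCatSheaf).Faithful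
  refine (Groth.CohBase.toAbF Y).epi_of_epi_map ((sheafToPresheaf _ AddCommGrpCat.{u}).epi_of_epi_map ?_)
  have h : ∀ V : (TopologicalSpace.Opens Y)ᵒᵖ,
      Epi (((sheafToPresheaf _ AddCommGrpCat.{u}).map ((Groth.CohBase.toAbF Y).map
        ((Scheme.Modules.restrictAdjunction j).unit.app I))).app V) := fun V =>
    (AddCommGrpCat.epi_iff_surjective _).2
      (Groth.CohFin.res_surjective_of_injective I (Scheme.Hom.image_preimage_le j V.unop))
  exact NatTrans.epi_of_epi_app _

variable [HasInjectiveResolutions Y.Modules]

/-- Higher derived functors of `j_* j^*` of quasi-coherent modules. -/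
theorem isQCoh_rightDerived_pushRestr [QuasiCompact j] (M : Y.Modules) [M.IsQuasicoherent] (n : ℕ) :
    (((pushRestr j).rightDerived n).obj M).IsQuasicoherent := by
  haveI := preservesHomology_restrictFunctor j
  haveI : PreservesFiniteLimits (Scheme.Modules.restrictFunctor j) :=
    Functor.preservesFiniteLimits_of_preservesHomology _
  haveI : (M.restrict j).IsQuasicoherent := Scheme.Modules.isQuasicoherent_restrictFunctor j M
  have hR : ∀ n, IsZero (((Scheme.Modules.restrictFunctor j).rightDerived (n + 1)).obj M) := fun n =>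
    IsZero.of_iso
      ((HomologicalComplex.exactAt_iff
        (((Scheme.Modules.restrictFunctor j).mapHomologicalComplex _).obj (injectiveResolution M).cocomplex)
        (n + 1)).2
        (((injectiveResolution M).cocomplex_exactAt_succ n).map (Scheme.Modules.restrictFunctor j))).isZero_homology
      ((injectiveResolution M).isoRightDerivedObj _ (n + 1))
  exact (Groth.QCohMod.isQCoh_iff_of_iso (Groth.CohBase.rightDerivedCompIso (F := Scheme.Modules.restrictFunctor j)
    (Scheme.Modules.pushforward j) (pushRestr j) (Iso.refl _)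
    (fun I _ => Groth.CohTwo.injective_restrict j I) hR n)).mp
    (Groth.CohBase.isQCoh_Rpush (M := M.restrict j) j n)

variable (K : CochainComplex Y.Modules ℕ)

/-- Sections supported on `Z` inside a complex. -/
noncomputable def gammaIncl : ((DCoh.gammaZ j).mapHomologicalComplex (ComplexShape.up ℕ)).obj K ⟶ K where
  f i := kernel.ι _
  comm' i k _ := (kernel.lift_ι _ _ _).symm

/-- The restriction map on a complex. -/
noncomputable def unitCx : K ⟶ ((pushRestr j).mapHomologicalComplex (ComplexShape.up ℕ)).obj K where
  f i := (Scheme.Modules.restrictAdjunction j).unit.app (K.X i)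
  comm' i k _ := ((Scheme.Modules.restrictAdjunction j).unit.naturality (K.d i k)).symm

/-- The sequence `0 → Γ_Z K → K → j_* j^* K → 0`. -/
noncomputable def suppSeq : ShortComplex (CochainComplex Y.Modules ℕ) :=
  ShortComplex.mk (gammaIncl j K) (unitCx j K) (HomologicalComplex.hom_ext _ _ fun i =>
    kernel.condition ((Scheme.Modules.restrictAdjunction j).unit.app (K.X i)))

theorem suppSeq_shortExact (hK : ∀ i, Injective (K.X i)) : (suppSeq j K).ShortExact :=
  HomologicalComplex.shortExact_of_degreewise_shortExact _ fun i =>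
    { exact := ShortComplex.exact_of_f_is_kernel _
        (kernelIsKernel ((Scheme.Modules.restrictAdjunction j).unit.app (K.X i)))
      mono_f := inferInstanceAs (Mono (kernel.ι ((Scheme.Modules.restrictAdjunction j).unit.app (K.X i))))
      epi_g := @epi_unit_of_injective _ _ j _ (K.X i) (hK i) }

/-- The derived functors of `Γ_Z` of quasi-coherent modules are quasi-coherent. -/
theorem isQCoh_rightDerived_gammaZ [QuasiCompact j] (M : Y.Modules) [M.IsQuasicoherent] (q : ℕ) :
    (((DCoh.gammaZ j).rightDerived q).obj M).IsQuasicoherent := by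
  let P := fun M : Y.Modules => M.IsQuasicoherent
  have hP : Groth.CohTwo.ComposeCoh.Closed P := closed_isQuasicoherent
  let R := injectiveResolution M
  let S := suppSeq j R.cocomplex
  have hS : S.ShortExact := suppSeq_shortExact j R.cocomplex fun i => R.injective i
  have h0 : P (cokernel (𝟙 M)) := hP.coker _ ‹_› ‹_›
  have hz : ∀ {A : Y.Modules}, IsZero A → P A := fun hA => hP.iso ((isZero_cokernel_of_epi (𝟙 M)).iso hA) h0
  have h₂ : ∀ n, P (S.X₂.homology n) := by
    rintro (_ | n)
    · exact hP.iso ((HomologicalComplex.singleObjHomologySelfIso (ComplexShape.up ℕ) 0 M).symm ≪≫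
        isoOfQuasiIsoAt R.ι 0) ‹_›
    · exact hz (R.cocomplex_exactAt_succ n).isZero_homology
  have h₃ : ∀ n, P (S.X₃.homology n) := fun n =>
    hP.iso (R.isoRightDerivedObj (pushRestr j) n) (isQCoh_rightDerived_pushRestr j M n)
  refine hP.iso (R.isoRightDerivedObj (DCoh.gammaZ j) q).symm ?_
  show P (S.X₁.homology q)
  cases q with
  | zero =>
    haveI := hS.mono_f
    haveI : Mono (HomologicalComplex.homologyMap S.f 0) :=
      HomologicalComplex.mono_homologyMap_of_mono_of_not_rel _ 0 fun k => by simp
    exact hP.iso ((IsLimit.conePointUniqueUpToIso (hS.homology_exact₂ 0).fIsKernel (kernelIsKernel _)).symm)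
      (hP.ker _ (h₂ 0) (h₃ 0))
  | succ n =>
    exact Groth.CohTwo.ComposeCoh.five hP (HomologicalComplex.homologyMap S.g n) (hS.δ n (n + 1) rfl)
      (HomologicalComplex.homologyMap S.f (n + 1)) (HomologicalComplex.homologyMap S.g (n + 1))
      (hS.homology_exact₃ n (n + 1) rfl) (hS.homology_exact₁ n (n + 1) rfl) (hS.homology_exact₂ (n + 1))
      (h₂ n) (h₃ n) (h₂ (n + 1)) (h₃ (n + 1))

end Groth.LocCohZBase
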