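import Groth.Agent.KoszulCone.SupportsCase
import Groth.Agent.KoszulCone.LocalCoh
import Groth.Agent.LocCohBase.Torsion

/-!
# Cohomology with supports on an affine scheme as local cohomology of the global sections
-/

universe u

open CategoryTheory CategoryTheory.Limits AlgebraicGeometry TopologicalSpace Opposite
open Groth.KoszulCone

namespace Groth.LocCohZBase

variable {X : Scheme.{u}} [IsAffine X] (F : X.Modules) [F.IsQuasicoherent]

/-- Koszul cohomology of the global sections as cohomology with supports. -/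
theorem nonempty_koszulHLim_equiv_HZM_affine (fs : List Γ(X, ⊤)) (i : ℕ) :
    Nonempty (CohIII.koszulHLim fs (ModuleCat.of Γ(X, ⊤) (F.val.obj (op ⊤))) i ≃+
      LocCohZ.HZM X F i (⨆ j : Fin fs.length, X.basicOpen (fs.get j))) := by
  set D := fun f : Γ(X, ⊤) => X.basicOpen f
  set W : X.Opens := ⨆ j : Fin fs.length, D (fs.get j) with hWdef
  have hle : ∀ j, famOf (T := X.toTopCat) D fs j ≤ W := fun j =>
    le_iSup (fun i : Fin fs.length => D (fs.get i)) j.down
  have hcov : W ≤ ⨆ j, famOf (T := X.toTopCat) D fs j :=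
    iSup_le fun j => le_iSup (famOf (T := X.toTopCat) D fs) ⟨j⟩
  have hv : ∀ n : ℕ, Subsingleton (CohTop.HU (X := X.toTopCat) (Coh.toAb F) (n + 1) ⊤) := fun n =>
    CohBase.hVanish_of_isAffineOpen F (isAffineOpen_top X) n
  obtain ⟨⟨a⟩, ⟨b⟩⟩ := nonempty_ker_coker_equiv_koszulHLim F fs W hWdef
  match i with
  | 0 => exact ⟨a.symm.trans (LocCohZ.sect0Equiv (X := X.toTopCat) (Coh.toAb F) le_top).symm⟩
  | 1 =>
    have := hv 0
    refine ⟨b.symm.trans (addEquivOfKer (QuotientAddGroup.mk' _)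
      (secDelta (T := X.toTopCat) (Coh.toAb F) (le_top : W ≤ ⊤)) (QuotientAddGroup.mk'_surjective _)
      (secDelta_surjective _ _) fun t => ?_)⟩
    rw [QuotientAddGroup.mk'_apply, QuotientAddGroup.eq_zero_iff]
    exact (secDelta_eq_zero_iff (T := X.toTopCat) (Coh.toAb F) le_top t).symm
  | j + 2 =>
    obtain ⟨e⟩ := nonempty_cechH_equiv_koszulHLim F fs (j + 1) (by omega)
    have hU : ∀ (n : ℕ) (x : Fin (n + 1) → ULift.{u} (Fin fs.length)),
        IsAffineOpen (X := X) (CohBase.inter (X := X.toTopCat) (famOf (T := X.toTopCat) D fs) x) := by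
      intro n
      induction n with
      | zero => intro x; rw [CohBase.inter_one]; exact (isAffineOpen_top X).basicOpen _
      | succ n ih =>
        intro x
        rw [← Fin.cons_self_tail x, CohBase.inter_cons]
        exact IsAffineOpen.inf ((isAffineOpen_top X).basicOpen _) (ih _)
    obtain ⟨e''⟩ := CohBase.nonempty_cech_equiv_H' (X := X.toTopCat) (famOf (T := X.toTopCat) D fs) W
      hle hcov (j + 1) (CohBase.abSheaf F) fun n x k => CohBase.hVanish_of_isAffineOpen F (hU n x) k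
    have := hv j
    have := hv (j + 1)
    let d : CohTop.HU (X := X.toTopCat) (Coh.toAb F) (j + 1) W ≃+ LocCohZ.HZM X F (j + 1 + 1) W :=
      AddEquiv.ofBijective (LocCohZ.delta (Coh.toAb F) (j + 1) (le_top : W ≤ ⊤))
        ⟨LocCohZBase.delta_injective _ _ _, LocCohZBase.delta_surjective _ _ _⟩
    exact ⟨e.symm.trans (e''.trans d)⟩

/-- Cohomology with supports on a Noetherian affine scheme as local cohomology. -/
theorem nonempty_H_equiv_HZM_affine [IsNoetherianRing Γ(X, ⊤)] (fs : List Γ(X, ⊤)) (i : ℕ) :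
    Nonempty (LocCoh.H (Ideal.span {a | a ∈ fs}) i (ModuleCat.of Γ(X, ⊤) (F.val.obj (op ⊤))) ≃+
      LocCohZ.HZM X F i (⨆ j : Fin fs.length, X.basicOpen (fs.get j))) := by
  obtain ⟨e⟩ := nonempty_koszulHLim_equiv_HZM_affine F fs i
  obtain ⟨a⟩ := nonempty_HH'_equiv_Kinf fs i (ModuleCat.of Γ(X, ⊤) (F.val.obj (op ⊤)))
  obtain ⟨b⟩ := nonempty_koszulHLim_equiv_Kinf fs (ModuleCat.of Γ(X, ⊤) (F.val.obj (op ⊤))) i
  exact ⟨a.toAddEquiv.trans (b.symm.toAddEquiv.trans e)⟩

/-- Vanishing in degree `i`, over any model of the global sections. -/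
theorem subsingleton_HZM_iff_H [IsNoetherianRing Γ(X, ⊤)] (fs : List Γ(X, ⊤))
    {N : Type u} [AddCommGroup N] [Module Γ(X, ⊤) N] (e : Γ(F, ⊤) ≃ₗ[Γ(X, ⊤)] N) (i : ℕ) :
    Subsingleton (LocCohZ.HZM X F i (⨆ j : Fin fs.length, X.basicOpen (fs.get j))) ↔
      Subsingleton (LocCoh.H (Ideal.span {a | a ∈ fs}) i N) := by
  obtain ⟨a⟩ := nonempty_H_equiv_HZM_affine F fs i
  let b := ((localCohomology (Ideal.span {a : Γ(X, ⊤) | a ∈ fs}) i).mapIso
    (LinearEquiv.toModuleIso e)).toLinearEquiv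
  exact a.symm.toEquiv.subsingleton_congr.trans b.toEquiv.subsingleton_congr

end Groth.LocCohZBase
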