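import Groth.Agent.LocCohZBase.Flasque
import Mathlib.CategoryTheory.Adjunction.FullyFaithful
import Mathlib.CategoryTheory.Preadditive.Injective.Basic
import Mathlib.Topology.Category.TopCat.Opens

/-!
# Direct image from a closed subspace is left adjoint to sections with support
-/

universe u

open CategoryTheory CategoryTheory.Limits Opposite TopologicalSpace Topology

namespace Groth.LocCohZBase

variable {X : TopCat.{u}} (U : Opens X)

theorem isInducing_inclCompl : IsInducing (CohCx.inclCompl U) := IsInducing.subtypeVal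

/-- The largest open of `X` with given trace on the closed complement. -/
noncomputable abbrev big (V : Opens (TopCat.of ((U : Set X)ᶜ : Set X))) : Opens X :=
  (isInducing_inclCompl U).functorObj V

theorem map_big (V : Opens (TopCat.of ((U : Set X)ᶜ : Set X))) :
    (Opens.map (CohCx.inclCompl U)).obj (big U V) = V :=
  (isInducing_inclCompl U).map_functorObj V

theorem le_big_iff {W : Opens X} {V : Opens (TopCat.of ((U : Set X)ᶜ : Set X))} :
    W ≤ big U V ↔ (Opens.map (CohCx.inclCompl U)).obj W ≤ V :=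
  (isInducing_inclCompl U).le_functorObj_iff

theorem natural_apply {F G : CohTop.Ab (TopCat.of ((U : Set X)ᶜ : Set X))}
    (ψ : (CohTop.push (CohCx.inclCompl U)).obj F ⟶ (CohTop.push (CohCx.inclCompl U)).obj G)
    {A B : Opens X} (h : B ≤ A) (s : F.obj.obj (op ((Opens.map (CohCx.inclCompl U)).obj A))) :
    ψ.hom.app (op B) (F.obj.map ((Opens.map (CohCx.inclCompl U)).map (homOfLE h)).op s) =
      G.obj.map ((Opens.map (CohCx.inclCompl U)).map (homOfLE h)).op (ψ.hom.app (op A) s) :=
  congrArg (fun m : ((CohTop.push (CohCx.inclCompl U)).obj F).obj.obj (op A) ⟶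
    ((CohTop.push (CohCx.inclCompl U)).obj G).obj.obj (op B) => m s) (ψ.hom.naturality (homOfLE h).op)

/-- The preimage of a map between direct images. -/
noncomputable def pushPre {F G : CohTop.Ab (TopCat.of ((U : Set X)ᶜ : Set X))}
    (ψ : (CohTop.push (CohCx.inclCompl U)).obj F ⟶ (CohTop.push (CohCx.inclCompl U)).obj G) : F ⟶ G :=
  ⟨{ app := fun V => F.obj.map (homOfLE (map_big U V.unop).le).op ≫ ψ.hom.app (op (big U V.unop)) ≫
        G.obj.map (homOfLE (map_big U V.unop).ge).op
     naturality := fun V W f => by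
      refine AddCommGrpCat.hom_ext (AddMonoidHom.ext fun s => ?_)
      have h : big U W.unop ≤ big U V.unop :=
        (le_big_iff U).2 ((map_big U W.unop).le.trans (leOfHom f.unop))
      have e1 := (map_map F f (homOfLE (map_big U W.unop).le).op
        ((homOfLE (map_big U V.unop).le).op ≫ ((Opens.map (CohCx.inclCompl U)).map (homOfLE h)).op) s).trans
        (map_map F (homOfLE (map_big U V.unop).le).op
          ((Opens.map (CohCx.inclCompl U)).map (homOfLE h)).op _ s).symm
      refine (congrArg (fun t => G.obj.map (homOfLE (map_big U W.unop).ge).op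
        (ψ.hom.app (op (big U W.unop)) t)) e1).trans ?_
      refine (congrArg (G.obj.map (homOfLE (map_big U W.unop).ge).op) (natural_apply U ψ h _)).trans ?_
      exact (map_map G _ _ (((Opens.map (CohCx.inclCompl U)).map (homOfLE h)).op ≫
          (homOfLE (map_big U W.unop).ge).op) _).trans (map_map G _ _ _ _).symm }⟩

theorem map_pushPre {F G : CohTop.Ab (TopCat.of ((U : Set X)ᶜ : Set X))}
    (ψ : (CohTop.push (CohCx.inclCompl U)).obj F ⟶ (CohTop.push (CohCx.inclCompl U)).obj G) :
    (CohTop.push (CohCx.inclCompl U)).map (pushPre U ψ) = ψ := by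
  apply Sheaf.hom_ext
  refine NatTrans.ext (funext fun W => AddCommGrpCat.hom_ext (AddMonoidHom.ext fun s => ?_))
  have hW : W.unop ≤ big U ((Opens.map (CohCx.inclCompl U)).obj W.unop) := (le_big_iff U).2 le_rfl
  change G.obj.map (homOfLE (map_big U ((Opens.map (CohCx.inclCompl U)).obj W.unop)).ge).op
    (ψ.hom.app (op (big U ((Opens.map (CohCx.inclCompl U)).obj W.unop)))
      (F.obj.map (homOfLE (map_big U ((Opens.map (CohCx.inclCompl U)).obj W.unop)).le).op s)) =
    ψ.hom.app W s
  rw [show (homOfLE (map_big U ((Opens.map (CohCx.inclCompl U)).obj W.unop)).ge).op =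
    ((Opens.map (CohCx.inclCompl U)).map (homOfLE hW)).op from Subsingleton.elim _ _]
  refine (natural_apply U ψ hW _).symm.trans ?_
  rw [map_map F _ _ (𝟙 _) s, CategoryTheory.Functor.map_id]
  rfl

theorem push_map_injective {F G : CohTop.Ab (TopCat.of ((U : Set X)ᶜ : Set X))} (a b : F ⟶ G)
    (h : (CohTop.push (CohCx.inclCompl U)).map a = (CohTop.push (CohCx.inclCompl U)).map b) : a = b := by
  apply Sheaf.hom_ext
  ext V : 2
  have he := congrArg (fun m : (CohTop.push (CohCx.inclCompl U)).obj F ⟶
    (CohTop.push (CohCx.inclCompl U)).obj G => m.hom.app (op (big U V.unop))) h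
  have ha := a.hom.naturality (homOfLE (map_big U V.unop).le).op
  have hb := b.hom.naturality (homOfLE (map_big U V.unop).le).op
  change a.hom.app (op ((Opens.map _).obj (big U V.unop))) =
    b.hom.app (op ((Opens.map _).obj (big U V.unop))) at he
  rw [he, hb] at ha
  have : IsIso (G.obj.map (homOfLE (map_big U V.unop).le).op) := by
    have : IsIso (homOfLE (map_big U V.unop).le) := ⟨homOfLE (map_big U V.unop).ge,
      Subsingleton.elim _ _, Subsingleton.elim _ _⟩
    infer_instance
  exact (cancel_mono _).1 ha.symm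

theorem push_full : (CohTop.push (CohCx.inclCompl U)).Full := ⟨fun ψ => ⟨pushPre U ψ, map_pushPre U ψ⟩⟩

theorem push_faithful : (CohTop.push (CohCx.inclCompl U)).Faithful := ⟨fun h => push_map_injective U _ _ h⟩

theorem push_apply_eq_zero (G : CohTop.Ab (TopCat.of ((U : Set X)ᶜ : Set X))) {W : Opens X} (hW : W ≤ U)
    (x : ((CohTop.push (CohCx.inclCompl U)).obj G).obj.obj (op W)) : x = 0 := by
  have e : (Opens.map (CohCx.inclCompl U)).obj W = ⊥ :=
    eq_bot_iff.2 fun z hz => absurd (hW hz) z.2
  exact TopCat.Sheaf.eq_of_locally_eq'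
    (⟨G.obj, G.property⟩ : TopCat.Sheaf AddCommGrpCat.{u} (TopCat.of ((U : Set X)ᶜ : Set X)))
    (fun i : Empty => i.elim) ((Opens.map (CohCx.inclCompl U)).obj W) (fun i => i.elim)
    (e.le.trans bot_le) x 0 (fun i => i.elim)

variable {U}

theorem res_bijective_of_supported (H : CohTop.Ab X)
    (hH : ∀ W : Opens X, W ≤ U → ∀ x : H.obj.obj (op W), x = 0) {A B : Opens X} (h : A ≤ B)
    (e : (Opens.map (CohCx.inclCompl U)).obj B ≤ (Opens.map (CohCx.inclCompl U)).obj A) :
    Function.Bijective (H.obj.map (homOfLE h).op) := by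
  have hcov : B ≤ A ⊔ (B ⊓ U) := fun x hx => by
    by_cases hxU : x ∈ U
    · exact Or.inr ⟨hx, hxU⟩
    · exact Or.inl (e (show (⟨x, hxU⟩ : ((U : Set X)ᶜ : Set X)) ∈ (Opens.map (CohCx.inclCompl U)).obj B from hx))
  refine ⟨fun s t hst => ?_, fun a => ?_⟩
  · exact TopCat.Sheaf.eq_of_locally_eq₂ (⟨H.obj, H.property⟩ : TopCat.Sheaf AddCommGrpCat.{u} X)
      (homOfLE h) (homOfLE inf_le_left) hcov s t hst
      ((hH _ inf_le_right _).trans (hH _ inf_le_right _).symm)
  · obtain ⟨g, hg, -⟩ := exists_glue₂ H h (inf_le_left : B ⊓ U ≤ B) hcov a 0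
      ((hH _ (inf_le_right.trans inf_le_right) _).trans (hH _ (inf_le_right.trans inf_le_right) _).symm)
    exact ⟨g, hg⟩

/-- A sheaf supported on the complement of `U` is a direct image. -/
theorem mem_essImage_push (H : CohTop.Ab X)
    (hH : ∀ W : Opens X, W ≤ U → ∀ x : H.obj.obj (op W), x = 0) :
    (CohTop.push (CohCx.inclCompl U)).essImage H := by
  have hmm : ∀ {A B C : Opens X} (h : B ≤ A) (h' : C ≤ B) (s : H.obj.obj (op A)),
      H.obj.map (homOfLE h').op (H.obj.map (homOfLE h).op s) = H.obj.map (homOfLE (h'.trans h)).op s :=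
    fun h h' s => map_map H _ _ _ s
  let F₀ : TopCat.Presheaf AddCommGrpCat.{u} (TopCat.of ((U : Set X)ᶜ : Set X)) :=
    (isInducing_inclCompl U).functor.op ⋙ H.obj
  have hF₀ : F₀.IsSheaf := by
    rw [TopCat.Presheaf.isSheaf_iff_isSheafUniqueGluing]
    intro ι V sf hsf
    have hle : ∀ k, big U (V k) ≤ big U (iSup V) :=
      fun k => (le_big_iff U).2 ((map_big U _).le.trans (le_iSup V k))
    have hb := res_bijective_of_supported H hH (iSup_le hle) (by
      refine (map_big U _).le.trans (iSup_le fun k => (map_big U (V k)).ge.trans ?_)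
      exact leOfHom ((Opens.map (CohCx.inclCompl U)).map (homOfLE (le_iSup (fun k => big U (V k)) k))))
    obtain ⟨t, ht, htu⟩ := TopCat.Sheaf.existsUnique_gluing
      (⟨H.obj, H.property⟩ : TopCat.Sheaf AddCommGrpCat.{u} X) (fun k => big U (V k)) sf (fun k l => by
        have hle' : big U (V k) ⊓ big U (V l) ≤ big U (V k ⊓ V l) :=
          (le_big_iff U).2 fun z hz =>
            ⟨(map_big U _).le hz.1, (map_big U _).le hz.2⟩
        have e := congrArg (H.obj.map (homOfLE hle').op) (hsf k l)
        change H.obj.map _ (H.obj.map (homOfLE _).op (sf k)) =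
          H.obj.map _ (H.obj.map (homOfLE _).op (sf l)) at e
        rw [hmm, hmm] at e
        exact e)
    obtain ⟨t', rfl⟩ := hb.2 t
    refine ⟨t', fun k => ?_, fun s hs => hb.1 (htu _ fun k => ?_)⟩
    · exact (hmm _ _ t').symm.trans (ht k)
    · exact (hmm _ _ s).trans (hs k)
  have hbij : ∀ W : Opens X, Function.Bijective
      (H.obj.map (homOfLE ((le_big_iff U).2 le_rfl : W ≤ big U ((Opens.map (CohCx.inclCompl U)).obj W))).op) :=
    fun W => res_bijective_of_supported H hH _ (map_big U _).le
  have : ∀ W : Opens X, IsIso (H.obj.map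
      (homOfLE ((le_big_iff U).2 le_rfl : W ≤ big U ((Opens.map (CohCx.inclCompl U)).obj W))).op) :=
    fun W => (ConcreteCategory.isIso_iff_bijective _).2 (hbij W)
  refine ⟨⟨F₀, hF₀⟩, ⟨(fullyFaithfulSheafToPresheaf _ _).preimageIso
    (NatIso.ofComponents (fun W => @asIso _ _ _ _ _ (this W.unop)) ?_)⟩⟩
  intro A B f
  change H.obj.map _ ≫ H.obj.map _ = H.obj.map _ ≫ H.obj.map f
  rw [← H.obj.map_comp, ← H.obj.map_comp]
  exact congrArg H.obj.map (Subsingleton.elim _ _)

variable (U)

theorem supp_sectSupp (F : CohTop.Ab X) (W : Opens X) (hW : W ≤ U)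
    (x : ((LocCohZ.sectSuppF U).obj F).obj.obj (op W)) : x = 0 := by
  apply suppι_injective U F W
  rw [map_zero]
  have h := suppι_res U F W x
  have hiso : IsIso (homOfLE (inf_le_left : W ⊓ U ≤ W)) :=
    ⟨homOfLE (le_inf le_rfl hW), Subsingleton.elim _ _, Subsingleton.elim _ _⟩
  exact ((AddCommGrpCat.mono_iff_injective _).1 inferInstance) (h.trans (map_zero _).symm)

/-- The adjunction `pull i ⊣ push i` for the closed complement. -/
noncomputable abbrev closedAdj : CohTop.pull (CohCx.inclCompl U) ⊣ CohTop.push (CohCx.inclCompl U) :=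
  TopCat.Sheaf.pullbackPushforwardAdjunction AddCommGrpCat.{u} (CohCx.inclCompl U)

theorem isIso_unit_sectSupp (F : CohTop.Ab X) :
    IsIso ((closedAdj U).unit.app ((LocCohZ.sectSuppF U).obj F)) := by
  have := push_full U
  have := push_faithful U
  obtain ⟨Y, ⟨e⟩⟩ := mem_essImage_push _ (supp_sectSupp U F)
  exact (closedAdj U).isIso_unit_app_of_iso e.symm

/-- `i_* i⁻¹ Γ_Z F ⟶ F`. -/
noncomputable def closedε :
    (LocCohZ.sectSuppF U ⋙ CohTop.pull (CohCx.inclCompl U)) ⋙ CohTop.push (CohCx.inclCompl U) ⟶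
      𝟭 (CohTop.Ab X) where
  app F := haveI := isIso_unit_sectSupp U F
    inv ((closedAdj U).unit.app ((LocCohZ.sectSuppF U).obj F)) ≫ suppι U F
  naturality {F G} φ := by
    have iF : IsIso ((closedAdj U).unit.app ((LocCohZ.sectSuppF U).obj F)) := isIso_unit_sectSupp U F
    have iG : IsIso ((closedAdj U).unit.app ((LocCohZ.sectSuppF U).obj G)) := isIso_unit_sectSupp U G
    have e : (CohTop.push (CohCx.inclCompl U)).map ((CohTop.pull (CohCx.inclCompl U)).map
        ((LocCohZ.sectSuppF U).map φ)) =
        inv ((closedAdj U).unit.app ((LocCohZ.sectSuppF U).obj F)) ≫ (LocCohZ.sectSuppF U).map φ ≫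
          (closedAdj U).unit.app ((LocCohZ.sectSuppF U).obj G) :=
      (IsIso.eq_inv_comp _).2 ((closedAdj U).unit.naturality ((LocCohZ.sectSuppF U).map φ)).symm
    refine (congrArg (· ≫ _) e).trans ?_
    refine (Category.assoc _ _ _).trans ?_
    refine Eq.trans ?_ (Category.assoc _ _ _).symm
    refine congrArg (_ ≫ ·) ?_
    refine (Category.assoc _ _ _).trans ?_
    refine (congrArg (_ ≫ ·) (IsIso.hom_inv_id_assoc _ _)).trans ?_
    exact suppι_naturality U φ

theorem bijective_push_comp (G : CohTop.Ab (TopCat.of ((U : Set X)ᶜ : Set X))) (F : CohTop.Ab X) :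
    Function.Bijective (fun g : G ⟶ (CohTop.pull (CohCx.inclCompl U)).obj ((LocCohZ.sectSuppF U).obj F) =>
      (CohTop.push (CohCx.inclCompl U)).map g ≫ (closedε U).app F) := by
  have := isIso_unit_sectSupp U F
  refine ⟨fun a b h => push_map_injective U a b ?_, fun f => ?_⟩
  · have hm : Mono (suppι U F) := inferInstanceAs (Mono (kernel.ι _))
    have : Mono ((closedε U).app F) := mono_comp' inferInstance hm
    exact (cancel_mono ((closedε U).app F)).1 h
  · have hf : f ≫ (TopCat.Sheaf.pullbackPushforwardAdjunction AddCommGrpCat.{u} (CohCx.incl U)).unit.app F = 0 := by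
      apply Sheaf.hom_ext
      ext W (x : ((CohTop.push (CohCx.inclCompl U)).obj G).obj.obj W)
      refine (unit_eq_zero_iff U F W.unop _).2 ?_
      refine (congrArg (fun m : ((CohTop.push (CohCx.inclCompl U)).obj G).obj.obj W ⟶
        F.obj.obj (op (W.unop ⊓ U)) => m x) (f.hom.naturality (homOfLE inf_le_left).op)).symm.trans ?_
      exact (congrArg (f.hom.app _) (push_apply_eq_zero U G inf_le_right _)).trans (map_zero _)
    refine ⟨pushPre U (kernel.lift _ f hf ≫ (closedAdj U).unit.app ((LocCohZ.sectSuppF U).obj F)), ?_⟩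
    refine (congrArg (· ≫ _) (map_pushPre U _)).trans ?_
    change (kernel.lift _ f hf ≫ _) ≫ inv _ ≫ suppι U F = f
    refine (Category.assoc _ _ _).trans ?_
    refine (congrArg (_ ≫ ·) (@IsIso.hom_inv_id_assoc _ _ _ _ _ this _ _)).trans ?_
    exact kernel.lift_ι _ _ _

/-- `i_* ⊣ i⁻¹ Γ_Z`. -/
noncomputable def closedSuppAdj :
    CohTop.push (CohCx.inclCompl U) ⊣ LocCohZ.sectSuppF U ⋙ CohTop.pull (CohCx.inclCompl U) :=
  Adjunction.mkOfHomEquiv
    { homEquiv := fun G F => (Equiv.ofBijective _ (bijective_push_comp U G F)).symm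
      homEquiv_naturality_left_symm := fun {G' G F} f g => by
        change (CohTop.push (CohCx.inclCompl U)).map (f ≫ g) ≫ (closedε U).app F = _
        rw [Functor.map_comp, Category.assoc]
        rfl
      homEquiv_naturality_right := fun {G F F'} f k => by
        apply (Equiv.ofBijective _ (bijective_push_comp U G F')).injective
        rw [Equiv.apply_symm_apply]
        obtain ⟨g, rfl⟩ := (Equiv.ofBijective _ (bijective_push_comp U G F)).surjective f
        rw [Equiv.symm_apply_apply]
        change ((CohTop.push (CohCx.inclCompl U)).map g ≫ (closedε U).app F) ≫ k =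
          (CohTop.push (CohCx.inclCompl U)).map (g ≫ (LocCohZ.sectSuppF U ⋙
            CohTop.pull (CohCx.inclCompl U)).map k) ≫ (closedε U).app F'
        rw [Functor.map_comp, Category.assoc, Category.assoc]
        exact congrArg (_ ≫ ·) ((closedε U).naturality k).symm }

end Groth.LocCohZBase
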