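import Mathlib.CategoryTheory.Abelian.RightDerived
import Mathlib.Algebra.Homology.HomologySequenceLemmas
import Mathlib.Algebra.Homology.HomologicalComplexAbelian

/-!
# Connecting maps of right derived functors for a sequence of functors exact on injectives
-/

universe v u v' u'

open CategoryTheory CategoryTheory.Limits

namespace Groth.LocCohZBase.Connecting

variable {C : Type u} [Category.{v} C] [Abelian C] [HasInjectiveResolutions C]
  {D : Type u'} [Category.{v'} D] [Abelian D]
  (G K P : C ⥤ D) [G.Additive] [K.Additive] [P.Additive]
  (a : G ⟶ K) (b : K ⟶ P) (w : a ≫ b = 0)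

/-- The sequence of complexes attached to an injective resolution. -/
noncomputable abbrev seq {X : C} (R : InjectiveResolution X) :
    ShortComplex (CochainComplex D ℕ) :=
  ShortComplex.mk ((NatTrans.mapHomologicalComplex a _).app R.cocomplex)
    ((NatTrans.mapHomologicalComplex b _).app R.cocomplex) (by
      ext i
      exact congrArg (fun t : G ⟶ P => t.app (R.cocomplex.X i)) w)

variable (hex : ∀ I : C, Injective I →
  (ShortComplex.mk (a.app I) (b.app I) (congrArg (fun t : G ⟶ P => t.app I) w)).ShortExact)

omit [HasInjectiveResolutions C] in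
include hex in
theorem seq_shortExact {X : C} (R : InjectiveResolution X) : (seq G K P a b w R).ShortExact :=
  HomologicalComplex.shortExact_of_degreewise_shortExact _ fun i => hex _ (R.injective i)

/-- The connecting natural transformation. -/
noncomputable def Δ (i : ℕ) : P.rightDerived i ⟶ G.rightDerived (i + 1) where
  app X := ((injectiveResolution X).isoRightDerivedObj P i).hom ≫
    (seq_shortExact G K P a b w hex (injectiveResolution X)).δ i (i + 1) (by simp) ≫
      ((injectiveResolution X).isoRightDerivedObj G (i + 1)).inv
  naturality {X Y} f := by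
    have hg := InjectiveResolution.desc_commutes_zero f (injectiveResolution Y) (injectiveResolution X)
    have h1 := InjectiveResolution.isoRightDerivedObj_hom_naturality f (injectiveResolution X)
      (injectiveResolution Y) (InjectiveResolution.desc f _ _) hg P i
    have h2 := InjectiveResolution.isoRightDerivedObj_inv_naturality f (injectiveResolution X)
      (injectiveResolution Y) (InjectiveResolution.desc f _ _) hg G (i + 1)
    let φ : seq G K P a b w (injectiveResolution X) ⟶ seq G K P a b w (injectiveResolution Y) :=
      { τ₁ := (G.mapHomologicalComplex _).map (InjectiveResolution.desc f _ _)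
        τ₂ := (K.mapHomologicalComplex _).map (InjectiveResolution.desc f _ _)
        τ₃ := (P.mapHomologicalComplex _).map (InjectiveResolution.desc f _ _)
        comm₁₂ := NatTrans.mapHomologicalComplex_naturality a _
        comm₂₃ := NatTrans.mapHomologicalComplex_naturality b _ }
    have hn := HomologicalComplex.HomologySequence.δ_naturality φ
      (seq_shortExact G K P a b w hex _) (seq_shortExact G K P a b w hex _) i (i + 1) (by simp)
    refine ((Category.assoc _ _ _).symm.trans (congrArg (· ≫ _) h1)).trans ?_
    simp only [Category.assoc]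
    refine congrArg (((injectiveResolution X).isoRightDerivedObj P i).hom ≫ ·) ?_
    refine Eq.trans ?_ (congrArg ((seq_shortExact G K P a b w hex (injectiveResolution X)).δ i (i + 1)
      (by simp) ≫ ·) h2).symm
    exact ((Category.assoc _ _ _).symm.trans (congrArg (· ≫ _) hn.symm)).trans (Category.assoc _ _ _)

theorem isIso_Δ (i : ℕ) (hi : ∀ X, IsZero ((K.rightDerived i).obj X))
    (hj : ∀ X, IsZero ((K.rightDerived (i + 1)).obj X)) : IsIso (Δ G K P a b w hex i) := by
  have : ∀ X, IsIso ((Δ G K P a b w hex i).app X) := fun X => by
    have : IsIso ((seq_shortExact G K P a b w hex (injectiveResolution X)).δ i (i + 1) (by simp)) :=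
      ShortComplex.ShortExact.isIso_δ _ _ _ _
        ((hi X).of_iso ((injectiveResolution X).isoRightDerivedObj K i).symm)
        ((hj X).of_iso ((injectiveResolution X).isoRightDerivedObj K (i + 1)).symm)
    exact IsIso.comp_isIso' inferInstance (IsIso.comp_isIso' this inferInstance)
  exact NatIso.isIso_of_isIso_app _

theorem toRightDerivedZero_naturality :
    b ≫ P.toRightDerivedZero = K.toRightDerivedZero ≫ NatTrans.rightDerived b 0 := by
  ext X
  let R := injectiveResolution X
  rw [NatTrans.comp_app, NatTrans.comp_app, R.toRightDerivedZero_eq, R.toRightDerivedZero_eq,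
    R.rightDerived_app_eq b 0]
  have h : b.app X ≫ R.toRightDerivedZero' P = R.toRightDerivedZero' K ≫
      HomologicalComplex.cyclesMap ((NatTrans.mapHomologicalComplex b _).app R.cocomplex) 0 := by
    rw [← cancel_mono (HomologicalComplex.iCycles _ _), Category.assoc, Category.assoc,
      InjectiveResolution.toRightDerivedZero'_comp_iCycles, HomologicalComplex.cyclesMap_i,
      InjectiveResolution.toRightDerivedZero'_comp_iCycles_assoc]
    exact (b.naturality (R.ι.f 0)).symm
  refine (Category.assoc _ _ _).symm.trans ((congrArg (· ≫ _) h).trans ?_)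
  refine (Category.assoc _ _ _).trans (Eq.trans ?_ (Category.assoc _ _ _).symm)
  refine congrArg (R.toRightDerivedZero' K ≫ ·) ?_
  refine Eq.trans ?_ (Category.assoc _ _ _).symm
  refine Eq.trans ?_ (congrArg (_ ≫ ·) (Iso.inv_hom_id_assoc (R.isoRightDerivedObj K 0) _).symm)
  refine (Category.assoc _ _ _).symm.trans (Eq.trans ?_ (Category.assoc _ _ _))
  exact congrArg (· ≫ _) (HomologicalComplex.homologyπ_naturality _ 0).symm

variable [PreservesFiniteLimits K] [PreservesFiniteLimits P]

/-- `P ⟶ G.rightDerived 1`. -/
noncomputable def θ : P ⟶ G.rightDerived 1 := P.toRightDerivedZero ≫ Δ G K P a b w hex 0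

omit [PreservesFiniteLimits P] in
theorem b_θ : b ≫ θ G K P a b w hex = 0 := by
  rw [θ, ← Category.assoc, toRightDerivedZero_naturality, Category.assoc]
  ext X
  have hc := (seq_shortExact G K P a b w hex (injectiveResolution X)).comp_δ 0 1 (by simp)
  rw [NatTrans.comp_app, NatTrans.comp_app, (injectiveResolution X).rightDerived_app_eq b 0]
  simp only [Δ, Category.assoc]
  erw [Iso.inv_hom_id_assoc, reassoc_of% hc]
  simp
  rfl

/-- `G.rightDerived 1` is the cokernel of `b` when `K¹ = 0`. -/
noncomputable def isColimitθ (h1 : ∀ X, IsZero ((K.rightDerived 1).obj X)) :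
    IsColimit (CokernelCofork.ofπ (θ G K P a b w hex) (b_θ G K P a b w hex)) := by
  have he : ∀ X, Epi ((θ G K P a b w hex).app X) ∧
      (ShortComplex.mk (b.app X) ((θ G K P a b w hex).app X)
        (congrArg (fun t : K ⟶ G.rightDerived 1 => t.app X) (b_θ G K P a b w hex))).Exact := by
    intro X
    let R := injectiveResolution X
    have hS := seq_shortExact G K P a b w hex R
    have h3 := hS.homology_exact₃ 0 1 (by simp)
    have hepi : Epi (hS.δ 0 1 (by simp)) := by
      have h := (hS.homology_exact₁ 0 1 (by simp)).epi_f
      exact h (((h1 X).of_iso (R.isoRightDerivedObj K 1).symm).eq_of_tgt _ _)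
    have : IsIso (P.toRightDerivedZero.app X) := inferInstance
    refine ⟨?_, ?_⟩
    · exact epi_comp' inferInstance (epi_comp' inferInstance (epi_comp' hepi inferInstance))
    · refine (ShortComplex.exact_iff_of_iso ?_).2 h3
      refine ShortComplex.isoMk (asIso (K.toRightDerivedZero.app X) ≪≫ R.isoRightDerivedObj K 0)
        (asIso (P.toRightDerivedZero.app X) ≪≫ R.isoRightDerivedObj P 0)
        (R.isoRightDerivedObj G 1) ?_ ?_
      · have hb := congrArg (fun t : K ⟶ P.rightDerived 0 => t.app X)
          (toRightDerivedZero_naturality K P b)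
        simp only [NatTrans.comp_app, R.rightDerived_app_eq b 0] at hb
        dsimp only [Iso.trans_hom, asIso_hom]
        simp only [Category.assoc]
        rw [← Category.assoc (b.app X), hb, Category.assoc, Category.assoc, Category.assoc]
        erw [Iso.inv_hom_id]
        exact congrArg (_ ≫ ·) (congrArg (_ ≫ ·) (Category.comp_id _).symm)
      · dsimp only [Iso.trans_hom, asIso_hom, θ, Δ, NatTrans.comp_app]
        simp only [Category.assoc]
        exact congrArg (_ ≫ ·) (congrArg (_ ≫ ·) (((congrArg (hS.δ 0 1 (by simp) ≫ ·)
          ((R.isoRightDerivedObj G 1).inv_hom_id)).trans (Category.comp_id _)).symm))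
  refine CokernelCofork.IsColimit.ofπ _ _
    (fun {T} t ht =>
      { app := fun X => haveI := (he X).1
          (he X).2.desc (t.app X) (congrArg (fun s : K ⟶ T => s.app X) ht)
        naturality := fun X Y f => ?_ })
    (fun {T} t ht => ?_) (fun {T} t ht m hm => ?_)
  · have := (he X).1
    have := (he Y).1
    have eX := (he X).2.g_desc (t.app X) (congrArg (fun s : K ⟶ T => s.app X) ht)
    have eY := (he Y).2.g_desc (t.app Y) (congrArg (fun s : K ⟶ T => s.app Y) ht)
    rw [← cancel_epi ((θ G K P a b w hex).app X), reassoc_of% eX]
    refine Eq.trans ?_ (t.naturality f)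
    rw [← Category.assoc]
    refine (congrArg (· ≫ _) ((θ G K P a b w hex).naturality f).symm).trans ?_
    rw [Category.assoc]
    exact congrArg (_ ≫ ·) eY
  · ext X
    have := (he X).1
    exact (he X).2.g_desc (t.app X) _
  · ext X
    have := (he X).1
    rw [← cancel_epi ((θ G K P a b w hex).app X)]
    exact (congrArg (fun s : P ⟶ T => s.app X) hm).trans
      ((he X).2.g_desc (t.app X) (congrArg (fun s : K ⟶ T => s.app X) ht)).symm

end Groth.LocCohZBase.Connecting
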