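import Groth.Agent.LocCohZBase.SectSupp
import Mathlib.CategoryTheory.Abelian.Injective.Ext
import Mathlib.CategoryTheory.Abelian.RightDerived

/-!
# Vanishing of local cohomology sheaves is local vanishing of `Ext` groups
-/

universe u

open CategoryTheory CategoryTheory.Limits Opposite TopologicalSpace

namespace Groth.LocCohZBase

set_option linter.unusedVariables false

variable {X : TopCat.{u}} (U : Opens X)

/-- `ℤ` on `V ∖ U`. -/
noncomputable abbrev zqU (V : Opens X) : CohTop.Ab X := LocCohZ.zq (inf_le_left : V ⊓ U ≤ V)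

/-- The projection from `ℤ_V`. -/
noncomputable abbrev zqπ (V : Opens X) :
    CohCx.freeSheaf (Opens.grothendieckTopology X) V ⟶ zqU U V :=
  cokernel.π _

/-- The section attached to a morphism out of `zqU`. -/
noncomputable def sectOf {G : CohTop.Ab X} {V : Opens X} (φ : zqU U V ⟶ G) : G.obj.obj (op V) :=
  CohFree.evalGen (Opens.grothendieckTopology X) V G (zqπ U V ≫ φ)

theorem sectOf_injective {G : CohTop.Ab X} {V : Opens X} :
    Function.Injective (sectOf U : (zqU U V ⟶ G) → _) := fun φ ψ h =>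
  (cancel_epi (zqπ U V)).1 ((CohFree.homEquivSect (Opens.grothendieckTopology X) V G).injective h)

theorem exists_sectOf {G : CohTop.Ab X} {V : Opens X}
    (x : ((LocCohZ.sectSuppF U).obj G).obj.obj (op V)) :
    ∃ φ : zqU U V ⟶ G, sectOf U φ = (suppι U G).hom.app (op V) x := by
  let e : zqU U V ⟶ G := Abelian.Ext.addEquiv₀ ((LocCohZ.sect0Equiv G (inf_le_left : V ⊓ U ≤ V)).symm
    ⟨(suppι U G).hom.app (op V) x, suppι_res U G V x⟩)
  exact ⟨e, congrArg Subtype.val ((LocCohZ.sect0Equiv G (inf_le_left : V ⊓ U ≤ V)).apply_symm_apply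
    ⟨(suppι U G).hom.app (op V) x, suppι_res U G V x⟩)⟩

theorem exists_supp_sectOf {G : CohTop.Ab X} {V : Opens X} (φ : zqU U V ⟶ G) :
    ∃ x, (suppι U G).hom.app (op V) x = sectOf U φ := by
  refine exists_suppι U G V _ ?_
  rw [sectOf, ← CohFree.evalGen_freeSheafMap_comp, cokernel.condition_assoc, zero_comp, map_zero]

theorem sectOf_comp {G H : CohTop.Ab X} {V : Opens X} (φ : zqU U V ⟶ G) (ψ : G ⟶ H) :
    sectOf U (φ ≫ ψ) = ψ.hom.app (op V) (sectOf U φ) := rfl

theorem sectOf_zero (G : CohTop.Ab X) (V : Opens X) : sectOf U (0 : zqU U V ⟶ G) = 0 := by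
  rw [sectOf, comp_zero, map_zero]

/-- The map `ℤ_{W∖U} ⟶ ℤ_{V∖U}` for `W ≤ V`. -/
noncomputable abbrev zqRes {V W : Opens X} (f : W ⟶ V) : zqU U W ⟶ zqU U V :=
  LocCohZ.zqMap (inf_le_left : V ⊓ U ≤ V) (inf_le_left : W ⊓ U ≤ W)
    (inf_le_inf_right U (leOfHom f)) (leOfHom f)

theorem sectOf_res {G : CohTop.Ab X} {V W : Opens X} (φ : zqU U V ⟶ G) (f : W ⟶ V) :
    sectOf U (zqRes U f ≫ φ) = G.obj.map f.op (sectOf U φ) := by
  rw [sectOf, sectOf, ← CohFree.evalGen_freeSheafMap_comp]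
  congr 1
  have e : zqπ U W ≫ zqRes U f =
      CohCx.freeSheafMap (Opens.grothendieckTopology X) (homOfLE (leOfHom f)) ≫ zqπ U V :=
    cokernel.π_desc _ _ _
  rw [← Category.assoc, e, Category.assoc, Subsingleton.elim f (homOfLE (leOfHom f))]

/-- Local boundaries. -/
def IsLocBdry (K : CochainComplex (CohTop.Ab X) ℕ) (p q : ℕ) : Prop :=
  ∀ (V : Opens X) (φ : zqU U V ⟶ K.X q), φ ≫ K.d q (q + 1) = 0 →
    ∃ S ∈ Opens.grothendieckTopology X V, ∀ ⦃W : Opens X⦄ (f : W ⟶ V), S f →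
      ∃ g : zqU U W ⟶ K.X p, g ≫ K.d p q = zqRes U f ≫ φ

theorem exactAt_iff (K : CochainComplex (CohTop.Ab X) ℕ) (q p : ℕ)
    (hp : (ComplexShape.up ℕ).prev q = p) :
    (((LocCohZ.sectSuppF U).mapHomologicalComplex _).obj K).ExactAt q ↔ IsLocBdry U K p q := by
  rw [HomologicalComplex.exactAt_iff' _ p q (q + 1) hp (CochainComplex.next ℕ q),
    exact_iff_imageSieve_mem]
  constructor
  · intro h V φ hφ
    obtain ⟨x, hx⟩ := exists_supp_sectOf U φ
    have hgx : ((LocCohZ.sectSuppF U).map (K.d q (q + 1))).hom.app (op V) x = 0 := by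
      apply suppι_injective U
      rw [suppι_naturality_apply, hx, ← sectOf_comp, hφ, sectOf_zero, map_zero]
    refine ⟨_, h V x hgx, ?_⟩
    rintro W f ⟨t, ht⟩
    obtain ⟨g, hg⟩ := exists_sectOf U t
    refine ⟨g, sectOf_injective U ?_⟩
    rw [sectOf_comp, hg, sectOf_res, ← hx]
    refine (suppι_naturality_apply U (K.d p q) W t).symm.trans ((congrArg _ ht).trans ?_)
    exact congrArg (fun m : ((LocCohZ.sectSuppF U).obj (K.X q)).obj.obj (op V) ⟶
      (K.X q).obj.obj (op W) => m x) ((suppι U (K.X q)).hom.naturality f.op)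
  · intro h V x hx
    obtain ⟨φ, hφ⟩ := exists_sectOf U x
    have hz : φ ≫ K.d q (q + 1) = 0 := by
      apply sectOf_injective U
      rw [sectOf_comp, hφ, sectOf_zero]
      exact (suppι_naturality_apply U (K.d q (q + 1)) V x).symm.trans
        ((congrArg _ hx).trans (map_zero _))
    obtain ⟨S, hS, hg⟩ := h V φ hz
    refine (Opens.grothendieckTopology X).superset_covering (fun W f hf => ?_) hS
    obtain ⟨g, hg⟩ := hg f hf
    obtain ⟨t, ht⟩ := exists_supp_sectOf U g
    refine ⟨t, suppι_injective U _ W ?_⟩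
    refine (suppι_naturality_apply U (K.d p q) W t).trans ?_
    rw [ht, ← sectOf_comp, hg, sectOf_res, hφ]
    exact (congrArg (fun m : ((LocCohZ.sectSuppF U).obj (K.X q)).obj.obj (op V) ⟶
      (K.X q).obj.obj (op W) => m x) ((suppι U (K.X q)).hom.naturality f.op)).symm

variable (F : CohTop.Ab X)

/-- Classes of degree `q` with supports are killed by coverings. -/
def LocVanish (q : ℕ) : Prop :=
  ∀ (V : Opens X) (x : LocCohZ.HZ F q (inf_le_left : V ⊓ U ≤ V)),
    ∃ S ∈ Opens.grothendieckTopology X V, ∀ ⦃W : Opens X⦄ (f : W ⟶ V), S f →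
      LocCohZ.resZ F q (inf_le_left : V ⊓ U ≤ V) (inf_le_left : W ⊓ U ≤ W)
        (inf_le_inf_right U (leOfHom f)) (leOfHom f) x = 0

theorem isZero_iff_isLocBdry (R : InjectiveResolution F) (q p : ℕ)
    (hp : (ComplexShape.up ℕ).prev q = p) :
    IsZero ((LocCohZ.HZsh U q).obj F) ↔ IsLocBdry U R.cocomplex p q := by
  rw [← exactAt_iff U R.cocomplex q p hp, HomologicalComplex.exactAt_iff_isZero_homology]
  exact Iso.isZero_iff (R.isoRightDerivedObj (LocCohZ.sectSuppF U) q)

/-- Degree zero. -/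
theorem isZero_zero_iff : IsZero ((LocCohZ.HZsh U 0).obj F) ↔
    ∀ V : Opens X, Subsingleton (LocCohZ.HZ F 0 (inf_le_left : V ⊓ U ≤ V)) := by
  let R := injectiveResolution F
  rw [isZero_iff_isLocBdry U F R 0 0 (CochainComplex.prev_nat_zero)]
  constructor
  · intro h V
    refine subsingleton_of_forall_eq 0 fun x => ?_
    obtain ⟨φ, hφ, rfl⟩ := R.extMk_surjective x 1 rfl
    obtain ⟨S, hS, hg⟩ := h V φ hφ
    suffices φ = 0 by subst this; exact R.extMk_zero 1 rfl
    apply sectOf_injective U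
    rw [sectOf_zero]
    refine (((Presheaf.isSheaf_iff_isSheaf_forget _ _ (forget AddCommGrpCat.{u})).1
      (R.cocomplex.X 0).property |> (isSheaf_iff_isSheaf_of_type _ _).1) S hS).isSeparatedFor.ext
        fun W f hf => ?_
    obtain ⟨g, hg'⟩ := hg f hf
    rw [HomologicalComplex.shape _ _ _ (by simp), comp_zero] at hg'
    change (R.cocomplex.X 0).obj.map f.op (sectOf U φ) = (R.cocomplex.X 0).obj.map f.op 0
    rw [← sectOf_res, ← hg', sectOf_zero, map_zero]
  · intro h V φ hφ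
    refine ⟨⊤, GrothendieckTopology.top_mem _ _, fun W f _ => ⟨0, ?_⟩⟩
    have hinj : φ = 0 := by
      obtain ⟨l, hl⟩ := KernelFork.IsLimit.lift' R.isLimitKernelFork φ hφ
      have h0 : l = 0 := (Abelian.Ext.mk₀_bijective _ _).1 (@Subsingleton.elim _ (h V) _ _)
      rw [← hl, h0]
      exact zero_comp
    rw [hinj, zero_comp, comp_zero]

/-- Positive degrees. -/
theorem isZero_succ_iff (q : ℕ) :
    IsZero ((LocCohZ.HZsh U (q + 1)).obj F) ↔ LocVanish U F (q + 1) := by
  let R := injectiveResolution F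
  rw [isZero_iff_isLocBdry U F R (q + 1) q (CochainComplex.prev_nat_succ q)]
  constructor
  · intro h V x
    obtain ⟨φ, hφ, rfl⟩ := R.extMk_surjective x (q + 2) rfl
    obtain ⟨S, hS, hg⟩ := h V φ hφ
    refine ⟨S, hS, fun W f hf => ?_⟩
    change (Abelian.Ext.mk₀ (zqRes U f)).comp (R.extMk φ (q + 2) rfl hφ) (zero_add (q + 1)) = 0
    rw [R.mk₀_comp_extMk, R.extMk_eq_zero_iff _ _ _ _ q rfl]
    exact hg f hf
  · intro h V φ hφ
    obtain ⟨S, hS, hx⟩ := h V (R.extMk φ (q + 2) rfl hφ)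
    refine ⟨S, hS, fun W f hf => ?_⟩
    have h1 := hx f hf
    change (Abelian.Ext.mk₀ (zqRes U f)).comp (R.extMk φ (q + 2) rfl hφ) (zero_add (q + 1)) = 0 at h1
    rwa [R.mk₀_comp_extMk, R.extMk_eq_zero_iff _ _ _ _ q rfl] at h1

end Groth.LocCohZBase
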