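import Groth.Agent.LocCohZBase.GammaZQCoh
import Groth.Agent.AdicLinTop.RpushVanish
import Groth.Agent.Misc4.QCohCd
import Groth.Agent.PicAux.Sections
import Groth.Agent.CohBase.MayerVietoris

/-!
# `ℋ^i_Z` vanishes above the number of equations of `Z`
-/

universe u

open CategoryTheory CategoryTheory.Limits AlgebraicGeometry TopologicalSpace Opposite

attribute [local instance] HasDerivedCategory.standard

set_option linter.style.haveILetI false
set_option backward.isDefEq.respectTransparency false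
set_option backward.defeqAttrib.useBackward true
set_option synthInstance.maxHeartbeats 400000
set_option maxHeartbeats 1000000

namespace Groth.LocCohZBase

variable {X : Scheme.{u}}

/-- unions of members of a family of affines closed under intersection -/
theorem hVanish_iSup_of_family {P : Set X.Opens} (hP : ∀ V ∈ P, IsAffineOpen V)
    (hinf : ∀ V ∈ P, ∀ W ∈ P, V ⊓ W ∈ P) (M : X.Modules) [M.IsQuasicoherent] :
    ∀ (t : ℕ) (B : Fin t → X.Opens), (∀ i, B i ∈ P) → ∀ n, t ≤ n →
      Groth.CohBase.HVanish (X := X.toTopCat) (Groth.CohBase.abSheaf M) n (⨆ i, B i) := by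
  intro t
  induction t with
  | zero =>
    intro B _ n _
    rw [iSup_of_empty B]
    exact Groth.CohBase.hVanish_bot _ n
  | succ t ih =>
    intro B hB n hn
    obtain ⟨n, rfl⟩ := Nat.exists_eq_succ_of_ne_zero (show n ≠ 0 by omega)
    have h : ⨆ i, B i = (⨆ i : Fin t, B i.castSucc) ⊔ B (Fin.last t) := by
      refine le_antisymm (iSup_le fun i => ?_) (sup_le (iSup_le fun i => le_iSup B _) (le_iSup B _))
      cases i using Fin.lastCases with
      | last => exact le_sup_right
      | cast i => exact le_sup_of_le_left (le_iSup (fun i : Fin t => B i.castSucc) i)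
    rw [h]
    refine Groth.CohBase.hVanish_sup (X := X.toTopCat) ?_ (ih _ (fun i => hB _) _ (by omega))
      (Groth.CohBase.hVanish_of_isAffineOpen M (hP _ (hB _)) n)
    rw [iSup_inf_eq]
    exact ih _ (fun i => hinf _ (hB _) _ (hB _)) n (by omega)

variable (U : X.Opens) (c : ℕ)

/-- `U` is locally the union of `c` principal opens -/
def HasEquations : Prop :=
  ∀ x : X, ∃ (V : X.Opens) (fs : Finset Γ(X, V)), x ∈ V ∧ fs.card ≤ c ∧
    X.zeroLocus (U := V) (↑fs : Set Γ(X, V)) ∩ (V : Set ↥X) = (U : Set ↥X)ᶜ ∩ (V : Set ↥X)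

variable {U c}

theorem mem_iff_of_hasEquations {V : X.Opens} {fs : Finset Γ(X, V)}
    (h : X.zeroLocus (U := V) (↑fs : Set Γ(X, V)) ∩ (V : Set ↥X) = (U : Set ↥X)ᶜ ∩ (V : Set ↥X))
    {x : X} (hx : x ∈ V) : x ∈ U ↔ ∃ f ∈ fs, x ∈ X.basicOpen f := by
  have h' := Set.ext_iff.1 h x
  simp only [Set.mem_inter_iff, Scheme.mem_zeroLocus_iff, Set.mem_compl_iff, SetLike.mem_coe, hx, and_true] at h'
  constructor
  · intro hU
    by_contra hne
    push Not at hne
    exact h'.1 hne hU
  · rintro ⟨f, hf, hxf⟩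
    by_contra hU
    exact h'.2 hU f hf hxf

theorem isZero_pushRestr_of_bot (hU : U = ⊥) (M : X.Modules) : IsZero ((pushRestr U.ι).obj M) := by
  rw [IsZero.iff_id_eq_zero]
  ext V s
  refine Groth.PicAux.res_ext (M := M) (ι := PEmpty.{u + 1}) (U := U.ι ''ᵁ (U.ι ⁻¹ᵁ V))
    (fun i => i.elim) (fun i => i.elim) ?_ (fun i => i.elim)
  rintro x ⟨⟨y, hy⟩, -, rfl⟩
  rw [hU] at hy
  exact absurd hy id

variable [HasInjectiveResolutions X.Modules]

/-- Higher direct images from the complement of `c` equations vanish from degree `c` on. -/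
theorem isZero_rightDerived_pushRestr (hU : HasEquations U c) (M : X.Modules) [M.IsQuasicoherent]
    (n : ℕ) (hn : c ≤ n + 1) : IsZero (((pushRestr U.ι).rightDerived (n + 1)).obj M) := by
  haveI := preservesHomology_restrictFunctor U.ι
  haveI : PreservesFiniteLimits (Scheme.Modules.restrictFunctor U.ι) :=
    Functor.preservesFiniteLimits_of_preservesHomology _
  haveI : (M.restrict U.ι).IsQuasicoherent := Scheme.Modules.isQuasicoherent_restrictFunctor U.ι M
  have hR : ∀ n, IsZero (((Scheme.Modules.restrictFunctor U.ι).rightDerived (n + 1)).obj M) := fun n =>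
    IsZero.of_iso
      ((HomologicalComplex.exactAt_iff
        (((Scheme.Modules.restrictFunctor U.ι).mapHomologicalComplex _).obj (injectiveResolution M).cocomplex)
        (n + 1)).2
        (((injectiveResolution M).cocomplex_exactAt_succ n).map (Scheme.Modules.restrictFunctor U.ι))).isZero_homology
      ((injectiveResolution M).isoRightDerivedObj _ (n + 1))
  refine IsZero.of_iso ?_ (Groth.CohBase.rightDerivedCompIso (F := Scheme.Modules.restrictFunctor U.ι)
    (Scheme.Modules.pushforward U.ι) (pushRestr U.ι) (Iso.refl _)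
    (fun I _ => Groth.CohTwo.injective_restrict U.ι I) hR (n + 1)).symm
  haveI : Functor.Additive (C := ModSite.Mod (U : Scheme.{u}).sheaf) (D := ModSite.Mod X.sheaf)
      (Scheme.Modules.pushforward U.ι) :=
    inferInstanceAs (ModSite.RMor.ofScheme U.ι).push.Additive
  refine Groth.AdicLinTop.RpushVanish.isZero_rightDerived_push U.ι.base (O' := (U : Scheme.{u}).sheaf)
    (O := X.sheaf) (Scheme.Modules.pushforward U.ι) (Iso.refl _) (M.restrict U.ι) n fun W y hy => ?_
  obtain ⟨V, fs, hyV, hcard, hfs⟩ := hU y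
  obtain ⟨V', hV', hyV', hle⟩ := exists_isAffineOpen_mem_and_subset (x := y) (U := W ⊓ V) ⟨hy, hyV⟩
  have hV'V : V' ≤ V := fun z hz => (hle hz).2
  refine ⟨V', fun z hz => (hle hz).1, hyV', (Groth.Misc4.QCohCd.hVanish_iff_HU (M.restrict U.ι) (n + 1) (U.ι ⁻¹ᵁ V')).2 ?_⟩
  let P : Set (U : Scheme.{u}).Opens :=
    {Z | ∃ g : Γ(X, V'), X.basicOpen g ≤ U ∧ Z = U.ι ⁻¹ᵁ X.basicOpen g}
  have hP : ∀ Z ∈ P, IsAffineOpen Z := by
    rintro _ ⟨g, hg, rfl⟩
    exact (hV'.basicOpen g).preimage_of_isOpenImmersion U.ι (by rwa [Scheme.Opens.opensRange_ι])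
  have hinf : ∀ Z ∈ P, ∀ Z' ∈ P, Z ⊓ Z' ∈ P := by
    rintro _ ⟨g, hg, rfl⟩ _ ⟨g', hg', rfl⟩
    exact ⟨g * g', by rw [Scheme.basicOpen_mul]; exact inf_le_left.trans hg,
      by rw [Scheme.basicOpen_mul]; rfl⟩
  let e := fs.equivFin.symm
  let r : Fin fs.card → Γ(X, V') := fun k => X.presheaf.map (homOfLE hV'V).op (e k).1
  have hr : ∀ k, X.basicOpen (r k) = V' ⊓ X.basicOpen (e k).1 := fun k =>
    X.basicOpen_res (e k).1 (homOfLE hV'V).op
  have hB : ∀ k, U.ι ⁻¹ᵁ X.basicOpen (r k) ∈ P := fun k => ⟨r k, fun z hz => by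
    rw [hr] at hz
    exact (mem_iff_of_hasEquations hfs (hV'V hz.1)).2 ⟨_, (e k).2, hz.2⟩, rfl⟩
  have h := hVanish_iSup_of_family hP hinf (M.restrict U.ι) fs.card _ hB (n + 1) (by omega)
  have heq : (⨆ k, U.ι ⁻¹ᵁ X.basicOpen (r k)) = U.ι ⁻¹ᵁ V' := by
    refine le_antisymm (iSup_le fun k => U.ι.preimage_mono (X.basicOpen_le _)) fun z hz => ?_
    obtain ⟨f, hf, hzf⟩ := (mem_iff_of_hasEquations hfs (hV'V hz)).1 z.2
    refine Opens.mem_iSup.2 ⟨e.symm ⟨f, hf⟩, ?_⟩
    show U.ι.base z ∈ X.basicOpen (r (e.symm ⟨f, hf⟩))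
    rw [hr, Equiv.apply_symm_apply]
    exact ⟨hz, hzf⟩
  rwa [heq] at h

/-- `ℋ^i_Z(M) = 0` above the number of equations. -/
theorem isZero_rightDerived_gammaZ (hU : HasEquations U c) (M : X.Modules) [M.IsQuasicoherent]
    (i : ℕ) (hi : c < i) : IsZero (((DCoh.gammaZ U.ι).rightDerived i).obj M) := by
  let R := injectiveResolution M
  let S := suppSeq U.ι R.cocomplex
  have hS : S.ShortExact := suppSeq_shortExact U.ι R.cocomplex fun i => R.injective i
  obtain ⟨n, rfl⟩ := Nat.exists_eq_succ_of_ne_zero (show i ≠ 0 by omega)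
  refine IsZero.of_iso ?_ (R.isoRightDerivedObj (DCoh.gammaZ U.ι) (n + 1))
  show IsZero (S.X₁.homology (n + 1))
  have h₂ : IsZero (S.X₂.homology (n + 1)) := (R.cocomplex_exactAt_succ n).isZero_homology
  have h₃ : IsZero (S.X₃.homology n) := by
    rcases n with _ | k
    swap
    · exact IsZero.of_iso (isZero_rightDerived_pushRestr hU M k (by omega))
        (R.isoRightDerivedObj (pushRestr U.ι) (k + 1)).symm
    ·
      have hbot : U = ⊥ := by
        refine le_bot_iff.1 fun x hx => ?_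
        obtain ⟨V, fs, hxV, hcard, hfs⟩ := hU x
        obtain ⟨f, hf, -⟩ := (mem_iff_of_hasEquations hfs hxV).1 hx
        have := Finset.card_pos.2 ⟨f, hf⟩
        omega
      exact ShortComplex.isZero_homology_of_isZero_X₂ _ (isZero_pushRestr_of_bot hbot (R.cocomplex.X 0))
  exact (hS.homology_exact₁ n (n + 1) rfl).isZero_of_both_zeros (h₃.eq_of_src _ _) (h₂.eq_of_tgt _ _)

end Groth.LocCohZBase
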