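import Groth.Agent.LocCohZBase.GammaHom
import Groth.Agent.SiteCohomology.TotallyAcyclic
import Mathlib.CategoryTheory.Sites.Subsheaf
import Mathlib.CategoryTheory.Monoidal.Preadditive

/-!
# Cohomology with supports on a ringed site through modules
-/

universe u

open CategoryTheory CategoryTheory.Limits Opposite MonoidalCategory
open Groth.SitesTopoi.ModH
open CategoryTheory.Abelian (Ext)

namespace Groth.LocCohZBase

variable {C : Type u} [SmallCategory C] {J : GrothendieckTopology C}

/-- The map to the terminal sheaf. -/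
noncomputable def toOne (P : Sheaf J (Type u)) : P ⟶ oneSh (J := J) :=
  ⟨{ app := fun _ => TypeCat.ofHom fun _ => PUnit.unit }⟩

/-- `oneSh` is terminal. -/
noncomputable def oneShIsTerminal : IsTerminal (oneSh (J := J)) :=
  IsTerminal.ofUniqueHom toOne fun P m => by ext V x; rfl

variable (J) (U : C)

/-- The image of `h_U` in the terminal sheaf. -/
noncomputable abbrev imU : Sheaf J (Type u) := Sheaf.image (toOne (ToposFin.eps J U))

/-- The inclusion of the image. -/
noncomputable abbrev imUι : imU J U ⟶ oneSh (J := J) := Sheaf.imageι (toOne (ToposFin.eps J U))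

theorem epi_freeAb_map {P Q : Sheaf J (Type u)} (f : P ⟶ Q) [Epi f] : Epi ((ToposFin.freeAb J).map f) := by
  have := (Groth.SiteCohomology.freeTAdj J).isLeftAdjoint
  exact inferInstanceAs (Epi ((Groth.SiteCohomology.freeT J).map f))

/-- `ℤ_Z` from the image. -/
noncomputable def quotZIso :
    ToposFin.quotZ (ToposFin.eps J U) ≅ cokernel ((ToposFin.freeAb J).map (imUι J U)) :=
  haveI := epi_freeAb_map J (Sheaf.toImage (toOne (ToposFin.eps J U)))
  cokernel.mapIso ((ToposFin.freeAb J).map (terminal.from (ToposFin.eps J U)))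
      ((ToposFin.freeAb J).map (toOne (ToposFin.eps J U))) (Iso.refl _)
      ((ToposFin.freeAb J).mapIso (terminalIsTerminal.uniqueUpToIso (oneShIsTerminal (J := J)))) (by
        refine Eq.trans ?_ (Category.id_comp _).symm
        refine ((ToposFin.freeAb J).map_comp _ _).symm.trans (congrArg _ ?_)
        exact (oneShIsTerminal (J := J)).hom_ext _ _) ≪≫
    cokernelIsoOfEq (((congrArg (ToposFin.freeAb J).map
      (Sheaf.toImage_ι (toOne (ToposFin.eps J U))).symm)).trans ((ToposFin.freeAb J).map_comp _ _)) ≪≫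
    cokernelEpiComp ((ToposFin.freeAb J).map (Sheaf.toImage (toOne (ToposFin.eps J U))))
      ((ToposFin.freeAb J).map (imUι J U))

instance mono_freeAb_imUι : Mono ((ToposFin.freeAb J).map (imUι J U)) :=
  have : Mono (imUι J U).hom := inferInstanceAs (Mono ((sheafToPresheaf J (Type u)).map (imUι J U)))
  Groth.SiteCohomology.mono_freeSh_map J (imUι J U).hom

variable {J}

/-- Totally acyclic sheaves whose sections extend have no cohomology with supports. -/
theorem subsingleton_ext_quotZ (F : Sheaf J AddCommGrpCat.{u}) (hF : CohCx.IsTotallyAcyclic F)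
    (hs : ∀ a : (ToposFin.freeAb J).obj (imU J U) ⟶ F, ∃ b, (ToposFin.freeAb J).map (imUι J U) ≫ b = a)
    (q : ℕ) : Subsingleton (Ext (ToposFin.quotZ (ToposFin.eps J U)) F (q + 1)) := by
  have hS : (ShortComplex.mk ((ToposFin.freeAb J).map (imUι J U)) (cokernel.π _) (cokernel.condition _)).ShortExact :=
    ShortComplex.ShortExact.mk' (ShortComplex.exact_of_g_is_cokernel _ (cokernelIsCokernel _))
      inferInstance inferInstance
  suffices h : Subsingleton (Ext (cokernel ((ToposFin.freeAb J).map (imUι J U))) F (q + 1)) from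
    (Groth.SiteCohomology.extIsoLeft (quotZIso J U) F (q + 1)).symm.toEquiv.subsingleton
  refine subsingleton_of_forall_eq 0 fun x => ?_
  obtain ⟨y, rfl⟩ := Ext.contravariant_sequence_exact₃ hS F x
    (@Subsingleton.elim _ (hF (oneSh (J := J)) q) _ _) (n₀ := q) (add_comm 1 q)
  cases q with
  | zero =>
    obtain ⟨a, rfl⟩ := (Ext.mk₀_bijective _ _).2 y
    obtain ⟨b, rfl⟩ := hs a
    rw [← Ext.mk₀_comp_mk₀, ← Ext.comp_assoc_of_second_deg_zero, hS.extClass_comp, Ext.zero_comp]
  | succ q => rw [@Subsingleton.elim _ (hF (imU J U) q) y 0, Ext.comp_zero]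

/-- Injectivity extends along monomorphisms, transported by a representing isomorphism. -/
theorem exists_extend {S A : Type*} [Category S] [Category.{u} A] [Preadditive A] (L : S ⥤ A) (I : A)
    [Injective I] (G : Sᵒᵖ ⥤ AddCommGrpCat.{u}) (τ : L.op ⋙ preadditiveYoneda.obj I ≅ G) {P Q : S} (g : P ⟶ Q)
    (hg : Mono (L.map g)) (a : G.obj (op P)) : ∃ b, G.map g.op b = a := by
  obtain ⟨a', rfl⟩ := (ConcreteCategory.bijective_of_isIso (τ.app (op P)).hom).2 a
  let x : L.obj P ⟶ I := a'
  let b' : L.obj Q ⟶ I := Injective.factorThru x (L.map g)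
  refine ⟨(τ.app (op Q)).hom b', ?_⟩
  refine (ConcreteCategory.congr_hom (τ.hom.naturality g.op) b').symm.trans ?_
  exact congrArg (τ.app (op P)).hom (Injective.comp_factorThru x (L.map g))

variable {U} {O : Sheaf J CommRingCat.{u}}

section Mono

variable {P Q : Sheaf J (Type u)} (g : P ⟶ Q)

theorem mono_app [Mono g] (c : Cᵒᵖ) : Function.Injective (g.hom.app c) := by
  have : Mono g.hom := inferInstanceAs (Mono ((sheafToPresheaf J (Type u)).map g))
  exact (mono_iff_injective _).1 inferInstance

theorem injective_free_whisker [Mono g] (M : PM O) (V : C) (hQ : Subsingleton (Q.obj.obj (op V))) :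
    Function.Injective (apm
      (MonoidalCategory.whiskerRight (C := PM O)
        ((PresheafOfModules.free (O.obj ⋙ forget₂ CommRingCat.{u} RingCat.{u})).map g.hom) M) V) := by
  let R := O.obj.obj (op V)
  let φ : (ModuleCat.free.{u} R).obj (P.obj.obj (op V)) ⟶ (ModuleCat.free.{u} R).obj (Q.obj.obj (op V)) :=
    (ModuleCat.free.{u} R).map (g.hom.app (op V))
  let MV : ModuleCat.{u} R := M.obj (op V)
  suffices h : Mono (φ ▷ MV) from (ModuleCat.mono_iff_injective (φ ▷ MV)).1 h
  by_cases hne : Nonempty (P.obj.obj (op V))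
  · have : IsIso (g.hom.app (op V)) := (isIso_iff_bijective _).2
      ⟨mono_app g (op V), fun y => ⟨hne.some, Subsingleton.elim _ _⟩⟩
    have : IsIso φ := inferInstanceAs (IsIso ((ModuleCat.free.{u} R).map (g.hom.app (op V))))
    infer_instance
  · have : Subsingleton ((ModuleCat.free.{u} R).obj (P.obj.obj (op V))) :=
      ⟨fun a b => Finsupp.ext (α := P.obj.obj (op V)) fun i => absurd ⟨i⟩ hne⟩
    have hz : IsZero ((ModuleCat.free.{u} R).obj (P.obj.obj (op V))) := ModuleCat.isZero_of_subsingleton _
    exact (((tensorRight MV).map_isZero hz)).mono _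

theorem mono_freeModT_map [Mono g] :
    Mono ((Groth.Misc7.SitePush.freeModT (ModSite.ringSh O)).map g) := by
  refine mono_aP_map_of_locInj (O := O)
    (f := (PresheafOfModules.free (O.obj ⋙ forget₂ CommRingCat.{u} RingCat.{u})).map g.hom)
    fun V m hm => ⟨⊤, J.top_mem V, fun W k _ => ?_⟩
  have : Mono ((ModuleCat.free.{u} (O.obj.obj (op V))).map (g.hom.app (op V))) :=
    (ModuleCat.mono_iff_injective _).2 (Finsupp.mapDomain_injective (mono_app g (op V)))
  have h0 : m = 0 := (ModuleCat.mono_iff_injective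
    ((ModuleCat.free.{u} (O.obj.obj (op V))).map (g.hom.app (op V)))).1 this (hm.trans (map_zero _).symm)
  rw [h0, map_zero]

theorem mono_freeTensor_map [Mono g] (hQ : ∀ c, Subsingleton (Q.obj.obj c)) (M : ModSite.Mod O) :
    Mono ((Groth.Misc4.InternalHomAcyclic.freeTensor M).map g) := by
  let f := (PresheafOfModules.free (O.obj ⋙ forget₂ CommRingCat.{u} RingCat.{u})).map g.hom
  have h1 : Mono ((tensorRight (C := PM O) M.val ⋙ aP O).map f) :=
    mono_aP_map_of_locInj fun V m hm => ⟨⊤, J.top_mem V, fun W k _ => by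
      rw [injective_free_whisker g M.val V (hQ _) (hm.trans (map_zero _).symm), map_zero]⟩
  have e := (aPTensorFlipIso M).hom.naturality f
  have h2 : Mono ((aP O ⋙ (ModSite.tensorBi O).flip.obj M).map f ≫ (aPTensorFlipIso M).hom.app
      ((PresheafOfModules.free (O.obj ⋙ forget₂ CommRingCat.{u} RingCat.{u})).obj Q.obj)) := by
    rw [e]
    exact @mono_comp _ _ _ _ _ _ inferInstance _ h1
  exact mono_of_mono ((aP O ⋙ (ModSite.tensorBi O).flip.obj M).map f) ((aPTensorFlipIso M).hom.app
      ((PresheafOfModules.free (O.obj ⋙ forget₂ CommRingCat.{u} RingCat.{u})).obj Q.obj))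

end Mono

instance subsingleton_oneSh (c : Cᵒᵖ) : Subsingleton ((oneSh (J := J)).obj.obj c) :=
  inferInstanceAs (Subsingleton PUnit)

theorem subsingleton_ext_quotZ_injective (I : ModSite.Mod O) [Injective I] (q : ℕ) :
    Subsingleton (Ext (ToposFin.quotZ (ToposFin.eps J U)) (ModSite.toAb I) (q + 1)) :=
  subsingleton_ext_quotZ U _ (Groth.Misc7.SitePush.isTotallyAcyclic_toSheaf _ I) (fun a =>
    exists_extend (Groth.Misc7.SitePush.freeModT (ModSite.ringSh O)) I _
      (asIso (Groth.SiteCohomology.transferHom (Groth.Misc7.SitePush.freeModTAdj (ModSite.ringSh O))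
        (Groth.SiteCohomology.freeTAdj J) (SheafOfModules.toSheaf (ModSite.ringSh O)) (Iso.refl _) I))
      (imUι J U) (mono_freeModT_map _) a) q

theorem subsingleton_ext_quotZ_sheafHom (M I : ModSite.Mod O) [ModSite.HasSheafHom M] [Injective I] (q : ℕ) :
    Subsingleton (Ext (ToposFin.quotZ (ToposFin.eps J U))
      (ModSite.toAb ((ModSite.sheafHom M).obj I)) (q + 1)) :=
  subsingleton_ext_quotZ U _ (Groth.Misc4.InternalHomAcyclic.isTotallyAcyclic_sheafHom M I) (fun a =>
    exists_extend (Groth.Misc4.InternalHomAcyclic.freeTensor M) I _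
      (Groth.Misc4.InternalHomAcyclic.hk0Iso M I)
      (imUι J U) (mono_freeTensor_map _ (fun _ => inferInstance) M) a) q

end Groth.LocCohZBase
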