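import Groth.Agent.LocCohZBase.HZSite
import Groth.Agent.SiteCohomology.AcyclicResolution
import Mathlib.CategoryTheory.Preadditive.Yoneda.Limits

/-!
# `H^q_Z` as derived functors on modules
-/

universe u

open CategoryTheory CategoryTheory.Limits Opposite
open Groth.SitesTopoi.ModH
open CategoryTheory.Abelian (Ext)

namespace Groth.LocCohZBase

variable {C : Type u} [SmallCategory C] {J : GrothendieckTopology C} (O : Sheaf J CommRingCat.{u}) (U : C)

/-- Sheaves of sets underlying modules. -/
noncomputable abbrev setsSh : ModSite.Mod O ⥤ Sheaf J (Type u) :=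
  SheafOfModules.toSheaf.{u} (ModSite.ringSh O) ⋙ sheafCompose J (forget AddCommGrpCat.{u})

/-- The adjunction for free modules on sheaves of sets. -/
noncomputable abbrev fmAdj : Groth.Misc7.SitePush.freeModT (ModSite.ringSh O) ⊣ setsSh O :=
  Groth.Misc7.SitePush.freeModTAdj (ModSite.ringSh O)

/-- A global point as a section. -/
noncomputable def pointSec {N : ModSite.Mod O} (t : oneSh (J := J) ⟶ (setsSh O).obj N) : N.sections :=
  PresheafOfModules.sectionsMk (fun V => t.hom.app V PUnit.unit)
    (fun V W f => (congrArg (fun k => k PUnit.unit) (t.hom.naturality f)).symm)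

/-- A section as a global point. -/
noncomputable def secPoint {N : ModSite.Mod O} (s : N.sections) : oneSh (J := J) ⟶ (setsSh O).obj N :=
  ⟨{ app := fun V => TypeCat.ofHom fun _ => s.val V
     naturality := fun V W f => by ext x; exact (s.2 f).symm }⟩

/-- Sections and morphisms out of the unit. -/
noncomputable def unitPointEquiv (N : ModSite.Mod O) :
    (ModSite.unit O ⟶ N) ≃ (oneSh (J := J) ⟶ (setsSh O).obj N) :=
  N.unitHomEquiv.trans
    { toFun := secPoint O
      invFun := pointSec O
      left_inv := fun s => rfl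
      right_inv := fun t => by ext V x; rfl }

theorem unitPointEquiv_app (N : ModSite.Mod O) (φ : ModSite.unit O ⟶ N) (V : C) :
    (unitPointEquiv O N φ).hom.app (op V) PUnit.unit = apm φ.val V (1 : rsec O V) := rfl

theorem unitPointEquiv_comp {N N' : ModSite.Mod O} (φ : ModSite.unit O ⟶ N) (p : N ⟶ N') :
    unitPointEquiv O N' (φ ≫ p) = unitPointEquiv O N φ ≫ (setsSh O).map p := by
  ext V x; rfl

theorem exists_unitIso :
    ∃ i : (Groth.Misc7.SitePush.freeModT (ModSite.ringSh O)).obj (oneSh (J := J)) ≅ ModSite.unit O,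
      ∀ (N : ModSite.Mod O) (φ : ModSite.unit O ⟶ N),
        (fmAdj O).homEquiv _ _ (i.hom ≫ φ) = unitPointEquiv O N φ := by
  let eX := fun N : ModSite.Mod O => (fmAdj O).homEquiv (oneSh (J := J)) N
  have hX : ∀ {N N' : ModSite.Mod O} (p : N ⟶ N') (f : _ ⟶ N), eX N' (f ≫ p) = eX N f ≫ (setsSh O).map p :=
    fun p f => (fmAdj O).homEquiv_naturality_right f p
  refine ⟨⟨(eX _).symm (unitPointEquiv O _ (𝟙 _)), (unitPointEquiv O _).symm (eX _ (𝟙 _)),
    (eX _).injective ?_, (unitPointEquiv O _).injective ?_⟩, fun N φ => ?_⟩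
  · rw [hX, Equiv.apply_symm_apply, ← unitPointEquiv_comp, Category.id_comp, Equiv.apply_symm_apply]
  · rw [unitPointEquiv_comp, Equiv.apply_symm_apply, ← hX, Category.id_comp, Equiv.apply_symm_apply]
  · show eX N (_ ≫ φ) = _
    rw [hX, Equiv.apply_symm_apply, ← unitPointEquiv_comp, Category.id_comp]

theorem restr_unit_eq_zero_iff {N : ModSite.Mod O} (φ : ModSite.unit O ⟶ N) :
    (ModSite.restr O U).map φ = 0 ↔ apm φ.val U (1 : rsec O U) = 0 := by
  constructor
  · intro h
    exact congrArg (fun ψ : (ModSite.restr O U).obj (ModSite.unit O) ⟶ (ModSite.restr O U).obj N =>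
      (ψ.val.app (op (Over.mk (𝟙 U)))).hom (1 : rsec O U)) h
  · intro h
    apply (SheafOfModules.toSheaf _).map_injective
    ext Y m
    let g : Y.unop.left ⟶ U := Y.unop.hom
    show apm φ.val Y.unop.left (m : rsec O Y.unop.left) = (0 : sc N.val Y.unop.left)
    have h1 : rsm (ModSite.unit O).val g (1 : rsec O U) = (1 : rsec O Y.unop.left) := map_one (O.obj.map g.op).hom
    have h2 : apm φ.val Y.unop.left (1 : rsec O Y.unop.left) = 0 := by
      rw [← h1, apm_rsm, h, map_zero]
    have h3 : (m : rsec O Y.unop.left) =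
        ((m : rsec O Y.unop.left) • (show sc (ModSite.unit O).val Y.unop.left from (1 : rsec O Y.unop.left))) :=
      (mul_one (show rsec O Y.unop.left from m)).symm
    exact (congrArg (apm φ.val Y.unop.left) h3).trans
      ((map_smul (apm φ.val Y.unop.left) _ _).trans ((congrArg (_ • ·) h2).trans (smul_zero _)))

/-- The free modules on `h_U → 1`. -/
noncomputable abbrev modT :
    (Groth.Misc7.SitePush.freeModT (ModSite.ringSh O)).obj (ToposFin.eps J U) ⟶
      (Groth.Misc7.SitePush.freeModT (ModSite.ringSh O)).obj (oneSh (J := J)) :=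
  (Groth.Misc7.SitePush.freeModT (ModSite.ringSh O)).map (toOne (ToposFin.eps J U))

theorem modT_comp_eq_zero_iff {i : (Groth.Misc7.SitePush.freeModT (ModSite.ringSh O)).obj (oneSh (J := J)) ≅
      ModSite.unit O}
    (hi : ∀ (N : ModSite.Mod O) (φ : ModSite.unit O ⟶ N),
        (fmAdj O).homEquiv _ _ (i.hom ≫ φ) = unitPointEquiv O N φ)
    {N : ModSite.Mod O} (φ : ModSite.unit O ⟶ N) :
    modT O U ≫ i.hom ≫ φ = 0 ↔ (ModSite.restr O U).map φ = 0 := by
  rw [restr_unit_eq_zero_iff]
  have e : (fmAdj O).homEquiv _ _ (modT O U ≫ i.hom ≫ φ) =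
      toOne (ToposFin.eps J U) ≫ unitPointEquiv O N φ := by
    rw [← hi]
    exact (fmAdj O).homEquiv_naturality_left _ _
  have hz : ∀ x, ((fmAdj O).homEquiv (ToposFin.eps J U) N 0).hom.app (op U) x = (0 : sc N.val U) := fun x => by
    rw [Adjunction.homEquiv_unit]
    rfl
  rw [← ((fmAdj O).homEquiv _ _).injective.eq_iff, e]
  constructor
  · intro h
    have h' := congrArg (fun t : ToposFin.eps J U ⟶ (setsSh O).obj N =>
      t.hom.app (op U) ((toSheafify J (yoneda.obj U)).app (op U) (𝟙 U))) h
    exact (unitPointEquiv_app O N φ U).symm.trans (h'.trans (hz _))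
  · intro h
    apply ObjectProperty.hom_ext
    refine sheafify_hom_ext J _ _ ((setsSh O).obj N).2 (yonedaEquiv.injective ?_)
    exact ((unitPointEquiv_app O N φ U).trans h).trans (hz ((toSheafify J (yoneda.obj U)).app (op U) (𝟙 U))).symm

/-- `O/O_U` as a cokernel of free modules. -/
theorem nonempty_cokernel_iso_quotOn :
    Nonempty (cokernel (modT O U) ≅ (ModSite.quotOn O U).obj (ModSite.unit O)) := by
  obtain ⟨i, hi⟩ := exists_unitIso O
  let c := (ModSite.extZeroAdj O U).counit.app (ModSite.unit O)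
  let π : ModSite.unit O ⟶ (ModSite.quotOn O U).obj (ModSite.unit O) := (ModSite.quotOnπ O U).app _
  have hmem : ∀ {N : ModSite.Mod O} (φ : ModSite.unit O ⟶ N),
      (ModSite.restr O U).map φ = 0 ↔ c ≫ φ = 0 := fun φ => ExtSupp.mem_homZ_iff U φ
  have hπ : modT O U ≫ i.hom ≫ π = 0 := (modT_comp_eq_zero_iff O U hi π).2 ((hmem π).2 (cokernel.condition _))
  have hq : c ≫ i.inv ≫ cokernel.π (modT O U) = 0 := (hmem _).1 ((modT_comp_eq_zero_iff O U hi _).1
    ((congrArg (modT O U ≫ ·) (i.hom_inv_id_assoc _)).trans (cokernel.condition _)))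
  refine ⟨⟨cokernel.desc _ (i.hom ≫ π) hπ, cokernel.desc _ (i.inv ≫ cokernel.π (modT O U)) hq, ?_, ?_⟩⟩
  · apply coequalizer.hom_ext
    refine (cokernel.π_desc_assoc _ _ _ _).trans ((Category.assoc _ _ _).trans ?_)
    refine (congrArg (i.hom ≫ ·) (cokernel.π_desc _ _ _)).trans ?_
    exact (i.hom_inv_id_assoc _).trans (Category.comp_id _).symm
  · apply coequalizer.hom_ext
    refine (cokernel.π_desc_assoc _ _ _ _).trans ((Category.assoc _ _ _).trans ?_)
    refine (congrArg (i.inv ≫ ·) (cokernel.π_desc _ _ _)).trans ?_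
    exact (i.inv_hom_id_assoc _).trans (Category.comp_id _).symm

section Transfer

open Groth.SiteCohomology

variable {S : Type*} [Category S] {A B : Type (u + 1)} [Category.{u} A] [Abelian A]
  [Category.{u} B] [Abelian B] {LA : S ⥤ A} {RA : A ⥤ S} {LB : S ⥤ B} {RB : B ⥤ S}
  (adjA : LA ⊣ RA) (adjB : LB ⊣ RB) (P : A ⥤ B) [P.Additive] (e : RA ≅ P ⋙ RB) {K L : S} (t : K ⟶ L)

theorem bijective_transfer (X : S) (G : A) :
    Function.Bijective (fun φ : LA.obj X ⟶ G => transferUnit adjA adjB P e X ≫ P.map φ) := by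
  have h : (fun φ : LA.obj X ⟶ G => transferUnit adjA adjB P e X ≫ P.map φ) =
      fun φ => (adjB.homEquiv X (P.obj G)).symm (adjA.homEquiv X G φ ≫ e.hom.app G) :=
    funext fun φ => transferUnit_comp adjA adjB P e X φ
  rw [h]
  exact (Equiv.bijective _).comp
    (Function.Bijective.comp (Iso.homToEquiv (e.app G)).bijective (Equiv.bijective _))

/-- Comparison of cokernels of free objects. -/
noncomputable def cokerTransfer : cokernel (LB.map t) ⟶ P.obj (cokernel (LA.map t)) :=
  cokernel.desc _ (transferUnit adjA adjB P e L ≫ P.map (cokernel.π (LA.map t))) (by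
    rw [← Category.assoc, transferUnit_naturality adjA adjB P e t, Category.assoc, ← P.map_comp,
      cokernel.condition, P.map_zero, comp_zero])

theorem bijective_cokerTransfer (G : A) :
    Function.Bijective (fun g : cokernel (LA.map t) ⟶ G => cokerTransfer adjA adjB P e t ≫ P.map g) := by
  have key : ∀ g : cokernel (LA.map t) ⟶ G, cokernel.π (LB.map t) ≫ cokerTransfer adjA adjB P e t ≫ P.map g =
      transferUnit adjA adjB P e L ≫ P.map (cokernel.π (LA.map t) ≫ g) := fun g => by
    rw [cokerTransfer, cokernel.π_desc_assoc, Category.assoc, P.map_comp]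
  refine ⟨fun a b h => ?_, fun f => ?_⟩
  · rw [← cancel_epi (cokernel.π (LA.map t))]
    refine (bijective_transfer adjA adjB P e L G).1 ?_
    show transferUnit adjA adjB P e L ≫ _ = transferUnit adjA adjB P e L ≫ _
    rw [← key, ← key]
    exact congrArg (_ ≫ ·) h
  · obtain ⟨φ, hφ⟩ := (bijective_transfer adjA adjB P e L G).2 (cokernel.π (LB.map t) ≫ f)
    have h0 : LA.map t ≫ φ = 0 := by
      refine (bijective_transfer adjA adjB P e K G).1 ?_
      show transferUnit adjA adjB P e K ≫ _ = transferUnit adjA adjB P e K ≫ _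
      rw [P.map_zero, comp_zero, P.map_comp, ← Category.assoc, ← transferUnit_naturality adjA adjB P e t,
        Category.assoc]
      exact (congrArg (_ ≫ ·) hφ).trans (cokernel.condition_assoc _ _ |>.trans zero_comp)
    refine ⟨cokernel.desc _ φ h0, ?_⟩
    rw [← cancel_epi (cokernel.π (LB.map t)), key, cokernel.π_desc]
    exact hφ

/-- Morphisms out of the transferred cokernel. -/
noncomputable def cokerHomIso : preadditiveCoyoneda.obj (op (cokernel (LA.map t))) ≅
    P ⋙ preadditiveCoyoneda.obj (op (cokernel (LB.map t))) :=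
  NatIso.ofComponents (fun G => (AddEquiv.ofBijective
      (AddMonoidHom.mk' (fun g => cokerTransfer adjA adjB P e t ≫ P.map g)
        fun a b => by rw [P.map_add, Preadditive.comp_add])
      (bijective_cokerTransfer adjA adjB P e t G)).toAddCommGrpIso)
    (fun {G G'} f => by
      ext g
      exact ((congrArg (_ ≫ ·) (P.map_comp g f)).trans (Category.assoc _ _ _).symm))

end Transfer

/-- `Γ_Z` on modules: `Hom(O/O_U, -) = Hom(ℤ_Z, -)`. -/
theorem nonempty_homQuot_iso :
    Nonempty (preadditiveCoyoneda.obj (op ((ModSite.quotOn O U).obj (ModSite.unit O))) ≅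
      SheafOfModules.toSheaf.{u} (ModSite.ringSh O) ⋙
        preadditiveCoyoneda.obj (op (ToposFin.quotZ (ToposFin.eps J U)))) := by
  obtain ⟨i⟩ := nonempty_cokernel_iso_quotOn O U
  let j : ToposFin.quotZ (ToposFin.eps J U) ≅ cokernel ((ToposFin.freeAb J).map (toOne (ToposFin.eps J U))) :=
    cokernel.mapIso ((ToposFin.freeAb J).map (terminal.from (ToposFin.eps J U)))
      ((ToposFin.freeAb J).map (toOne (ToposFin.eps J U))) (Iso.refl _)
      ((ToposFin.freeAb J).mapIso (terminalIsTerminal.uniqueUpToIso (oneShIsTerminal (J := J)))) (by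
        refine Eq.trans ?_ (Category.id_comp _).symm
        refine ((ToposFin.freeAb J).map_comp _ _).symm.trans (congrArg _ ?_)
        exact (oneShIsTerminal (J := J)).hom_ext _ _)
  exact ⟨preadditiveCoyoneda.mapIso i.op ≪≫
    cokerHomIso (fmAdj O) (Groth.SiteCohomology.freeTAdj J) (SheafOfModules.toSheaf (ModSite.ringSh O))
      (Iso.refl _) (toOne (ToposFin.eps J U)) ≪≫
    Functor.isoWhiskerLeft _ (preadditiveCoyoneda.mapIso j.op)⟩

/-- `Ext_O(O/O_U, -)` is `H_Z`. -/
theorem nonempty_ext_quot_equiv_HZ [HasExt.{u} (ModSite.Mod O)] [HasInjectiveResolutions (ModSite.Mod O)]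
    (F : ModSite.Mod O) (p : ℕ) :
    Nonempty (Ext ((ModSite.quotOn O U).obj (ModSite.unit O)) F p ≃+ ModSite.HZ U F p) := by
  obtain ⟨e⟩ := nonempty_homQuot_iso O U
  let I : InjectiveResolution F := injectiveResolution F
  let G := SheafOfModules.toSheaf.{u} (ModSite.ringSh O)
  let ι : F ⟶ I.cocomplex.X 0 := I.ι.f 0
  have h : Groth.SiteCohomology.AcyclicRes.IsResolution I.cocomplex.X (fun n => I.cocomplex.d n (n + 1)) ι :=
    { mono := inferInstanceAs (Mono (I.ι.f 0))
      zero₀ := I.ι_f_zero_comp_complex_d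
      exact₀ := I.exact₀
      zero := fun n => I.cocomplex.d_comp_d _ _ _
      exact := fun n => I.exact_succ n }
  let Y := (G.mapHomologicalComplex (ComplexShape.up ℕ)).obj I.cocomplex
  have h' : Groth.SiteCohomology.AcyclicRes.IsResolution Y.X (fun n => Y.d n (n + 1)) (G.map ι) :=
    { mono := by have := h.mono; exact G.map_mono ι
      zero₀ := (G.map_comp _ _).symm.trans ((congrArg G.map h.zero₀).trans (G.map_zero _ _))
      exact₀ := h.exact₀.map G
      zero := fun n => Y.d_comp_d _ _ _
      exact := fun n => (h.exact n).map G }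
  obtain ⟨e₁⟩ := Groth.SiteCohomology.AcyclicRes.nonempty_homology_equiv_ext
    ((ModSite.quotOn O U).obj (ModSite.unit O)) I.cocomplex ι h p
    fun n q _ => Ext.subsingleton_of_injective _ _ q
  obtain ⟨e₂⟩ := Groth.SiteCohomology.AcyclicRes.nonempty_homology_equiv_ext
    (ToposFin.quotZ (ToposFin.eps J U)) Y (G.map ι) h' p
    fun n q _ => subsingleton_ext_quotZ_injective (U := U) (I.cocomplex.X n) q
  exact ⟨e₁.symm.trans ((((HomologicalComplex.homologyFunctor _ _ p).mapIso
    ((NatIso.mapHomologicalComplex e (ComplexShape.up ℕ)).app I.cocomplex))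
      ).addCommGroupIsoToAddEquiv.trans e₂)⟩

end Groth.LocCohZBase
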