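import Groth.Agent.LocCohZBase.Connecting
import Groth.Agent.LocCohZBase.DerivedComp
import Groth.Agent.LocCohZBase.InjRestr
import Groth.Agent.SiteCohomology.Flasque

/-!
# `ℋ¹_Z` is the cokernel of the unit and `ℋ^{i+1}_Z = R^i j_*(·|_U)`
-/

universe u

open CategoryTheory CategoryTheory.Limits Opposite TopologicalSpace

namespace Groth.LocCohZBase

variable {X : TopCat.{u}} (U : Opens X)

/-- The adjunction, retyped. -/
noncomputable abbrev pullPush : CohTop.pull (CohCx.incl U) ⊣ CohTop.push (CohCx.incl U) :=
  TopCat.Sheaf.pullbackPushforwardAdjunction AddCommGrpCat.{u} (CohCx.incl U)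

/-- The inclusion of sections with support, as a natural transformation. -/
noncomputable def suppNat : LocCohZ.sectSuppF U ⟶ 𝟭 (CohTop.Ab X) where
  app F := suppι U F
  naturality {F G} φ := suppι_naturality U φ

theorem suppNat_unit : suppNat U ≫ (pullPush U).unit = 0 := by
  ext F : 2
  exact kernel.condition ((pullPush U).unit.app F)

theorem epi_unit_of_flasque (F : CohTop.Ab X) [TopCat.Sheaf.IsFlasque F] :
    Epi ((pullPush U).unit.app F) := by
  have : ∀ V, Epi (((pullPush U).unit.app F).hom.app V) := fun V => by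
    rw [AddCommGrpCat.epi_iff_surjective]
    intro t
    have hiso : Function.Bijective (((CohTop.push (CohCx.incl U)).map
        ((pullInclIso U).hom.app F)).hom.app V) :=
      ConcreteCategory.bijective_of_isIso ((evalAt _ V).map ((CohTop.push (CohCx.incl U)).map
        ((pullInclIso U).hom.app F)))
    obtain ⟨s, hs⟩ := (Groth.SiteCohomology.isFlasque_iff_surjective F).1 ‹_›
      ((isOpenMap_incl U).adjunction.counit.app V.unop)
      (((CohTop.push (CohCx.incl U)).map ((pullInclIso U).hom.app F)).hom.app V t)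
    refine ⟨s, hiso.1 ?_⟩
    refine Eq.trans ?_ hs
    exact congrArg (fun g : F ⟶ (CohTop.push (CohCx.incl U)).obj ((CohTop.restrFunctor U).obj F) =>
      g.hom.app V s) (Adjunction.unit_leftAdjointUniq_hom_app (pullPush U) (restrAdj U) F)
  have : Epi ((pullPush U).unit.app F).hom := NatTrans.epi_of_epi_app _
  exact (sheafToPresheaf _ _).epi_of_epi_map (by exact this)

/-- `F ↦ j_* j⁻¹ F`. -/
noncomputable abbrev pp : CohTop.Ab X ⥤ CohTop.Ab X :=
  CohTop.pull (CohCx.incl U) ⋙ CohTop.push (CohCx.incl U)

instance additive_push : (CohTop.push (CohCx.incl U)).Additive where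

instance additive_pull : (CohTop.pull (CohCx.incl U)).Additive := (pullPush U).left_adjoint_additive

instance additive_pp : (pp U).Additive :=
  inferInstanceAs (CohTop.pull (CohCx.incl U) ⋙ CohTop.push (CohCx.incl U)).Additive

theorem ses_of_injective (I : CohTop.Ab X) (hI : Injective I) :
    (ShortComplex.mk ((suppNat U).app I) ((pullPush U).unit.app I)
      (congrArg (fun t : LocCohZ.sectSuppF U ⟶ pp U => t.app I) (suppNat_unit U))).ShortExact := by
  have := Groth.SiteCohomology.isFlasque_of_injective I
  exact ShortComplex.ShortExact.mk' (ShortComplex.exact_of_f_is_kernel _ (kernelIsKernel _))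
    (inferInstanceAs (Mono (kernel.ι ((pullPush U).unit.app I)))) (epi_unit_of_flasque U I)

instance preservesFiniteLimits_pullIncl : PreservesFiniteLimits (CohTop.pull (CohCx.incl U)) :=
  Groth.SiteCohomology.preservesFiniteLimits_pull (CohCx.incl U)

theorem isZero_rightDerived_id (n : ℕ) (F : CohTop.Ab X) :
    IsZero (((𝟭 (CohTop.Ab X)).rightDerived (n + 1)).obj F) :=
  DerivedComp.isZero_rightDerived (𝟭 (CohTop.Ab X)) n F

instance preservesInjective_pull : (CohTop.pull (CohCx.incl U)).PreservesInjectiveObjects where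
  injective_obj {I} hI := injective_pull_incl U I

instance preservesFiniteLimits_push : PreservesFiniteLimits (CohTop.push (CohCx.incl U)) :=
  have := (pullPush U).rightAdjoint_preservesLimits
  inferInstance

instance preservesFiniteColimits_pull : PreservesFiniteColimits (CohTop.pull (CohCx.incl U)) :=
  have := (pullPush U).leftAdjoint_preservesColimits
  inferInstance

instance preservesFiniteLimits_pp : PreservesFiniteLimits (pp U) :=
  comp_preservesFiniteLimits (CohTop.pull (CohCx.incl U)) (CohTop.push (CohCx.incl U))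

theorem hzsh_iso : Nonempty (LocCohZ.HZsh U 1 ≅ cokernel (pullPush U).unit) ∧
    ∀ i : ℕ, 1 ≤ i →
      Nonempty (LocCohZ.HZsh U (i + 1) ≅
        CohTop.pull (CohCx.incl U) ⋙ CohTop.Rpush (CohCx.incl U) i) := by
  refine ⟨⟨((cokernelIsCokernel (pullPush U).unit).coconePointUniqueUpToIso
    (Connecting.isColimitθ (LocCohZ.sectSuppF U) (𝟭 _) (pp U) (suppNat U) (pullPush U).unit
      (suppNat_unit U) (ses_of_injective U) (isZero_rightDerived_id 0))).symm⟩, fun i hi => ?_⟩
  obtain ⟨j, rfl⟩ := Nat.exists_eq_add_of_le' hi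
  have := Connecting.isIso_Δ (LocCohZ.sectSuppF U) (𝟭 _) (pp U) (suppNat U) (pullPush U).unit
    (suppNat_unit U) (ses_of_injective U) (j + 1) (isZero_rightDerived_id j) (isZero_rightDerived_id (j + 1))
  exact ⟨(asIso (Connecting.Δ (LocCohZ.sectSuppF U) (𝟭 _) (pp U) (suppNat U) (pullPush U).unit
    (suppNat_unit U) (ses_of_injective U) (j + 1))).symm ≪≫
      DerivedComp.rightDerivedCompIso (CohTop.pull (CohCx.incl U)) (CohTop.push (CohCx.incl U)) (j + 1)⟩

end Groth.LocCohZBase
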