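import Groth.Agent.SiteCohomology.CohomologyPresheaf
import Mathlib.CategoryTheory.Preadditive.Yoneda.Basic

/-!
# Derived functors of presheaves of homomorphisms
-/

universe w v u u'

open CategoryTheory Limits Opposite

set_option synthInstance.maxHeartbeats 400000
set_option maxHeartbeats 4000000
set_option linter.unusedSectionVars false

namespace Groth.LocCohZBase

open Abelian

variable {A : Type u'} [Category.{u} A] [Abelian A] [HasExt.{u} A] [HasInjectiveResolutions A]
  {D : Type u} [SmallCategory D] (z : D ⥤ A)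

/-- `F ↦ (d ↦ Hom(z d, F))`. -/
noncomputable def homPre : A ⥤ (Dᵒᵖ ⥤ AddCommGrpCat.{u}) :=
  preadditiveYoneda ⋙ (Functor.whiskeringLeft Dᵒᵖ Aᵒᵖ AddCommGrpCat.{u}).obj z.op

instance additive_homPre : (homPre z).Additive where
  map_add {F G f g} := by
    ext d φ
    exact Preadditive.comp_add _ _ _ φ f g

/-- `d ↦ Extⁿ(z d, F)`. -/
noncomputable def extPre (F : A) (n : ℕ) : Dᵒᵖ ⥤ AddCommGrpCat.{u} :=
  z.op ⋙ (Abelian.extFunctor n).flip.obj F

variable {F : A} (R : InjectiveResolution F) (n : ℕ)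

/-- The complex of presheaves of homomorphisms into a resolution. -/
noncomputable abbrev homCx : CochainComplex (Dᵒᵖ ⥤ AddCommGrpCat.{u}) ℕ :=
  ((homPre z).mapHomologicalComplex (ComplexShape.up ℕ)).obj R.cocomplex

/-- The morphism underlying a cycle. -/
noncomputable def homOf (d : Dᵒᵖ) : ((homCx z R).cycles n).obj d →+ (z.obj d.unop ⟶ R.cocomplex.X n) :=
  (((homCx z R).iCycles n).app d).hom

theorem homOf_injective (d : Dᵒᵖ) : Function.Injective (homOf z R n d) :=
  (AddCommGrpCat.mono_iff_injective (((homCx z R).iCycles n).app d)).1 inferInstance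

theorem homOf_map {d d' : Dᵒᵖ} (f : d ⟶ d') (c : ((homCx z R).cycles n).obj d) :
    homOf z R n d' (((homCx z R).cycles n).map f c) = z.map f.unop ≫ homOf z R n d c :=
  ConcreteCategory.congr_hom (((homCx z R).iCycles n).naturality f) c

theorem homOf_toCycles (i : ℕ) (d : Dᵒᵖ) (x : z.obj d.unop ⟶ R.cocomplex.X i) :
    homOf z R n d (((homCx z R).toCycles i n).app d x) = x ≫ R.cocomplex.d i n :=
  ConcreteCategory.congr_hom (NatTrans.congr_app ((homCx z R).toCycles_i i n) d) x

theorem homOf_d (d : Dᵒᵖ) (c : ((homCx z R).cycles n).obj d) :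
    homOf z R n d c ≫ R.cocomplex.d n (n + 1) = 0 :=
  ConcreteCategory.congr_hom (NatTrans.congr_app ((homCx z R).iCycles_d n (n + 1)) d) c

theorem exists_homOf (d : Dᵒᵖ) (s : z.obj d.unop ⟶ R.cocomplex.X n)
    (hs : s ≫ R.cocomplex.d n (n + 1) = 0) : ∃ c, homOf z R n d c = s := by
  have hex : (ShortComplex.mk ((homCx z R).iCycles n) ((homCx z R).d n (n + 1))
      ((homCx z R).iCycles_d n (n + 1))).Exact :=
    ShortComplex.exact_of_f_is_kernel _
      ((homCx z R).cyclesIsKernel n (n + 1) (CochainComplex.next ℕ n))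
  exact (ShortComplex.ab_exact_iff _).1
    (hex.map ((evaluation Dᵒᵖ AddCommGrpCat.{u}).obj d)) s hs

theorem extMk_congr {Y : A} {n : ℕ} (m : ℕ) (hm : n + 1 = m)
    {a b : Y ⟶ R.cocomplex.X n} (h : a = b) (ha : a ≫ R.cocomplex.d n m = 0)
    (hb : b ≫ R.cocomplex.d n m = 0) : R.extMk a m hm ha = R.extMk b m hm hb := by subst h; rfl

/-- The class of a cycle. -/
noncomputable def classOf (d : Dᵒᵖ) : ((homCx z R).cycles n).obj d →+ Ext (z.obj d.unop) F n :=
  AddMonoidHom.mk' (fun c => R.extMk (homOf z R n d c) (n + 1) rfl (homOf_d z R n d c))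
    (fun a b => by
      refine Eq.trans ?_ (R.add_extMk _ _ (n + 1) rfl (homOf_d z R n d a) (homOf_d z R n d b)).symm
      exact extMk_congr R (n + 1) rfl (map_add _ a b) _ _)

theorem classOf_eq_zero_iff (d : Dᵒᵖ) (c : ((homCx z R).cycles n).obj d) :
    classOf z R n d c = 0 ↔
      ∃ x : z.obj d.unop ⟶ R.cocomplex.X ((ComplexShape.up ℕ).prev n),
        ((homCx z R).toCycles _ n).app d x = c := by
  have key : ∀ (x : z.obj d.unop ⟶ R.cocomplex.X ((ComplexShape.up ℕ).prev n)),
      ((homCx z R).toCycles _ n).app d x = c ↔ x ≫ R.cocomplex.d _ n = homOf z R n d c := fun x => by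
    rw [← homOf_toCycles]
    exact (homOf_injective z R n d).eq_iff.symm
  simp only [key]
  cases n with
  | zero =>
    refine (Groth.SiteCohomology.extMk_zero_eq_zero_iff R _ (homOf_d z R 0 d c)).trans ?_
    constructor
    · intro h
      exact ⟨0, by rw [h, zero_comp]⟩
    · rintro ⟨x, hx⟩
      rw [← hx, R.cocomplex.shape _ _ (by simp), comp_zero]
  | succ m =>
    refine (R.extMk_eq_zero_iff _ (m + 2) rfl (homOf_d z R (m + 1) d c) m rfl).trans ?_
    rw [CochainComplex.prev_nat_succ]

/-- The map from cycles to the presheaf of Ext groups. -/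
noncomputable def cyclesToExtPre : (homCx z R).cycles n ⟶ extPre z F n where
  app d := AddCommGrpCat.ofHom (classOf z R n d)
  naturality d d' f := by
    ext c
    refine Eq.trans ?_ (R.mk₀_comp_extMk _ (n + 1) rfl (homOf_d z R n d c) (z.map f.unop)).symm
    exact extMk_congr R (n + 1) rfl (homOf_map z R n f c) (homOf_d z R n d' _) _

/-- Right derived functors of `F ↦ Hom(z ·, F)`. -/
theorem nonempty_rightDerived_homPre_iso (F : A) (n : ℕ) :
    Nonempty (((homPre z).rightDerived n).obj F ≅ extPre z F n) := by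
  let R : InjectiveResolution F := injectiveResolution F
  obtain ⟨e⟩ := Groth.SiteCohomology.nonempty_homology_iso_of_cycles (homCx z R) n
    (cyclesToExtPre z R n)
    (fun d x => by
      obtain ⟨f, hf, rfl⟩ := R.extMk_surjective x (n + 1) rfl
      obtain ⟨c, rfl⟩ := exists_homOf z R n d f hf
      exact ⟨c, rfl⟩)
    (fun d c => classOf_eq_zero_iff z R n d c)
  exact ⟨R.isoRightDerivedObj _ n ≪≫ e⟩

end Groth.LocCohZBase
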