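import Groth.Agent.LocCohZBase.ClosedPush
import Groth.Agent.LocCohZBase.InjRestr
import Groth.Agent.SiteCohomology.Flasque
import Groth.Prelude.Def_SuppFam

/-!
# Sections with support of an injective sheaf form an injective sheaf
-/

universe u

open CategoryTheory CategoryTheory.Limits Opposite TopologicalSpace

namespace Groth.LocCohZBase

variable {X : TopCat.{u}} (U : Opens X)

theorem injective_sectSupp (F : CohTop.Ab X) [Injective F] :
    Injective ((LocCohZ.sectSuppF U).obj F) := by
  have : PreservesLimitsOfSize.{0, 0} (CohTop.push (CohCx.inclCompl U)) :=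
    (closedAdj U).rightAdjoint_preservesLimits
  have : (CohTop.push (CohCx.inclCompl U)).PreservesMonomorphisms := inferInstance
  have h1 : Injective ((LocCohZ.sectSuppF U ⋙ CohTop.pull (CohCx.inclCompl U)).obj F) :=
    Injective.injective_of_adjoint (closedSuppAdj U) F
  have h2 : Injective ((CohTop.push (CohCx.inclCompl U)).obj
      ((CohTop.pull (CohCx.inclCompl U)).obj ((LocCohZ.sectSuppF U).obj F))) :=
    @Groth.SiteCohomology.injective_push _ _ h1 _ (CohCx.inclCompl U)
  have := isIso_unit_sectSupp U F
  exact Injective.of_iso (@asIso _ _ _ _ _ this).symm h2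

theorem injective_sectSuppLC (F : CohTop.Ab X) {W V : Opens X} (h : W ≤ V) (hF : Injective F) :
    Injective ((SuppFam.sectSuppLC h).obj F) := by
  have h1 : Injective ((CohTop.restrFunctor V).obj F) := @injective_restr _ V F hF
  have h2 : Injective ((LocCohZ.sectSuppF (X := TopCat.of V) (SuppFam.inOpen V W)).obj
      ((CohTop.restrFunctor V).obj F)) := @injective_sectSupp _ _ _ h1
  exact @Groth.SiteCohomology.injective_push _ _ h2 _ (CohCx.incl V)

end Groth.LocCohZBase
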