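import Groth.Agent.KoszulLCI.Seq
import Groth.Agent.KoszulReg.Weakly
import Mathlib.RingTheory.Flat.CategoryTheory
import Mathlib.Algebra.Category.ModuleCat.Monoidal.Closed

/-!
# Koszul cohomology of flat modules along powers of a Koszul-regular sequence
-/

set_option autoImplicit false

universe u

open CategoryTheory CategoryTheory.Limits MonoidalCategory
open Groth.KoszulReg Groth.KoszulLCI

namespace Groth.LocCohZBase

variable {A : Type u} [CommRing A]

/-- The head of a Koszul-regular sequence may be replaced by a power. -/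
theorem isKoszulRegularSeq_cons_pow {a : A} {l : List A} (h : LCI.IsKoszulRegularSeq A (a :: l)) (n : ℕ) :
    LCI.IsKoszulRegularSeq A (a ^ n :: l) := by
  rw [isKoszulRegularSeq_cons_iff] at h ⊢
  intro i hi
  obtain ⟨hs, hinj⟩ := h i hi
  constructor
  · induction n with
    | zero => exact fun y => ⟨y, by rw [pow_zero, one_smul]⟩
    | succ n ih =>
      intro y
      obtain ⟨x, hx⟩ := ih y
      obtain ⟨z, hz⟩ := hs x
      exact ⟨z, by rw [pow_succ, mul_smul, hz, hx]⟩
  · induction n with
    | zero => exact fun x hx => by rwa [pow_zero, one_smul] at hx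
    | succ n ih =>
      intro x hx
      rw [pow_succ, mul_smul] at hx
      exact hinj _ (ih _ hx)

/-- Powers of a Koszul-regular sequence form a Koszul-regular sequence. -/
theorem isKoszulRegularSeq_map_pow (n : ℕ) : ∀ l pre : List A, LCI.IsKoszulRegularSeq A (pre ++ l) →
    LCI.IsKoszulRegularSeq A (pre ++ l.map (· ^ n))
  | [], _, h => h
  | a :: l, pre, h => by
    have h1 := isKoszulRegularSeq_cons_pow (isKoszulRegularSeq_of_perm List.perm_middle h) n
    have h2 := isKoszulRegularSeq_of_perm List.perm_middle.symm h1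
    rw [List.append_cons] at h2
    have h3 := isKoszulRegularSeq_map_pow n l (pre ++ [a ^ n]) h2
    rwa [← List.append_cons] at h3

theorem koszulCx_eq_kz (M : ModuleCat.{u} A) : ∀ l : List A, CohIII.koszulCx M l =
    kz ((HomologicalComplex.single (ModuleCat.{u} A) (ComplexShape.up ℤ) 0).obj M) l
  | [] => rfl
  | f :: l => congrArg (fun K : CochainComplex (ModuleCat.{u} A) ℤ => CochainComplex.mappingCone (f • 𝟙 K))
      (koszulCx_eq_kz M l)

/-- Tensoring the Koszul complex of the ring with a flat module. -/
theorem isZero_homology_koszulCx_of_flat {l : List A} (h : LCI.IsKoszulRegularSeq A l)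
    (M : ModuleCat.{u} A) [Module.Flat A M] (i : ℤ) (hi : i ≠ 0) :
    IsZero ((CohIII.koszulCx M l).homology i) := by
  let F := tensorLeft M
  let prs : List (A × A) := l.map fun a => (a, a)
  have hF : ∀ q ∈ prs, ∀ {N N' : ModuleCat.{u} A} (φ : N ⟶ N'), F.map (q.1 • φ) = q.2 • F.map φ := by
    intro q hq N N' φ
    obtain ⟨a, -, rfl⟩ := List.mem_map.mp hq
    exact F.map_smul a φ
  have hl : prs.map Prod.fst = l := by simp [prs, Function.comp_def]
  have hl' : prs.map Prod.snd = l := by simp [prs, Function.comp_def]
  have hK := isZero_homology_map F _ i (h i hi)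
  rw [koszul_eq_kz A l, ← hl] at hK
  have h2 := isZero_homology_congr (kzFunctorIso F _ prs hF).symm i hK
  rw [hl'] at h2
  let e : F.obj (ModuleCat.of A A) ≅ M := ρ_ M
  let φ := (HomologicalComplex.singleMapHomologicalComplex F (ComplexShape.up ℤ) 0).hom.app
    (ModuleCat.of A A) ≫ (HomologicalComplex.single (ModuleCat.{u} A) (ComplexShape.up ℤ) 0).map e.hom
  have := quasiIso_kzMap φ l
  exact isZero_homology_congr (eqToIso (koszulCx_eq_kz M l)) i
    (h2.of_iso (asIso (HomologicalComplex.homologyMap (kzMap φ l) i)).symm)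

/-- The limit of Koszul cohomology of a flat module along a Koszul-regular sequence vanishes below the length. -/
theorem subsingleton_koszulHLim_of_flat (fs : List A) (h : LCI.IsKoszulRegularSeq A fs)
    (M : ModuleCat.{u} A) [Module.Flat A M] (p : ℕ) (hp : p < fs.length) :
    Subsingleton (CohIII.koszulHLim fs M p) := by
  have key : ∀ n : ℕ, Subsingleton (CohIII.koszulHPow fs M p n) := fun n =>
    ModuleCat.subsingleton_of_isZero (isZero_homology_koszulCx_of_flat
      (isKoszulRegularSeq_map_pow n fs [] h) M _ (by omega))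
  refine subsingleton_of_forall_eq 0 fun x => ?_
  obtain ⟨n, y, rfl⟩ := Module.DirectLimit.exists_of
    (f := fun n m h => (HomologicalComplex.homologyMap (CohIII.koszulTrans M n m h fs)
      ((p : ℤ) - fs.length)).hom) x
  rw [Subsingleton.elim (h := key n) y 0, map_zero]
  rfl

end Groth.LocCohZBase
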