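import Groth.Agent.LocCohZBase.HomPre
import Groth.Agent.LocCohZBase.RestrExt
import Groth.Agent.LocCohZBase.InjSupp
import Groth.Agent.SiteCohomology.HigherDirectImage

/-!
# `ℋ^q_Z` for locally closed `Z` as a sheafification
-/

universe u

open CategoryTheory CategoryTheory.Limits Opposite TopologicalSpace
open Abelian

namespace Groth.LocCohZBase

variable {X : TopCat.{u}} {W V : Opens X} (h : W ≤ V)

/-- `V' ↦ ℤ` on `Z ∩ V'`. -/
noncomputable def zFun : Opens X ⥤ CohTop.Ab X where
  obj V' := LocCohZ.zq (inf_le_inf_right V' h : W ⊓ V' ≤ V ⊓ V')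
  map {A B} f := LocCohZ.zqMap (inf_le_inf_right B h) (inf_le_inf_right A h)
    (inf_le_inf_left W (leOfHom f)) (inf_le_inf_left V (leOfHom f))
  map_id A := SuppFam.zqMap_id _
  map_comp f g := (SuppFam.zqMap_comp _ _ _ _ _ _ _).symm

theorem functor_le (V' : Opens X) :
    (isOpenMap_incl V).functor.obj ((Opens.map (CohCx.incl V)).obj V') ≤ V ⊓ V' := by
  rw [functor_map_obj, inf_comm]

theorem le_functor (V' : Opens X) :
    V ⊓ V' ≤ (isOpenMap_incl V).functor.obj ((Opens.map (CohCx.incl V)).obj V') := by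
  rw [functor_map_obj, inf_comm]

theorem functor_inf_le (V' : Opens X) : (isOpenMap_incl V).functor.obj
    ((Opens.map (CohCx.incl V)).obj V' ⊓ SuppFam.inOpen V W) ≤ W ⊓ V' := by
  rintro x ⟨⟨y, hy⟩, ⟨hyV', hyW⟩, rfl⟩
  exact ⟨hyW, hyV'⟩

theorem le_functor_inf (V' : Opens X) (h : W ≤ V) : W ⊓ V' ≤ (isOpenMap_incl V).functor.obj
    ((Opens.map (CohCx.incl V)).obj V' ⊓ SuppFam.inOpen V W) :=
  fun x hx => ⟨⟨x, h hx.1⟩, ⟨hx.2, hx.1⟩, rfl⟩

/-- Sections of `Γ_Z(F)` as sections of `F`. -/
noncomputable def lcVal (F : CohTop.Ab X) (V' : Opens X) :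
    ((SuppFam.sectSuppLC h).obj F).obj.obj (op V') →+ F.obj.obj (op (V ⊓ V')) :=
  (F.obj.map (homOfLE (le_functor V')).op).hom.comp
    ((suppι (SuppFam.inOpen V W) ((CohTop.restrFunctor V).obj F)).hom.app
      (op ((Opens.map (CohCx.incl V)).obj V'))).hom

theorem map_le_injective (F : CohTop.Ab X) {A B : Opens X} (hAB : A ≤ B) (hBA : B ≤ A) :
    Function.Injective (F.obj.map (homOfLE hAB).op) := fun a b e => by
  have e' := congrArg (F.obj.map (homOfLE hBA).op) e
  rwa [map_map F _ _ (𝟙 _), map_map F _ _ (𝟙 _), CategoryTheory.Functor.map_id] at e'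

theorem lcVal_injective (F : CohTop.Ab X) (V' : Opens X) : Function.Injective (lcVal h F V') :=
  (map_le_injective F (le_functor V') (functor_le V')).comp
    (suppι_injective (SuppFam.inOpen V W) ((CohTop.restrFunctor V).obj F) _)

theorem lcVal_res (F : CohTop.Ab X) (V' : Opens X)
    (x : ((SuppFam.sectSuppLC h).obj F).obj.obj (op V')) :
    F.obj.map (homOfLE (inf_le_inf_right V' h)).op (lcVal h F V' x) = 0 := by
  have e := suppι_res (SuppFam.inOpen V W) ((CohTop.restrFunctor V).obj F) _ x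
  change F.obj.map ((isOpenMap_incl V).functor.map (homOfLE inf_le_left)).op _ = 0 at e
  have e' := congrArg (F.obj.map (homOfLE (le_functor_inf V' h)).op) e
  rw [map_zero, map_map F _ _ ((homOfLE (le_functor V')).op ≫ (homOfLE (inf_le_inf_right V' h)).op),
    ← map_map F (homOfLE (le_functor V')).op (homOfLE (inf_le_inf_right V' h)).op] at e'
  exact e'

theorem exists_lcVal (F : CohTop.Ab X) (V' : Opens X) (s : F.obj.obj (op (V ⊓ V')))
    (hs : F.obj.map (homOfLE (inf_le_inf_right V' h)).op s = 0) : ∃ x, lcVal h F V' x = s := by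
  obtain ⟨x, hx⟩ := exists_suppι (SuppFam.inOpen V W) ((CohTop.restrFunctor V).obj F)
    ((Opens.map (CohCx.incl V)).obj V') (F.obj.map (homOfLE (functor_le V')).op s) (by
      change F.obj.map ((isOpenMap_incl V).functor.map (homOfLE inf_le_left)).op _ = 0
      rw [map_map F _ _ ((homOfLE (inf_le_inf_right V' h)).op ≫ (homOfLE (functor_inf_le V')).op),
        ← map_map F (homOfLE (inf_le_inf_right V' h)).op (homOfLE (functor_inf_le V')).op, hs,
        map_zero])
  refine ⟨x, (congrArg (F.obj.map (homOfLE (le_functor V')).op) hx).trans ?_⟩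
  rw [map_map F _ _ (𝟙 _), CategoryTheory.Functor.map_id]
  rfl

theorem lcVal_natural {F G : CohTop.Ab X} (g : F ⟶ G) (V' : Opens X)
    (x : ((SuppFam.sectSuppLC h).obj F).obj.obj (op V')) :
    lcVal h G V' (((SuppFam.sectSuppLC h).map g).hom.app (op V') x) =
      g.hom.app (op (V ⊓ V')) (lcVal h F V' x) := by
  refine (congrArg (G.obj.map (homOfLE (le_functor V')).op)
    (suppι_naturality_apply (SuppFam.inOpen V W) ((CohTop.restrFunctor V).map g)
      ((Opens.map (CohCx.incl V)).obj V') x)).trans ?_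
  exact (congrArg (fun m : F.obj.obj (op _) ⟶ G.obj.obj (op (V ⊓ V')) =>
    m ((suppι (SuppFam.inOpen V W) ((CohTop.restrFunctor V).obj F)).hom.app _ x))
    (g.hom.naturality (homOfLE (le_functor V')).op)).symm

theorem lcVal_map (F : CohTop.Ab X) {A B : Opens X} (f : A ⟶ B)
    (x : ((SuppFam.sectSuppLC h).obj F).obj.obj (op B)) :
    lcVal h F A (((SuppFam.sectSuppLC h).obj F).obj.map f.op x) =
      F.obj.map (homOfLE (inf_le_inf_left V (leOfHom f))).op (lcVal h F B x) := by
  have e := congrArg (fun m : ((LocCohZ.sectSuppF (SuppFam.inOpen V W)).obj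
      ((CohTop.restrFunctor V).obj F)).obj.obj (op ((Opens.map (CohCx.incl V)).obj B)) ⟶
      ((CohTop.restrFunctor V).obj F).obj.obj (op ((Opens.map (CohCx.incl V)).obj A)) => m x)
    ((suppι (SuppFam.inOpen V W) ((CohTop.restrFunctor V).obj F)).hom.naturality
      ((Opens.map (CohCx.incl V)).map f).op)
  refine (congrArg (F.obj.map (homOfLE (le_functor A)).op) e).trans ?_
  exact (map_map F ((isOpenMap_incl V).functor.map ((Opens.map (CohCx.incl V)).map f)).op _
    ((homOfLE (le_functor B)).op ≫ (homOfLE (inf_le_inf_left V (leOfHom f))).op) _).trans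
    (map_map F _ _ _ _).symm

theorem zqVal_zqMap {W W' V V' : Opens X} (hWV : W ≤ V) (hWV' : W' ≤ V') (hW : W' ≤ W) (hV : V' ≤ V)
    (G : CohTop.Ab X) (φ : LocCohZ.zq hWV ⟶ G) :
    zqVal hWV' G (LocCohZ.zqMap hWV hWV' hW hV ≫ φ) = G.obj.map (homOfLE hV).op (zqVal hWV G φ) := by
  rw [zqVal, zqVal, ← CohFree.evalGen_freeSheafMap_comp]
  congr 1
  simp only [LocCohZ.zqMap, cokernel.π_desc_assoc, Category.assoc]

/-- A homomorphism out of `ℤ_{Z ∩ V'}` as a section of `Γ_Z(F)`. -/
noncomputable def toLC (F : CohTop.Ab X) (V' : Opens X) :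
    ((zFun h).obj V' ⟶ F) →+ ((SuppFam.sectSuppLC h).obj F).obj.obj (op V') :=
  AddMonoidHom.mk' (fun φ => (exists_lcVal h F V' (zqVal (inf_le_inf_right V' h) F φ)
      ((exists_zqVal_iff _ F _).1 ⟨φ, rfl⟩)).choose) fun a b => lcVal_injective h F V' (by
    rw [map_add]
    erw [Exists.choose_spec (p := fun x => lcVal h F V' x = zqVal (inf_le_inf_right V' h) F (a + b)),
      Exists.choose_spec (p := fun x => lcVal h F V' x = zqVal (inf_le_inf_right V' h) F a),
      Exists.choose_spec (p := fun x => lcVal h F V' x = zqVal (inf_le_inf_right V' h) F b)]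
    exact (congrArg (CohFree.evalGen (Opens.grothendieckTopology X) (V ⊓ V') F)
      (Preadditive.comp_add _ _ _ _ a b)).trans
        (map_add (CohFree.homEquivSect (Opens.grothendieckTopology X) _ F) _ _))

theorem lcVal_toLC (F : CohTop.Ab X) (V' : Opens X) (φ : (zFun h).obj V' ⟶ F) :
    lcVal h F V' (toLC h F V' φ) = zqVal (inf_le_inf_right V' h) F φ :=
  Exists.choose_spec (p := fun x => lcVal h F V' x = zqVal (inf_le_inf_right V' h) F φ) _

theorem toLC_bijective (F : CohTop.Ab X) (V' : Opens X) : Function.Bijective (toLC h F V') := by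
  refine ⟨fun a b e => zqVal_injective _ F ?_, fun x => ?_⟩
  · rw [← lcVal_toLC, ← lcVal_toLC, e]
  · obtain ⟨φ, hφ⟩ := (exists_zqVal_iff _ F _).2 (lcVal_res h F V' x)
    exact ⟨φ, lcVal_injective h F V' ((lcVal_toLC h F V' φ).trans hφ)⟩

/-- `Γ_Z(F)` on `V'` is `Hom(ℤ_{Z ∩ V'}, F)`. -/
noncomputable def homPreIsoLC : homPre (zFun h) ≅
    SuppFam.sectSuppLC h ⋙ sheafToPresheaf (Opens.grothendieckTopology X) AddCommGrpCat.{u} :=
  NatIso.ofComponents (fun F => NatIso.ofComponents
      (fun V' => (AddEquiv.ofBijective (toLC h F V'.unop) (toLC_bijective h F V'.unop)).toAddCommGrpIso)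
      (fun {A B} f => by
        ext φ
        refine lcVal_injective h F B.unop ?_
        refine (lcVal_toLC h F B.unop ((zFun h).map f.unop ≫ φ)).trans ?_
        refine Eq.trans ?_ (lcVal_map h F f.unop _).symm
        erw [lcVal_toLC]
        exact zqVal_zqMap (inf_le_inf_right A.unop h) (inf_le_inf_right B.unop h)
          (inf_le_inf_left W (leOfHom f.unop)) (inf_le_inf_left V (leOfHom f.unop)) F φ))
    (fun {F G} g => by
      ext V' φ
      refine lcVal_injective h G V'.unop ?_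
      refine (lcVal_toLC h G V'.unop (φ ≫ g)).trans ?_
      refine Eq.trans ?_ (lcVal_natural h g V'.unop _).symm
      erw [lcVal_toLC]
      exact zqVal_comp _ φ g)

/-- `Γ_Z` is the sheafified presheaf of homomorphisms. -/
noncomputable def sectSuppLCIso : SuppFam.sectSuppLC h ≅
    homPre (zFun h) ⋙ presheafToSheaf (Opens.grothendieckTopology X) AddCommGrpCat.{u} :=
  (Functor.rightUnitor _).symm ≪≫
    Functor.isoWhiskerLeft (SuppFam.sectSuppLC h)
      (asIso (sheafificationAdjunction (Opens.grothendieckTopology X) AddCommGrpCat.{u}).counit).symm ≪≫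
    (Functor.associator _ _ _).symm ≪≫ Functor.isoWhiskerRight (homPreIsoLC h).symm _

/-- `ℋ^q_Z(F)` is the sheaf associated to `V' ↦ H^q_{Z ∩ V'}(V', F)`. -/
theorem nonempty_HZshLC_iso (F : CohTop.Ab X) (q : ℕ) :
    Nonempty ((SuppFam.HZshLC h q).obj F ≅
      (presheafToSheaf (Opens.grothendieckTopology X) AddCommGrpCat.{u}).obj (SuppFam.HZpre F q h)) := by
  obtain ⟨e⟩ := nonempty_rightDerived_homPre_iso (zFun h) F q
  obtain ⟨f⟩ := Groth.SiteCohomology.nonempty_rightDerived_comp_exact (homPre (zFun h))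
    (presheafToSheaf (Opens.grothendieckTopology X) AddCommGrpCat.{u})
    (SuppFam.sectSuppLC h) (sectSuppLCIso h) F q
  let g : extPre (zFun h) F q ≅ SuppFam.HZpre F q h :=
    NatIso.ofComponents (fun _ => Iso.refl _) (fun _ => rfl)
  exact ⟨f ≪≫ Functor.mapIso _ (e ≪≫ g)⟩

end Groth.LocCohZBase
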