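import Groth.Agent.LocCohZBase.GammaZQCoh
import Groth.Agent.LocCohZBase.AcyclicDerived
import Groth.Agent.LocCohZBase.SuppLCPre
import Groth.Agent.LocCohZBase.Vanishing

/-!
# `ℋ^i_Z` of quasi-coherent modules for locally closed `Z`
-/

universe u

open CategoryTheory CategoryTheory.Limits AlgebraicGeometry Opposite TopologicalSpace
open Groth.CohTwo (res res_res res_rfl app_res)

namespace Groth.LocCohZBase

/-- Restriction between equal opens is bijective. -/
theorem res_cancel {X : Scheme.{u}} (F : X.Modules) {A B : X.Opens} (h : A ≤ B) (h' : B ≤ A) (s : Γ(F, A)) :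
    res F h (res F h' s) = s :=
  (res_res F h h' s).trans (res_rfl F le_rfl s)

theorem res_injective {X : Scheme.{u}} (F : X.Modules) {A B : X.Opens} (h : A ≤ B) (h' : B ≤ A) :
    Function.Injective (res F h' : Γ(F, A) →+ Γ(F, B)) :=
  Function.LeftInverse.injective (res_cancel F h h')

section Composite

variable {U₁ U₂ Y : Scheme.{u}} (j₁ : U₁ ⟶ Y) [IsOpenImmersion j₁] (j₂ : U₂ ⟶ Y) [IsOpenImmersion j₂]

theorem injective_pushRestr (I : Y.Modules) [Injective I] : Injective ((pushRestr j₁).obj I) := by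
  haveI := Groth.CohTwo.injective_restrict j₁ I
  haveI : (Scheme.Modules.restrictFunctor j₁).PreservesMonomorphisms :=
    ⟨fun φ _ => Groth.CohTwo.mono_restrictMap j₁ φ⟩
  exact Injective.injective_of_adjoint (Scheme.Modules.restrictAdjunction j₁) (I.restrict j₁)

theorem isIso_pushRestr_map_unit (h : j₂.opensRange ≤ j₁.opensRange) (F : Y.Modules) :
    IsIso ((pushRestr j₂).map ((Scheme.Modules.restrictAdjunction j₁).unit.app F)) := by
  haveI : IsIso ((Scheme.Modules.restrictFunctor j₂).map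
      ((Scheme.Modules.restrictAdjunction j₁).unit.app F)) :=
    Groth.CohTwo.isIso_of_app_bijective _ fun W => by
      have e := Groth.CohTwo.image_preimage_of_le j₁ ((Scheme.Hom.image_le_opensRange j₂ W).trans h)
      exact Function.bijective_iff_has_inverse.2 ⟨fun (b : Γ(F, j₁ ''ᵁ (j₁ ⁻¹ᵁ (j₂ ''ᵁ W)))) => res F e.ge b,
        fun a => res_cancel F e.ge e.le a, fun b => res_cancel F e.le e.ge b⟩
  exact inferInstanceAs (IsIso ((Scheme.Modules.pushforward j₂).map _))

variable [HasInjectiveResolutions Y.Modules]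

/-- Derived functors of sections supported in `U₁ ∖ U₂`. -/
theorem isQCoh_rightDerived_suppPush [QuasiCompact j₁] [QuasiCompact j₂] [QuasiSeparated j₁]
    (h : j₂.opensRange ≤ j₁.opensRange) (M : Y.Modules) [M.IsQuasicoherent] (q : ℕ) :
    (((pushRestr j₁ ⋙ DCoh.gammaZ j₂).rightDerived q).obj M).IsQuasicoherent := by
  let P := fun M : Y.Modules => M.IsQuasicoherent
  have hP : Groth.CohTwo.ComposeCoh.Closed P := closed_isQuasicoherent
  let R := injectiveResolution M
  let K := ((pushRestr j₁).mapHomologicalComplex (ComplexShape.up ℕ)).obj R.cocomplex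
  let S := suppSeq j₂ K
  have hS : S.ShortExact := suppSeq_shortExact j₂ K fun i => by
    haveI := R.injective i
    exact injective_pushRestr j₁ (R.cocomplex.X i)
  have h₂ : ∀ n, P (S.X₂.homology n) := fun n =>
    hP.iso (R.isoRightDerivedObj (pushRestr j₁) n) (isQCoh_rightDerived_pushRestr j₁ M n)
  let e : ((pushRestr j₂).mapHomologicalComplex (ComplexShape.up ℕ)).obj R.cocomplex ≅ S.X₃ :=
    HomologicalComplex.Hom.isoOfComponents
      (fun i => @asIso _ _ _ _ _ (isIso_pushRestr_map_unit j₁ j₂ h (R.cocomplex.X i)))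
      (fun i k _ => ((pushRestr j₂).map_comp _ _).symm.trans ((congrArg (pushRestr j₂).map
        ((Scheme.Modules.restrictAdjunction j₁).unit.naturality (R.cocomplex.d i k))).symm.trans
          ((pushRestr j₂).map_comp _ _)))
  have h₃ : ∀ n, P (S.X₃.homology n) := fun n =>
    hP.iso (R.isoRightDerivedObj (pushRestr j₂) n ≪≫
      (HomologicalComplex.homologyFunctor _ _ n).mapIso e) (isQCoh_rightDerived_pushRestr j₂ M n)
  refine hP.iso ((R.isoRightDerivedObj (pushRestr j₁ ⋙ DCoh.gammaZ j₂) q ≪≫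
    (HomologicalComplex.homologyFunctor _ _ q).mapIso (HomologicalComplex.Hom.isoOfComponents
      (fun i => Iso.refl _) (fun i k _ => (Category.id_comp _).trans (Category.comp_id _).symm))).symm) ?_
  show P (S.X₁.homology q)
  cases q with
  | zero =>
    haveI := hS.mono_f
    haveI : Mono (HomologicalComplex.homologyMap S.f 0) :=
      HomologicalComplex.mono_homologyMap_of_mono_of_not_rel _ 0 fun k => by simp
    exact hP.iso ((IsLimit.conePointUniqueUpToIso (hS.homology_exact₂ 0).fIsKernel (kernelIsKernel _)).symm)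
      (hP.ker _ (h₂ 0) (h₃ 0))
  | succ n =>
    exact Groth.CohTwo.ComposeCoh.five hP (HomologicalComplex.homologyMap S.g n) (hS.δ n (n + 1) rfl)
      (HomologicalComplex.homologyMap S.f (n + 1)) (HomologicalComplex.homologyMap S.g (n + 1))
      (hS.homology_exact₃ n (n + 1) rfl) (hS.homology_exact₁ n (n + 1) rfl) (hS.homology_exact₂ (n + 1))
      (h₂ n) (h₃ n) (h₂ (n + 1)) (h₃ (n + 1))

end Composite

section Compare

variable {Y : Scheme.{u}} {V₂ V₁ : Y.Opens} (h : V₂ ≤ V₁)

/-- Sections supported in `V₁ ∖ V₂` of a module. -/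
noncomputable abbrev suppMod : Y.Modules ⥤ Y.Modules := pushRestr V₁.ι ⋙ DCoh.gammaZ V₂.ι

theorem image_preimage_inf (V W : Y.Opens) : V.ι ''ᵁ (V.ι ⁻¹ᵁ W) = V ⊓ W := by
  rw [Scheme.Hom.image_preimage_eq_opensRange_inf, Scheme.Opens.opensRange_ι]

/-- The inclusion of sections with support. -/
noncomputable def suppIncl (F : Y.Modules) :
    (suppMod (V₂ := V₂) (V₁ := V₁)).obj F ⟶ (pushRestr V₁.ι).obj F :=
  kernel.ι ((Scheme.Modules.restrictAdjunction V₂.ι).unit.app ((pushRestr V₁.ι).obj F))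

instance mono_suppIncl (F : Y.Modules) : Mono (suppIncl (V₂ := V₂) (V₁ := V₁) F) :=
  inferInstanceAs (Mono (kernel.ι _))

theorem suppIncl_naturality {F G : Y.Modules} (g : F ⟶ G) :
    (suppMod (V₂ := V₂) (V₁ := V₁)).map g ≫ suppIncl G = suppIncl F ≫ (pushRestr V₁.ι).map g :=
  kernel.lift_ι _ _ _

theorem suppIncl_unit (F : Y.Modules) : suppIncl (V₂ := V₂) (V₁ := V₁) F ≫
    (Scheme.Modules.restrictAdjunction V₂.ι).unit.app ((pushRestr V₁.ι).obj F) = 0 :=
  kernel.condition _

theorem suppIncl_exact (F : Y.Modules) : (ShortComplex.mk _ _ (suppIncl_unit (V₂ := V₂) (V₁ := V₁) F)).Exact :=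
  ShortComplex.exact_of_f_is_kernel _ (kernelIsKernel _)

/-- A section of `Γ_Z` of the abelian sheaf as a section of `(j₁)_* j₁^* F`. -/
noncomputable def lcPush (F : Y.Modules) (W : Y.Opens) :
    ((SuppFam.sectSuppLC (X := Y.carrier) h).obj (Coh.toAb F)).obj.obj (op W) →+
      Γ((pushRestr V₁.ι).obj F, W) :=
  (res F (image_preimage_inf V₁ W).le).comp (lcVal (X := Y.carrier) h (Coh.toAb F) W)

theorem lcPush_injective (F : Y.Modules) (W : Y.Opens) : Function.Injective (lcPush h F W) := by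
  intro a b e
  exact lcVal_injective (X := Y.carrier) h (Coh.toAb F) W
    (res_injective F (image_preimage_inf V₁ W).ge (image_preimage_inf V₁ W).le e)

theorem unit_pushRestr_eq_zero_iff (F : Y.Modules) (W : Y.Opens) (t : Γ((pushRestr V₁.ι).obj F, W)) :
    ((Scheme.Modules.restrictAdjunction V₂.ι).unit.app ((pushRestr V₁.ι).obj F)).app W t = 0 ↔
      res F (show V₂ ⊓ W ≤ V₁.ι ''ᵁ (V₁.ι ⁻¹ᵁ W) from
        (inf_le_inf_right W h).trans (image_preimage_inf V₁ W).ge) t = 0 := by
  have hA : V₁.ι ''ᵁ (V₁.ι ⁻¹ᵁ (V₂.ι ''ᵁ (V₂.ι ⁻¹ᵁ W))) = V₂ ⊓ W := by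
    rw [image_preimage_inf, image_preimage_inf, ← inf_assoc, inf_eq_right.2 h]
  let t' : Γ(F, V₁.ι ''ᵁ (V₁.ι ⁻¹ᵁ W)) := t
  have hB : V₁.ι ''ᵁ (V₁.ι ⁻¹ᵁ (V₂.ι ''ᵁ (V₂.ι ⁻¹ᵁ W))) ≤ V₁.ι ''ᵁ (V₁.ι ⁻¹ᵁ W) :=
    hA.le.trans ((inf_le_inf_right W h).trans (image_preimage_inf V₁ W).ge)
  change res F hB t' = 0 ↔ res F _ t' = 0
  constructor
  · intro e
    exact (res_res F hA.ge hB t').symm.trans ((congrArg (res F hA.ge) e).trans (map_zero _))
  · intro e
    exact (res_res F hA.le _ t').symm.trans ((congrArg (res F hA.le) e).trans (map_zero _))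

theorem exists_kernel_lcPush (F : Y.Modules) (W : Y.Opens)
    (x : ((SuppFam.sectSuppLC (X := Y.carrier) h).obj (Coh.toAb F)).obj.obj (op W)) :
    ∃ y : Γ((suppMod (V₂ := V₂) (V₁ := V₁)).obj F, W),
      (suppIncl F).app W y = lcPush h F W x := by
  have hx : res F ((inf_le_inf_right W h).trans (image_preimage_inf V₁ W).ge) (lcPush h F W x) = 0 :=
    (res_res F ((inf_le_inf_right W h).trans (image_preimage_inf V₁ W).ge) (image_preimage_inf V₁ W).le
      (lcVal (X := Y.carrier) h (Coh.toAb F) W x)).trans (lcVal_res (X := Y.carrier) h (Coh.toAb F) W x)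
  exact @Groth.QCohMod.exists_app_eq_of_mono_exact _
    (ShortComplex.mk _ _ (suppIncl_unit (V₂ := V₂) (V₁ := V₁) F)) (suppIncl_exact F) (mono_suppIncl F) W
    (lcPush h F W x) ((unit_pushRestr_eq_zero_iff h F W (lcPush h F W x)).2 hx)

theorem lcPush_map (F : Y.Modules) {A B : Y.Opens} (f : B ⟶ A)
    (x : ((SuppFam.sectSuppLC (X := Y.carrier) h).obj (Coh.toAb F)).obj.obj (op A)) :
    lcPush h F B (((SuppFam.sectSuppLC (X := Y.carrier) h).obj (Coh.toAb F)).obj.map f.op x) =
      res ((pushRestr V₁.ι).obj F) (leOfHom f) (lcPush h F A x) := by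
  let v : Γ(F, V₁ ⊓ A) := lcVal (X := Y.carrier) h (Coh.toAb F) A x
  have e : V₁.ι ''ᵁ (V₁.ι ⁻¹ᵁ B) ≤ V₁.ι ''ᵁ (V₁.ι ⁻¹ᵁ A) :=
    Scheme.Hom.image_mono _ (V₁.ι.preimage_mono (leOfHom f))
  show res F _ (lcVal (X := Y.carrier) h (Coh.toAb F) B _) = res F e (res F (image_preimage_inf V₁ A).le v)
  refine (congrArg (res F (image_preimage_inf V₁ B).le)
    (lcVal_map (X := Y.carrier) h (Coh.toAb F) f x)).trans ?_
  exact (res_res F (image_preimage_inf V₁ B).le (inf_le_inf_left V₁ (leOfHom f)) v).trans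
    (res_res F e (image_preimage_inf V₁ A).le v).symm

/-- The comparison on sections. -/
noncomputable def toSupp (F : Y.Modules) (W : Y.Opens) :
    ((SuppFam.sectSuppLC (X := Y.carrier) h).obj (Coh.toAb F)).obj.obj (op W) →+
      Γ((suppMod (V₂ := V₂) (V₁ := V₁)).obj F, W) :=
  AddMonoidHom.mk' (fun x => (exists_kernel_lcPush h F W x).choose) fun a b =>
    Groth.QCohMod.app_injective_of_mono (suppIncl F) W
      ((exists_kernel_lcPush h F W (a + b)).choose_spec.trans ((map_add (lcPush h F W) a b).trans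
        ((congrArg₂ (· + ·) (exists_kernel_lcPush h F W a).choose_spec
          (exists_kernel_lcPush h F W b).choose_spec).symm.trans (map_add _ _ _).symm)))

theorem ι_toSupp (F : Y.Modules) (W : Y.Opens)
    (x : ((SuppFam.sectSuppLC (X := Y.carrier) h).obj (Coh.toAb F)).obj.obj (op W)) :
    (suppIncl F).app W (toSupp h F W x) = lcPush h F W x :=
  (exists_kernel_lcPush h F W x).choose_spec

theorem toSupp_bijective (F : Y.Modules) (W : Y.Opens) : Function.Bijective (toSupp h F W) := by
  refine ⟨fun a b e => lcPush_injective h F W ?_, fun y => ?_⟩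
  · exact ((ι_toSupp h F W a).symm.trans (congrArg _ e)).trans (ι_toSupp h F W b)
  · let t : Γ((pushRestr V₁.ι).obj F, W) := (suppIncl F).app W y
    have ht : ((Scheme.Modules.restrictAdjunction V₂.ι).unit.app ((pushRestr V₁.ι).obj F)).app W t = 0 :=
      (congr(($(suppIncl_unit (V₂ := V₂) (V₁ := V₁) F)).app W y)).trans rfl
    let t' : Γ(F, V₁.ι ''ᵁ (V₁.ι ⁻¹ᵁ W)) := t
    obtain ⟨x, hx⟩ := exists_lcVal (X := Y.carrier) h (Coh.toAb F) W (res F (image_preimage_inf V₁ W).ge t')
      ((res_res F (inf_le_inf_right W h) (image_preimage_inf V₁ W).ge t').trans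
        ((unit_pushRestr_eq_zero_iff h F W t).1 ht))
    refine ⟨x, Groth.QCohMod.app_injective_of_mono (suppIncl F) W ((ι_toSupp h F W x).trans ?_)⟩
    exact (congrArg (res F (image_preimage_inf V₁ W).le) hx).trans
      (res_cancel F (image_preimage_inf V₁ W).le (image_preimage_inf V₁ W).ge t')

/-- `Γ_Z` commutes with taking the underlying abelian sheaf. -/
noncomputable def suppModIso :
    Groth.CohBase.toAbF Y ⋙ SuppFam.sectSuppLC (X := Y.carrier) h ≅
      suppMod (V₂ := V₂) (V₁ := V₁) ⋙ Groth.CohBase.toAbF Y :=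
  NatIso.ofComponents
    (fun F => (fullyFaithfulSheafToPresheaf _ _).preimageIso (NatIso.ofComponents
      (fun W => (AddEquiv.ofBijective (toSupp h F W.unop) (toSupp_bijective h F W.unop)).toAddCommGrpIso)
      (fun {A B} f => by
        ext x
        refine Groth.QCohMod.app_injective_of_mono (suppIncl F) B.unop ((ι_toSupp h F B.unop _).trans ?_)
        refine Eq.trans ?_ (app_res (suppIncl F) (leOfHom f.unop) (toSupp h F A.unop x)).symm
        refine Eq.trans ?_ (congrArg (res ((pushRestr V₁.ι).obj F) (leOfHom f.unop))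
          (ι_toSupp h F A.unop x)).symm
        exact lcPush_map h F f.unop x)))
    (fun {F G} g => by
      refine (fullyFaithfulSheafToPresheaf _ _).map_injective ?_
      ext W x
      refine Groth.QCohMod.app_injective_of_mono (suppIncl G) W.unop ((ι_toSupp h G W.unop _).trans ?_)
      refine Eq.trans ?_ (congr(($(suppIncl_naturality (V₂ := V₂) (V₁ := V₁) g)).app W.unop
        (toSupp h F W.unop x))).symm
      refine Eq.trans ?_ (congrArg (((pushRestr V₁.ι).map g).app W.unop) (ι_toSupp h F W.unop x)).symm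
      refine (congrArg (res G (image_preimage_inf V₁ W.unop).le)
        (lcVal_natural (X := Y.carrier) h ((Groth.CohBase.toAbF Y).map g) W.unop x)).trans ?_
      exact (app_res g _ _).symm)

theorem rightAcyclic_toAb_injective (I : Y.Modules) [Injective I]
    [PreservesFiniteLimits (SuppFam.sectSuppLC (X := Y.carrier) h)] :
    Groth.CohFin.RightAcyclic (SuppFam.sectSuppLC (X := Y.carrier) h) (Coh.toAb I) := fun n => by
  haveI : TopCat.Sheaf.IsFlasque (Coh.toAb I) :=
    (Groth.SiteCohomology.isFlasque_iff_surjective _).2 fun U V f =>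
      Groth.CohFin.res_surjective_of_injective I (leOfHom f)
  obtain ⟨e⟩ := nonempty_HZshLC_iso (X := Y.carrier) h (Coh.toAb I) (n + 1)
  refine IsZero.of_iso (Functor.map_isZero _ ?_) e
  exact Functor.isZero _ fun W => @AddCommGrpCat.isZero_of_subsingleton _
    ((flasque_vanishing (Coh.toAb I)).1 _ _ _ (n + 1) n.succ_pos)

variable [HasInjectiveResolutions Y.Modules]

theorem nonempty_toAb_rightDerived_suppMod (F : Y.Modules) (i : ℕ)
    [PreservesFiniteLimits (SuppFam.sectSuppLC (X := Y.carrier) h)] :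
    Nonempty (Coh.toAb (((suppMod (V₂ := V₂) (V₁ := V₁)).rightDerived i).obj F) ≅
      (SuppFam.HZshLC (X := Y.carrier) h i).obj (Coh.toAb F)) := by
  obtain ⟨a⟩ := Groth.SiteCohomology.nonempty_rightDerived_comp_exact (suppMod (V₂ := V₂) (V₁ := V₁))
    (Groth.CohBase.toAbF Y) (Groth.CohBase.toAbF Y ⋙ SuppFam.sectSuppLC (X := Y.carrier) h)
    (suppModIso h) F i
  let R := injectiveResolution F
  let A := ((Groth.CohBase.toAbF Y).mapHomologicalComplex (ComplexShape.up ℕ)).obj R.cocomplex
  have hz : (Groth.CohBase.toAbF Y).map (R.ι.f 0) ≫ A.d 0 1 = 0 :=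
    ((Groth.CohBase.toAbF Y).map_comp _ _).symm.trans
      ((congrArg (Groth.CohBase.toAbF Y).map R.ι_f_zero_comp_complex_d).trans (Functor.map_zero _ _ _))
  obtain ⟨b⟩ := nonempty_homology_iso_of_acyclic (SuppFam.sectSuppLC (X := Y.carrier) h) i A
    (Coh.toAb F) ((Groth.CohBase.toAbF Y).map (R.ι.f 0)) hz
    (by
      have : Mono (R.ι.f 0) := inferInstance
      have : (Groth.CohBase.toAbF Y).PreservesMonomorphisms :=
        CategoryTheory.preservesMonomorphisms_of_preservesLimitsOfShape _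
      exact Functor.map_mono _ _)
    (R.exact₀.map (Groth.CohBase.toAbF Y))
    (fun m => (A.exactAt_iff' m (m + 1) (m + 2) (by simp) (by simp)).2
      ((R.exact_succ m).map (Groth.CohBase.toAbF Y)))
    (fun m => by
      haveI := R.injective m
      exact rightAcyclic_toAb_injective h (R.cocomplex.X m))
  exact ⟨a.symm ≪≫ R.isoRightDerivedObj _ i ≪≫ (HomologicalComplex.homologyFunctor _ _ i).mapIso
    (HomologicalComplex.Hom.isoOfComponents (fun m => Iso.refl _)
      (fun m k _ => (Category.id_comp _).trans (Category.comp_id _).symm)) ≪≫ b⟩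

end Compare

end Groth.LocCohZBase

namespace Groth.LocCohZBase

theorem preservesFiniteLimits_sectSuppLC {X : TopCat.{u}} {W V : Opens X} (h : W ≤ V) :
    PreservesFiniteLimits (SuppFam.sectSuppLC h) := by
  have : PreservesLimits (sheafToPresheaf (Opens.grothendieckTopology X) AddCommGrpCat.{u}) :=
    (sheafificationAdjunction (Opens.grothendieckTopology X) AddCommGrpCat.{u}).rightAdjoint_preservesLimits
  have : PreservesFiniteLimits (homPre (zFun h)) :=
    ⟨fun J _ _ => preservesLimitsOfShape_of_evaluation _ J fun d =>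
      inferInstanceAs (PreservesLimitsOfShape J (preadditiveCoyoneda.obj (op ((zFun h).obj d.unop))))⟩
  have := preservesFiniteLimits_of_natIso (sectSuppLCIso h).symm
  exact this

end Groth.LocCohZBase
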