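import Groth.Agent.LocCohZBase.KoszulFlat
import Groth.Agent.LocCohZBase.EquationsVanish
import Groth.Agent.LocCohZBase.SuppLCModules
import Groth.Agent.LocCohZBase.AffineKoszul
import Groth.Agent.LocCohZBase.RestrExt
import Groth.Agent.Misc8.PinchFlat
import Groth.Agent.AdicLinTop.RpushVanish

/-!
# `ℋ^i_Z` of a flat module for `Z` locally cut out by a Koszul-regular sequence
-/

universe u

open CategoryTheory CategoryTheory.Limits AlgebraicGeometry TopologicalSpace Opposite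

attribute [local instance] HasDerivedCategory.standard

set_option linter.style.haveILetI false
set_option backward.isDefEq.respectTransparency false
set_option backward.defeqAttrib.useBackward true
set_option synthInstance.maxHeartbeats 400000
set_option maxHeartbeats 1000000

namespace Groth.LocCohZBase

variable {X : Scheme.{u}} (U : X.Opens)

theorem subsingleton_HZ_congr {T : TopCat.{u}} (F : CohTop.Ab T) (q : ℕ) {W V W' V' : Opens T}
    (hW : W = W') (hV : V = V') (h : W ≤ V) (h' : W' ≤ V')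
    (hs : Subsingleton (LocCohZ.HZ F q h)) : Subsingleton (LocCohZ.HZ F q h') := by
  subst hW hV
  exact hs

/-- Vanishing on an affine open below the length of a Koszul-regular sequence of equations. -/
theorem subsingleton_HZ_of_koszulRegular (M : X.Modules) [M.IsQuasicoherent] (hM : FlatMod.IsFlat M)
    (W : X.Opens) (hW : IsAffineOpen W) (fs : List Γ(X, W.ι ''ᵁ ⊤))
    (hreg : LCI.IsKoszulRegularSeq Γ(X, W.ι ''ᵁ ⊤) fs)
    (hU : ∀ x ∈ W, x ∈ U ↔ ∃ f ∈ fs, x ∈ X.basicOpen f) (i : ℕ) (hi : i < fs.length) :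
    Subsingleton (LocCohZ.HZ (X := X.toTopCat) (Coh.toAb M) i (inf_le_left : W ⊓ U ≤ W)) := by
  have hA : IsAffineOpen (W.ι ''ᵁ ⊤) := by rwa [Scheme.Opens.ι_image_top]
  have : IsAffine (W : Scheme.{u}) := hW
  obtain ⟨e, -⟩ : ∃ e : LocCohZ.HZ (X := X.toTopCat) (Coh.toAb M) i (inf_le_left : W ⊓ U ≤ W) ≃+
      LocCohZ.HZM (W : Scheme.{u}) (M.restrict W.ι) i (W.ι ⁻¹ᵁ (W ⊓ U)), True :=
    ⟨(exists_natural_addEquiv (inf_le_left : W ⊓ U ≤ W) i).choose (Coh.toAb M), trivial⟩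
  haveI : (M.restrict W.ι).IsQuasicoherent := Scheme.Modules.isQuasicoherent_restrictFunctor W.ι M
  let fs' : List Γ((W : Scheme.{u}), ⊤) := fs
  let _ : Module Γ((W : Scheme.{u}), ⊤) Γ(M, W.ι ''ᵁ ⊤) :=
    inferInstanceAs (Module Γ(X, W.ι ''ᵁ ⊤) Γ(M, W.ι ''ᵁ ⊤))
  haveI : Module.Flat Γ((W : Scheme.{u}), ⊤) Γ(M, W.ι ''ᵁ ⊤) := Groth.Misc8.PinchMod.flat_sections M hM hA
  let τ : Γ(M.restrict W.ι, ⊤) ≃ₗ[Γ((W : Scheme.{u}), ⊤)] Γ(M, W.ι ''ᵁ ⊤) :=
    { (AddEquiv.refl Γ(M, W.ι ''ᵁ ⊤)) with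
      map_smul' := fun r m => by
        change (M.restrictAppIso W.ι ⊤).hom (r • m) = r • (show Γ(M, W.ι ''ᵁ ⊤) from m)
        erw [Scheme.Modules.smul_restrictAppIso_hom_apply W.ι M ⊤ r m, Scheme.Opens.ι_appIso]
        rfl }
  haveI : Module.Flat Γ((W : Scheme.{u}), ⊤) Γ(M.restrict W.ι, ⊤) := Module.Flat.of_linearEquiv τ
  haveI : Module.Flat Γ((W : Scheme.{u}), ⊤)
      (ModuleCat.of Γ((W : Scheme.{u}), ⊤) ((M.restrict W.ι).val.obj (op ⊤))) :=
    ‹Module.Flat Γ((W : Scheme.{u}), ⊤) Γ(M.restrict W.ι, ⊤)›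
  have := subsingleton_koszulHLim_of_flat fs' hreg
    (ModuleCat.of Γ((W : Scheme.{u}), ⊤) ((M.restrict W.ι).val.obj (op ⊤))) i hi
  obtain ⟨b⟩ := nonempty_koszulHLim_equiv_HZM_affine (M.restrict W.ι) fs' i
  have hb : ∀ a : Γ((W : Scheme.{u}), ⊤), W.ι ''ᵁ ((W : Scheme.{u}).basicOpen a) =
      X.basicOpen (U := W.ι ''ᵁ ⊤) a := fun a => by
    rw [Scheme.image_basicOpen, Scheme.Opens.ι_appIso]; rfl
  have heq : (⨆ j : Fin fs'.length, (W : Scheme.{u}).basicOpen (fs'.get j)) = W.ι ⁻¹ᵁ (W ⊓ U) := by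
    refine le_antisymm (iSup_le fun j z hz => ?_) fun z hz => ?_
    · have hz' : z.1 ∈ X.basicOpen (U := W.ι ''ᵁ ⊤) (fs'.get j) := by
        rw [← hb]; exact ⟨z, hz, rfl⟩
      exact ⟨z.2, (hU z.1 z.2).2 ⟨_, List.get_mem _ j, hz'⟩⟩
    · obtain ⟨f, hf, hzf⟩ := (hU z.1 z.2).1 hz.2
      obtain ⟨j, rfl⟩ := List.mem_iff_get.1 hf
      refine Opens.mem_iSup.2 ⟨j, ?_⟩
      have hzf' : z.1 ∈ W.ι ''ᵁ ((W : Scheme.{u}).basicOpen (fs'.get j)) := by
        rw [hb]; exact hzf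
      obtain ⟨z', hz', hzz⟩ := hzf'
      obtain rfl : z' = z := Subtype.ext hzz
      exact hz'
  rw [heq] at b
  exact (e.trans b.symm).toEquiv.subsingleton

variable (c : ℕ)

/-- `Z` is locally cut out by a Koszul-regular sequence of length `c`. -/
def HasKoszulEquations : Prop :=
  ∀ x : X, ∃ (V : X.Opens) (fs : List Γ(X, V)), x ∈ V ∧ IsAffineOpen V ∧ fs.length = c ∧
      LCI.IsKoszulRegularSeq Γ(X, V) fs ∧
      X.zeroLocus (U := V) {a | a ∈ fs} ∩ (V : Set ↥X) = (U : Set ↥X)ᶜ ∩ (V : Set ↥X)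

variable {U c}

theorem hasEquations_of_hasKoszulEquations (hZ : HasKoszulEquations U c) : HasEquations U c := by
  classical
  intro x
  obtain ⟨V, fs, hx, -, hlen, -, heq⟩ := hZ x
  refine ⟨V, fs.toFinset, hx, (List.toFinset_card_le fs).trans hlen.le, ?_⟩
  rw [List.coe_toFinset]
  exact heq

theorem exists_nbhd_subsingleton_HZ (hZ : HasKoszulEquations U c) (M : X.Modules) [M.IsQuasicoherent]
    (hM : FlatMod.IsFlat M) (i : ℕ) (hi : i < c) (V' : X.Opens) (y : X) (hy : y ∈ V') :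
    ∃ W : X.Opens, W ≤ V' ∧ y ∈ W ∧
      Subsingleton (LocCohZ.HZ (X := X.toTopCat) (Coh.toAb M) i (inf_le_left : W ⊓ U ≤ W)) := by
  obtain ⟨V, fs, hyV, hV, hlen, hreg, heq⟩ := hZ y
  obtain ⟨W, hW, hyW, hle⟩ := exists_isAffineOpen_mem_and_subset (x := y) (U := V' ⊓ V) ⟨hy, hyV⟩
  refine ⟨W, fun z hz => (hle hz).1, hyW, ?_⟩
  have hWV : W.ι ''ᵁ ⊤ ≤ V := by rw [Scheme.Opens.ι_image_top]; exact fun z hz => (hle hz).2
  have hA : IsAffineOpen (W.ι ''ᵁ ⊤) := by rwa [Scheme.Opens.ι_image_top]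
  let θ : Γ(X, V) →+* Γ(X, W.ι ''ᵁ ⊤) := (X.presheaf.map (homOfLE hWV).op).hom
  have hθ : θ.Flat := by
    have := Scheme.Hom.flat_appLE (𝟙 X) hV hA (show W.ι ''ᵁ ⊤ ≤ 𝟙 X ⁻¹ᵁ V from hWV)
    simpa [Scheme.Hom.appLE, θ] using this
  refine subsingleton_HZ_of_koszulRegular U M hM W hW (fs.map θ)
    (Groth.KoszulReg.isKoszulRegularSeq_map θ hθ fs hreg) (fun z hz => ?_) i (by rwa [List.length_map, hlen])
  have hzV : z ∈ V := (hle hz).2
  have hzW : z ∈ W.ι ''ᵁ ⊤ := by rwa [Scheme.Opens.ι_image_top]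
  have h' := Set.ext_iff.1 heq z
  simp only [Set.mem_inter_iff, Scheme.mem_zeroLocus_iff, Set.mem_compl_iff, SetLike.mem_coe, hzV,
    and_true, Set.mem_setOf_eq] at h'
  have hb : ∀ f, z ∈ X.basicOpen (θ f) ↔ z ∈ X.basicOpen f := fun f => by
    rw [show X.basicOpen (θ f) = W.ι ''ᵁ ⊤ ⊓ X.basicOpen f from X.basicOpen_res f (homOfLE hWV).op]
    exact ⟨fun h => h.2, fun h => ⟨hzW, h⟩⟩
  constructor
  · intro hzU
    by_contra hne
    exact h'.1 (fun f hf hzf => hne ⟨θ f, List.mem_map.2 ⟨f, hf, rfl⟩, (hb f).2 hzf⟩) hzU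
  · rintro ⟨g, hg, hzg⟩
    obtain ⟨f, hf, rfl⟩ := List.mem_map.1 hg
    by_contra hzU
    exact h'.2 hzU f hf ((hb f).1 hzg)

variable [HasInjectiveResolutions X.Modules]

theorem isZero_rightDerived_gammaZ_lt (hZ : HasKoszulEquations U c) (M : X.Modules) [M.IsQuasicoherent]
    (hM : FlatMod.IsFlat M) (i : ℕ) (hi : i < c) :
    IsZero (((DCoh.gammaZ U.ι).rightDerived i).obj M) := by
  have h : U ≤ (⊤ : X.Opens) := le_top
  haveI := preservesFiniteLimits_sectSuppLC (X := X.carrier) h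
  obtain ⟨a⟩ := nonempty_toAb_rightDerived_suppMod (Y := X) h M i
  obtain ⟨b⟩ := nonempty_HZshLC_iso (X := X.carrier) h (Coh.toAb M) i
  have h0 : IsZero ((Groth.CohBase.toAbF X).obj
      (((suppMod (V₂ := U) (V₁ := (⊤ : X.Opens))).rightDerived i).obj M)) := by
    refine IsZero.of_iso ?_ (a ≪≫ b)
    refine Groth.AdicLinTop.RpushVanish.isZero_sheafify_of_locally fun V' y hy => ?_
    obtain ⟨W, hle, hyW, hs⟩ := exists_nbhd_subsingleton_HZ hZ M hM i hi V' y hy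
    refine ⟨W, hle, hyW, ?_⟩
    exact subsingleton_HZ_congr (T := X.toTopCat) (Coh.toAb M) i (inf_comm W U) (top_inf_eq W).symm _ _ hs
  haveI : (Groth.CohBase.toAbF X).Faithful :=
    inferInstanceAs (SheafOfModules.toSheaf.{u} X.ringCatSheaf).Faithful
  have h1 : IsZero (((suppMod (V₂ := U) (V₁ := (⊤ : X.Opens))).rightDerived i).obj M) := by
    rw [IsZero.iff_id_eq_zero]
    exact (Groth.CohBase.toAbF X).map_injective (h0.eq_of_src _ _)
  haveI : ∀ F : X.Modules, IsIso ((Scheme.Modules.restrictAdjunction (⊤ : X.Opens).ι).unit.app F) := fun F =>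
    Groth.CohTwo.isIso_of_app_bijective _ fun W => by
      have e := Groth.CohTwo.image_preimage_of_le (⊤ : X.Opens).ι (W := W)
        (by rw [Scheme.Opens.opensRange_ι]; exact le_top)
      exact Function.bijective_iff_has_inverse.2 ⟨fun (b : Γ(F, (⊤ : X.Opens).ι ''ᵁ ((⊤ : X.Opens).ι ⁻¹ᵁ W))) =>
        Groth.CohTwo.res F e.ge b, fun a => res_cancel F e.ge e.le a, fun b => res_cancel F e.le e.ge b⟩
  haveI : IsIso (Scheme.Modules.restrictAdjunction (⊤ : X.Opens).ι).unit := NatIso.isIso_of_isIso_app _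
  let ε : DCoh.gammaZ U.ι ≅ suppMod (V₂ := U) (V₁ := (⊤ : X.Opens)) :=
    (Functor.leftUnitor _).symm ≪≫
      Functor.isoWhiskerRight (asIso (Scheme.Modules.restrictAdjunction (⊤ : X.Opens).ι).unit) _
  let ε' : (DCoh.gammaZ U.ι).rightDerived i ≅ (suppMod (V₂ := U) (V₁ := (⊤ : X.Opens))).rightDerived i :=
    { hom := NatTrans.rightDerived ε.hom i
      inv := NatTrans.rightDerived ε.inv i
      hom_inv_id := by rw [← NatTrans.rightDerived_comp, Iso.hom_inv_id, NatTrans.rightDerived_id]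
      inv_hom_id := by rw [← NatTrans.rightDerived_comp, Iso.inv_hom_id, NatTrans.rightDerived_id] }
  exact h1.of_iso (ε'.app M)

/-- `ℋ^i_Z(M) = 0` for `i ≠ c`. -/
theorem isZero_rightDerived_gammaZ_ne (hZ : HasKoszulEquations U c) (M : X.Modules) [M.IsQuasicoherent]
    (hM : FlatMod.IsFlat M) (i : ℕ) (hi : i ≠ c) :
    IsZero (((DCoh.gammaZ U.ι).rightDerived i).obj M) := by
  rcases lt_or_gt_of_ne hi with h | h
  · exact isZero_rightDerived_gammaZ_lt hZ M hM i h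
  · exact isZero_rightDerived_gammaZ (hasEquations_of_hasKoszulEquations hZ) M i h

end Groth.LocCohZBase
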