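import Groth.Agent.LocCohZBase.ExtSeq
import Mathlib.Topology.Sheaves.MayerVietoris
import Mathlib.CategoryTheory.Abelian.Refinements

/-!
# The Mayer–Vietoris sequence of cohomology with supports
-/

universe u v w

open CategoryTheory CategoryTheory.Limits TopologicalSpace

namespace Groth.LocCohZBase

section Cat

variable {A : Type u} [Category.{v} A] [Abelian A]

/-- Cokernels of a morphism of short exact sequences whose last component is a monomorphism. -/
theorem shortExact_of_cokernels {S T Q : ShortComplex A} (hS : S.ShortExact) (hT : T.ShortExact)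
    (φ : S ⟶ T) [Mono φ.τ₃] (π : T ⟶ Q)
    (h₁ : ∃ w : φ.τ₁ ≫ π.τ₁ = 0, Nonempty (IsColimit (CokernelCofork.ofπ π.τ₁ w)))
    (h₂ : ∃ w : φ.τ₂ ≫ π.τ₂ = 0, Nonempty (IsColimit (CokernelCofork.ofπ π.τ₂ w)))
    (h₃ : ∃ w : φ.τ₃ ≫ π.τ₃ = 0, Nonempty (IsColimit (CokernelCofork.ofπ π.τ₃ w))) :
    Q.ShortExact := by
  obtain ⟨w₁, ⟨c₁⟩⟩ := h₁
  obtain ⟨w₂, ⟨c₂⟩⟩ := h₂
  obtain ⟨w₃, ⟨c₃⟩⟩ := h₃
  have e₁ : Epi π.τ₁ := Cofork.IsColimit.epi c₁
  have e₂ : Epi π.τ₂ := Cofork.IsColimit.epi c₂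
  have e₃ : Epi π.τ₃ := Cofork.IsColimit.epi c₃
  have hTg := hT.epi_g
  have hSg := hS.epi_g
  have hTf := hT.mono_f
  have hepi : Epi Q.g := by
    have : Epi (π.τ₂ ≫ Q.g) := by rw [π.comm₂₃]; exact epi_comp _ _
    exact epi_of_epi π.τ₂ Q.g
  have hc : IsColimit (CokernelCofork.ofπ Q.g Q.zero) :=
    CokernelCofork.IsColimit.ofπ' _ _ fun {W} t ht => by
      have h0 : T.f ≫ π.τ₂ ≫ t = 0 := by rw [← reassoc_of% π.comm₁₂, ht, comp_zero]
      obtain ⟨s, hs⟩ := CokernelCofork.IsColimit.desc' hT.gIsCokernel (π.τ₂ ≫ t) h0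
      change T.g ≫ s = π.τ₂ ≫ t at hs
      have hs0 : φ.τ₃ ≫ s = 0 := by
        rw [← cancel_epi S.g, ← reassoc_of% φ.comm₂₃, hs, reassoc_of% w₂, zero_comp, comp_zero]
      obtain ⟨l, hl⟩ := CokernelCofork.IsColimit.desc' c₃ s hs0
      change π.τ₃ ≫ l = s at hl
      refine ⟨l, ?_⟩
      rw [← cancel_epi π.τ₂, reassoc_of% π.comm₂₃, hl, hs]
  have hmono : Mono Q.f := by
    refine Preadditive.mono_of_cancel_zero _ fun {W} x hx => ?_
    obtain ⟨W', p, hp, a, ha⟩ := surjective_up_to_refinements_of_epi π.τ₁ x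
    have hex : (ShortComplex.mk φ.τ₂ π.τ₂ w₂).Exact := ShortComplex.exact_of_g_is_cokernel _ c₂
    obtain ⟨W'', q, hq, b, hb⟩ := hex.exact_up_to_refinements (a ≫ T.f) (by
      change (a ≫ T.f) ≫ π.τ₂ = 0
      rw [Category.assoc, ← π.comm₁₂, ← reassoc_of% ha, hx, comp_zero])
    change q ≫ a ≫ T.f = b ≫ φ.τ₂ at hb
    obtain ⟨c, hc'⟩ := KernelFork.IsLimit.lift' hS.fIsKernel b (by
      rw [← cancel_mono φ.τ₃, Category.assoc, ← φ.comm₂₃, ← reassoc_of% hb, T.zero]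
      simp)
    change c ≫ S.f = b at hc'
    have h : q ≫ a = c ≫ φ.τ₁ := by
      rw [← cancel_mono T.f, Category.assoc, hb, ← hc', Category.assoc, Category.assoc, φ.comm₁₂]
    rw [← cancel_epi p, ← cancel_epi q, ha, reassoc_of% h, w₁]
    simp
  exact ⟨ShortComplex.exact_of_g_is_cokernel _ hc⟩

theorem biprod_map_cokernel {P P' Q Q' : A} (a : P ⟶ Q) (b : P' ⟶ Q') :
    ∃ w : biprod.map a b ≫ biprod.map (cokernel.π a) (cokernel.π b) = 0,
      Nonempty (IsColimit (CokernelCofork.ofπ (biprod.map (cokernel.π a) (cokernel.π b)) w)) := by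
  have w : biprod.map a b ≫ biprod.map (cokernel.π a) (cokernel.π b) = 0 := by
    apply biprod.hom_ext' <;> simp
  refine ⟨w, ⟨CokernelCofork.IsColimit.ofπ' _ _ fun {W} t ht => ?_⟩⟩
  have h₁ := congrArg (biprod.inl ≫ ·) ht
  have h₂ := congrArg (biprod.inr ≫ ·) ht
  refine ⟨biprod.desc (cokernel.desc a (biprod.inl ≫ t) ?_)
    (cokernel.desc b (biprod.inr ≫ t) ?_), ?_⟩
  · simpa using h₁
  · simpa using h₂
  · apply biprod.hom_ext' <;> simp

end Cat

open CategoryTheory.Abelian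

variable {X : TopCat.{w}} (U U' : Opens X)

/-- `ℤ_U ⟶ ℤ_X`. -/
noncomputable abbrev toTop (U : Opens X) :=
  CohCx.freeSheafMap (Opens.grothendieckTopology X) (homOfLE (le_top : U ≤ ⊤))

/-- `ℤ_W ⟶ ℤ_V`. -/
noncomputable abbrev fm {W V : Opens X} (h : W ≤ V) :=
  CohCx.freeSheafMap (Opens.grothendieckTopology X) (homOfLE h)

theorem fm_toTop {W V : Opens X} (h : W ≤ V) : fm h ≫ toTop V = toTop W := by
  rw [← CohFree.freeSheafMap_comp]
  rfl

/-- The change of support maps between the sheaves `ℤ_X/ℤ_U`. -/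
noncomputable abbrev zm {W V : Opens X} (h : W ≤ V) :
    LocCohZ.zq (le_top : W ≤ ⊤) ⟶ LocCohZ.zq (le_top : V ≤ ⊤) :=
  LocCohZ.zqMap (le_top : V ≤ ⊤) (le_top : W ≤ ⊤) h le_rfl

theorem π_zm {W V : Opens X} (h : W ≤ V) :
    cokernel.π (toTop W) ≫ zm h = cokernel.π (toTop V) := by
  refine (cokernel.π_desc _ _ _).trans ?_
  rw [show homOfLE (le_refl (⊤ : Opens X)) = 𝟙 _ from rfl, CohFree.freeSheafMap_id, Category.id_comp]

/-- `ℤ_X/ℤ_{U∩U'} ⟶ ℤ_X/ℤ_U ⊕ ℤ_X/ℤ_{U'} ⟶ ℤ_X/ℤ_{U∪U'}`. -/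
noncomputable abbrev mvSeq : ShortComplex (CohTop.Ab X) :=
  ShortComplex.mk (biprod.lift (zm (inf_le_left : U ⊓ U' ≤ U)) (-zm (inf_le_right : U ⊓ U' ≤ U')))
    (biprod.desc (zm (le_sup_left : U ≤ U ⊔ U')) (zm (le_sup_right : U' ≤ U ⊔ U'))) (by
      rw [biprod.lift_desc, Preadditive.neg_comp, ← sub_eq_add_neg, sub_eq_zero]
      rw [← cancel_epi (cokernel.π (toTop (U ⊓ U'))), reassoc_of% π_zm, π_zm,
        reassoc_of% π_zm, π_zm])

/-- The constant sequence. -/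
noncomputable abbrev topSeq : ShortComplex (CohTop.Ab X) :=
  ShortComplex.mk
    (biprod.lift (𝟙 (CohCx.freeSheaf (Opens.grothendieckTopology X) (⊤ : Opens X))) (-𝟙 _))
    (biprod.desc (𝟙 _) (𝟙 _)) (by simp)

theorem topSeq_shortExact : (topSeq (X := X)).ShortExact :=
  ShortComplex.Splitting.shortExact
    { r := biprod.fst
      s := biprod.inr
      f_r := by simp
      s_g := by simp
      id := by apply biprod.hom_ext' <;> apply biprod.hom_ext <;> simp }

/-- The free Mayer–Vietoris sequence. -/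
noncomputable abbrev freeSeq : ShortComplex (CohTop.Ab X) :=
  ShortComplex.mk (biprod.lift (fm (inf_le_left : U ⊓ U' ≤ U)) (-fm (inf_le_right : U ⊓ U' ≤ U')))
    (biprod.desc (fm (le_sup_left : U ≤ U ⊔ U')) (fm (le_sup_right : U' ≤ U ⊔ U'))) (by
      rw [biprod.lift_desc, Preadditive.neg_comp, ← sub_eq_add_neg, sub_eq_zero,
        ← CohFree.freeSheafMap_comp, ← CohFree.freeSheafMap_comp]
      rfl)

theorem mvSeq_shortExact : (mvSeq U U').ShortExact := by
  have hS : (freeSeq U U').ShortExact := (Opens.mayerVietorisSquare U U').shortComplex_shortExact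
  let φ : freeSeq U U' ⟶ topSeq (X := X) :=
    { τ₁ := toTop (U ⊓ U')
      τ₂ := biprod.map (toTop U) (toTop U')
      τ₃ := toTop (U ⊔ U')
      comm₁₂ := by
        apply biprod.hom_ext <;>
          simp only [Category.assoc, biprod.lift_fst, biprod.lift_snd, biprod.map_fst,
            biprod.map_snd, biprod.lift_fst_assoc, biprod.lift_snd_assoc, Preadditive.comp_neg,
            Preadditive.neg_comp, Category.comp_id, fm_toTop]
      comm₂₃ := by
        apply biprod.hom_ext' <;>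
          simp only [biprod.inl_map_assoc, biprod.inr_map_assoc, biprod.inl_desc, biprod.inr_desc,
            biprod.inl_desc_assoc, biprod.inr_desc_assoc, Category.comp_id, fm_toTop] }
  let π : topSeq (X := X) ⟶ mvSeq U U' :=
    { τ₁ := cokernel.π (toTop (U ⊓ U'))
      τ₂ := biprod.map (cokernel.π (toTop U)) (cokernel.π (toTop U'))
      τ₃ := cokernel.π (toTop (U ⊔ U'))
      comm₁₂ := by
        dsimp only [mvSeq]
        apply biprod.hom_ext <;>
          simp only [Category.assoc, biprod.lift_fst, biprod.lift_snd, biprod.map_fst,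
            biprod.map_snd, biprod.lift_fst_assoc, biprod.lift_snd_assoc, Preadditive.comp_neg,
            Preadditive.neg_comp, Category.id_comp, π_zm]
      comm₂₃ := by
        dsimp only [mvSeq]
        apply biprod.hom_ext' <;>
          simp only [biprod.inl_map_assoc, biprod.inr_map_assoc, biprod.inl_desc, biprod.inr_desc,
            biprod.inl_desc_assoc, biprod.inr_desc_assoc, Category.id_comp, π_zm] }
  have hm : Mono φ.τ₃ := inferInstanceAs (Mono (toTop (U ⊔ U')))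
  refine shortExact_of_cokernels hS topSeq_shortExact φ π ⟨cokernel.condition _, ⟨cokernelIsCokernel _⟩⟩
    (biprod_map_cokernel (toTop U) (toTop U')) ⟨cokernel.condition _, ⟨cokernelIsCokernel _⟩⟩

variable (F : CohTop.Ab X)

/-- The pair of restrictions. -/
noncomputable def pairMap (i : ℕ) :
    LocCohZ.HZc F i (U ⊔ U') →+ LocCohZ.HZc F i U × LocCohZ.HZc F i U' :=
  (LocCohZ.resZ F i (le_top : U ⊔ U' ≤ ⊤) (le_top : U ≤ ⊤) le_sup_left le_rfl).prod
    (LocCohZ.resZ F i (le_top : U ⊔ U' ≤ ⊤) (le_top : U' ≤ ⊤) le_sup_right le_rfl)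

theorem biprod_g (i : ℕ) (x : LocCohZ.HZc F i (U ⊔ U')) :
    Ext.biprodAddEquiv ((Ext.mk₀ (mvSeq U U').g).comp x (zero_add i)) = pairMap U U' F i x := by
  apply Prod.ext
  · change (Ext.mk₀ biprod.inl).comp ((Ext.mk₀ (biprod.desc _ _)).comp x (zero_add i)) (zero_add i) = _
    rw [Ext.mk₀_comp_mk₀_assoc, biprod.inl_desc]
    rfl
  · change (Ext.mk₀ biprod.inr).comp ((Ext.mk₀ (biprod.desc _ _)).comp x (zero_add i)) (zero_add i) = _
    rw [Ext.mk₀_comp_mk₀_assoc, biprod.inr_desc]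
    rfl

theorem biprod_f (i : ℕ) (y : Ext (mvSeq U U').X₂ F i) :
    (Ext.mk₀ (mvSeq U U').f).comp y (zero_add i) =
      LocCohZ.resZ F i (le_top : U ≤ ⊤) (le_top : U ⊓ U' ≤ ⊤) inf_le_left le_rfl
          (Ext.biprodAddEquiv y).1 -
        LocCohZ.resZ F i (le_top : U' ≤ ⊤) (le_top : U ⊓ U' ≤ ⊤) inf_le_right le_rfl
          (Ext.biprodAddEquiv y).2 := by
  have e : (mvSeq U U').f = zm (inf_le_left : U ⊓ U' ≤ U) ≫ biprod.inl -
      zm (inf_le_right : U ⊓ U' ≤ U') ≫ biprod.inr := by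
    apply biprod.hom_ext <;> simp [mvSeq]
  change _ = (Ext.mk₀ _).comp ((Ext.mk₀ biprod.inl).comp y (zero_add i)) (zero_add i) -
    (Ext.mk₀ _).comp ((Ext.mk₀ biprod.inr).comp y (zero_add i)) (zero_add i)
  rw [Ext.mk₀_comp_mk₀_assoc, Ext.mk₀_comp_mk₀_assoc, e, sub_eq_add_neg, Ext.mk₀_add, Ext.add_comp,
    Ext.mk₀_neg, Ext.neg_comp, ← sub_eq_add_neg]

theorem mayer_vietoris :
    Function.Injective (pairMap U U' F 0) ∧
    ∃ δ : ∀ i : ℕ, LocCohZ.HZc F i (U ⊓ U') →+ LocCohZ.HZc F (i + 1) (U ⊔ U'),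
      ∀ i : ℕ,
        (∀ y : LocCohZ.HZc F i U × LocCohZ.HZc F i U',
          LocCohZ.resZ F i (le_top : U ≤ ⊤) (le_top : U ⊓ U' ≤ ⊤) inf_le_left le_rfl y.1 -
              LocCohZ.resZ F i (le_top : U' ≤ ⊤) (le_top : U ⊓ U' ≤ ⊤) inf_le_right le_rfl y.2 = 0 ↔
            ∃ x : LocCohZ.HZc F i (U ⊔ U'), pairMap U U' F i x = y) ∧
        (∀ w : LocCohZ.HZc F i (U ⊓ U'),
          δ i w = 0 ↔ ∃ y : LocCohZ.HZc F i U × LocCohZ.HZc F i U',
            LocCohZ.resZ F i (le_top : U ≤ ⊤) (le_top : U ⊓ U' ≤ ⊤) inf_le_left le_rfl y.1 -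
              LocCohZ.resZ F i (le_top : U' ≤ ⊤) (le_top : U ⊓ U' ≤ ⊤) inf_le_right le_rfl y.2 = w) ∧
        (∀ x : LocCohZ.HZc F (i + 1) (U ⊔ U'),
          pairMap U U' F (i + 1) x = 0 ↔ ∃ w : LocCohZ.HZc F i (U ⊓ U'), δ i w = x) := by
  have hS := mvSeq_shortExact U U'
  refine ⟨?_, fun i => hS.extClass.precomp F (by omega), fun i => ⟨fun y => ?_, fun w => ?_, fun x => ?_⟩⟩
  · rw [injective_iff_map_eq_zero]
    intro x hx
    obtain ⟨f, rfl⟩ := (Ext.mk₀_bijective _ _).2 x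
    have h0 := (biprod_g U U' F 0 (Ext.mk₀ f)).trans hx
    rw [AddEquiv.map_eq_zero_iff] at h0
    have := hS.epi_g
    change (Ext.mk₀ (mvSeq U U').g).comp (Ext.mk₀ f) (zero_add 0) = 0 at h0
    rw [Ext.mk₀_comp_mk₀, ← Ext.mk₀_zero] at h0
    exact (congrArg Ext.mk₀ ((cancel_epi (mvSeq U U').g).1
      (((Ext.mk₀_bijective _ _).1 h0).trans comp_zero.symm))).trans (Ext.mk₀_zero _ _)
  · obtain ⟨z, rfl⟩ := Ext.biprodAddEquiv.surjective y
    rw [← biprod_f]
    constructor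
    · intro hz
      obtain ⟨x, rfl⟩ := Ext.contravariant_sequence_exact₂ hS F z hz
      exact ⟨x, (biprod_g U U' F i x).symm⟩
    · rintro ⟨x, hx⟩
      rw [← biprod_g] at hx
      rw [← Ext.biprodAddEquiv.injective hx, Ext.mk₀_comp_mk₀_assoc, ShortComplex.zero, Ext.mk₀_zero,
        Ext.zero_comp]
  · constructor
    · intro hw
      obtain ⟨z, rfl⟩ := Ext.contravariant_sequence_exact₁ hS F w (by omega) hw
      exact ⟨Ext.biprodAddEquiv z, (biprod_f U U' F i z).symm⟩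
    · rintro ⟨y, rfl⟩
      obtain ⟨z, rfl⟩ := Ext.biprodAddEquiv.surjective y
      rw [← biprod_f]
      exact hS.extClass_comp_assoc z (h := by omega)
  · constructor
    · intro hx
      rw [← biprod_g, AddEquiv.map_eq_zero_iff] at hx
      exact Ext.contravariant_sequence_exact₃ hS F x hx (by omega)
    · rintro ⟨w, rfl⟩
      rw [← biprod_g, AddEquiv.map_eq_zero_iff]
      exact hS.comp_extClass_assoc w (h := by omega)

end Groth.LocCohZBase
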