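import Groth.Agent.SitesTopoi.Mod.ExtZeroFlat
import Groth.Agent.SitesTopoi.Mod.TensorExact
import Groth.Agent.LocCohZBase.SectSupp
import Groth.Prelude.Def_ExtSupp

/-!
# `M ↦ M/M_U` is exact and left adjoint to sections with supports
-/

universe u

open CategoryTheory CategoryTheory.Limits Opposite
open Groth.SitesTopoi.ModH

namespace Groth.LocCohZBase

variable {C : Type u} [SmallCategory C] {J : GrothendieckTopology C} {O : Sheaf J CommRingCat.{u}} (U : C)

/-- Sections that locally are zero or live on objects over `U`. -/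
def GenOn (G : ModSite.Mod O) {V : C} (s : sc G.val V) : Prop :=
  ∃ S ∈ J V, ∀ ⦃V' : C⦄ (g : V' ⟶ V), S g → rsm G.val g s = 0 ∨ Nonempty (V' ⟶ U)

theorem genOn_extZero (N : ModSite.Mod (O.over U)) {V : C} (x : sc ((ModSite.extZero O U).obj N).val V) :
    GenOn U ((ModSite.extZero O U).obj N) x := by
  obtain ⟨S, hS, h⟩ := locSurj_etaP (pexObj N.val) V (apm ((extZeroIso (O := O) U).inv.app N).val V x)
  refine ⟨S, hS, fun V' g hg => ?_⟩
  by_cases hne : Nonempty (V' ⟶ U)
  · exact Or.inr hne
  refine Or.inl ?_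
  obtain ⟨m, hm⟩ := h g hg
  have hm0 : m = 0 := pex_ext N.val fun b => absurd ⟨b⟩ hne
  rw [hm0] at hm
  refine injective_of_mono ((extZeroIso (O := O) U).inv.app N) V' ?_
  rw [apm_rsm, map_zero]
  exact hm.symm.trans (map_zero _)

theorem genOn_apm {G H : ModSite.Mod O} (f : G ⟶ H) {V : C} (x : sc G.val V) (hx : GenOn U G x) :
    GenOn U H (apm f.val V x) := by
  obtain ⟨S, hS, h⟩ := hx
  refine ⟨S, hS, fun V' g hg => (h g hg).imp (fun e => ?_) id⟩
  rw [← apm_rsm, e, map_zero]

theorem isLocSurj_quotOnπ (F : ModSite.Mod O) : LocSurj ((ModSite.quotOnπ O U).app F).val := by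
  refine (locSurj_iff _).2 ?_
  have h1 : Epi ((ModSite.quotOnπ O U).app F) := (ExtSupp.openSeq_exact U F).2
  have : Epi ((SheafOfModules.toSheaf.{u} (ModSite.ringSh O)).map ((ModSite.quotOnπ O U).app F)) :=
    inferInstance
  exact (Sheaf.isLocallySurjective_iff_epi' AddCommGrpCat.{u}
    ((SheafOfModules.toSheaf.{u} (ModSite.ringSh O)).map ((ModSite.quotOnπ O U).app F))).2 this

/-- The kernel of `G ⟶ G/G_U` is generated on `U`. -/
theorem genOn_of_quotOnπ_eq_zero (G : ModSite.Mod O) {V : C} (w : sc G.val V)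
    (hw : apm ((ModSite.quotOnπ O U).app G).val V w = 0) : GenOn U G w := by
  have hex := (ExtSupp.openSeq_exact U G).1.map (SheafOfModules.toSheaf.{u} (ModSite.ringSh O))
  have hcov := (exact_iff_imageSieve_mem _).1 hex V w hw
  choose x hx using fun (V' : C) (g : V' ⟶ V)
    (hg : Presheaf.imageSieve ((ExtSupp.openSeq U G).map (SheafOfModules.toSheaf.{u} (ModSite.ringSh O))).f.hom w g) => hg
  have hgen : ∀ (V' : C) (g : V' ⟶ V)
    (hg : Presheaf.imageSieve ((ExtSupp.openSeq U G).map (SheafOfModules.toSheaf.{u} (ModSite.ringSh O))).f.hom w g),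
      GenOn U G (rsm G.val g w) := fun V' g hg => by
    have e : apm ((ModSite.extZeroAdj O U).counit.app G).val V' (x V' g hg) = rsm G.val g w := hx V' g hg
    rw [← e]
    exact genOn_apm U _ _ (genOn_extZero U _ _)
  choose T hT hT' using hgen
  refine ⟨Sieve.bind (Presheaf.imageSieve
      ((ExtSupp.openSeq U G).map (SheafOfModules.toSheaf.{u} (ModSite.ringSh O))).f.hom w)
      (fun V' g hg => T V' g hg),
    J.bind_covering hcov fun V' g hg => hT V' g hg, ?_⟩
  rintro V'' _ ⟨V', k, g, hg, hk, rfl⟩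
  exact (hT' V' g hg k hk).imp (fun e => by rwa [rsm_rsm] at e) id

variable [ModSite.HasPushOver O U]

theorem mono_quotOn_map {F G : ModSite.Mod O} (f : F ⟶ G) [Mono f] :
    Mono ((ModSite.quotOn O U).map f) := by
  refine mono_of_injective _ fun V => (injective_iff_map_eq_zero _).2 fun z hz => ?_
  obtain ⟨S, hS, h⟩ := isLocSurj_quotOnπ U F V z
  refine sec_extM _ hS fun V' g hg => ?_
  obtain ⟨s, hs⟩ := h g hg
  rw [map_zero, ← hs]
  have hfs : apm ((ModSite.quotOnπ O U).app G).val V' (apm f.val V' s) = 0 := by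
    have e : apm ((ModSite.quotOn O U).map f).val V' (apm ((ModSite.quotOnπ O U).app F).val V' s) =
        apm ((ModSite.quotOnπ O U).app G).val V' (apm f.val V' s) :=
      congrArg (fun φ : F ⟶ (ModSite.quotOn O U).obj G => apm φ.val V' s)
        ((ModSite.quotOnπ O U).naturality f).symm
    rw [← e, hs, apm_rsm]
    exact (congrArg (rsm _ g) hz).trans (map_zero _)
  obtain ⟨T, hT, hgen⟩ := genOn_of_quotOnπ_eq_zero U G _ hfs
  refine sec_extM _ hT fun V'' k hk => ?_
  rw [map_zero, ← apm_rsm]
  rcases hgen k hk with e | ⟨⟨φ⟩⟩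
  · rw [← apm_rsm] at e
    have : rsm F.val k s = 0 := injective_of_mono f V'' (e.trans (map_zero _).symm)
    exact (congrArg (apm ((ModSite.quotOnπ O U).app F).val V'') this).trans (map_zero _)
  · exact (ExtSupp.isNullOn_iff O U _).1 (ExtSupp.isNullOn_quotOn O U F) φ _

theorem restr_sectOnι (N : ModSite.Mod O) :
    (ModSite.restr O U).map ((ModSite.sectOnι O U).app N) = 0 := by
  let adj := ModSite.restrPushOverAdj O U
  let k := (ModSite.sectOnι O U).app N
  have e : k ≫ adj.unit.app N = 0 := kernel.condition _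
  have h1 : (ModSite.restr O U).map (k ≫ adj.unit.app N) ≫ adj.counit.app _ = 0 := by
    rw [e, Functor.map_zero, zero_comp]
  refine Eq.trans ?_ h1
  refine Eq.trans (Category.comp_id _).symm ?_
  refine Eq.trans (congrArg ((ModSite.restr O U).map k ≫ ·) (adj.left_triangle_components N).symm) ?_
  exact (Category.assoc _ _ _).symm.trans
    (congrArg (· ≫ adj.counit.app _) ((ModSite.restr O U).map_comp _ _).symm)

theorem comp_unit_eq_zero_iff {M N : ModSite.Mod O} (φ : M ⟶ N) :
    φ ≫ (ModSite.restrPushOverAdj O U).unit.app N = 0 ↔ (ModSite.restr O U).map φ = 0 := by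
  let adj := ModSite.restrPushOverAdj O U
  constructor
  · intro h
    have e : φ = kernel.lift (adj.unit.app N) φ h ≫ (ModSite.sectOnι O U).app N := (kernel.lift_ι _ _ _).symm
    rw [e]
    exact ((ModSite.restr O U).map_comp _ _).trans
      ((congrArg (_ ≫ ·) (restr_sectOnι U N)).trans comp_zero)
  · intro h
    have : (ModSite.pushOver O U).Additive := Adjunction.right_adjoint_additive adj
    refine (adj.unit.naturality φ).trans ?_
    show _ ≫ (ModSite.pushOver O U).map ((ModSite.restr O U).map φ) = 0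
    rw [h, Functor.map_zero, comp_zero]

/-- `Hom(M/M_U, N) = Hom(M, Γ_Z N)`. -/
noncomputable def quotSectEquiv (M N : ModSite.Mod O) :
    ((ModSite.quotOn O U).obj M ⟶ N) ≃+ (M ⟶ (ModSite.sectOn O U).obj N) where
  toFun f := kernel.lift _ ((ModSite.quotOnπ O U).app M ≫ f) ((comp_unit_eq_zero_iff U _).2
    ((ExtSupp.mem_homZ_iff U _).2 (by
      exact (Category.assoc _ _ _).symm.trans ((congrArg (· ≫ f) (cokernel.condition _)).trans zero_comp))))
  invFun g := cokernel.desc _ (g ≫ (ModSite.sectOnι O U).app N) ((ExtSupp.mem_homZ_iff U _).1 (by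
    show (ModSite.restr O U).map _ = 0
    rw [Functor.map_comp, restr_sectOnι, comp_zero]))
  left_inv f := by
    apply coequalizer.hom_ext
    refine (cokernel.π_desc _ _ _).trans ?_
    exact kernel.lift_ι _ _ _
  right_inv g := by
    apply equalizer.hom_ext
    refine (kernel.lift_ι _ _ _).trans ?_
    exact cokernel.π_desc _ _ _
  map_add' f g := by
    apply equalizer.hom_ext
    refine (kernel.lift_ι _ _ _).trans ?_
    refine (Preadditive.comp_add _ _ _ _ _ _).trans ((congrArg₂ (· + ·) ?_ ?_).trans (Preadditive.add_comp _ _ _ _ _ _).symm)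
    · exact (kernel.lift_ι _ _ _).symm
    · exact (kernel.lift_ι _ _ _).symm

theorem quotSectEquiv_ι {M N : ModSite.Mod O} (f : (ModSite.quotOn O U).obj M ⟶ N) :
    quotSectEquiv U M N f ≫ (ModSite.sectOnι O U).app N = (ModSite.quotOnπ O U).app M ≫ f :=
  kernel.lift_ι _ _ _

/-- `M ↦ M/M_U` is left adjoint to sections with supports. -/
noncomputable def quotSectAdj : ModSite.quotOn O U ⊣ ModSite.sectOn O U :=
  Adjunction.mkOfHomEquiv
    { homEquiv := fun M N => (quotSectEquiv U M N).toEquiv
      homEquiv_naturality_left_symm := fun {M' M N} g h => by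
        apply coequalizer.hom_ext
        refine (cokernel.π_desc _ _ _).trans ?_
        refine Eq.trans ?_ ((((ModSite.quotOnπ O U).naturality_assoc g) _).trans rfl)
        refine (Category.assoc _ _ _).trans (congrArg (g ≫ ·) ?_)
        exact (cokernel.π_desc _ _ _).symm
      homEquiv_naturality_right := fun {M N N'} f g => by
        apply equalizer.hom_ext
        refine (quotSectEquiv_ι U _).trans ?_
        refine Eq.trans ?_ ((Category.assoc _ _ _).trans
          (congrArg (quotSectEquiv U M N f ≫ ·) ((ModSite.sectOnι O U).naturality g))).symm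
        exact (Category.assoc _ _ _).symm.trans ((congrArg (· ≫ g) (quotSectEquiv_ι U f).symm).trans
          (Category.assoc _ _ _)) }

theorem injective_sectOn (Q : ModSite.Mod O) (hQ : Injective Q) : Injective ((ModSite.sectOn O U).obj Q) := by
  have : (ModSite.quotOn O U).PreservesMonomorphisms := ⟨fun {F G} f hf => @mono_quotOn_map _ _ _ _ U _ F G f hf⟩
  exact Adjunction.map_injective (quotSectAdj U) Q hQ

/-- `Hom(M, Γ_Z -) = Hom(M/M_U, -)`. -/
noncomputable def homSectIso (M : ModSite.Mod O) :
    ModSite.sectOn O U ⋙ preadditiveCoyoneda.obj (op M) ≅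
      preadditiveCoyoneda.obj (op ((ModSite.quotOn O U).obj M)) :=
  NatIso.ofComponents (fun N => (quotSectEquiv U M N).symm.toAddCommGrpIso)
    (fun {N N'} g => by
      ext φ
      refine (quotSectEquiv U M N').injective ?_
      refine Eq.trans ((quotSectEquiv U M N').apply_symm_apply _) ?_
      show φ ≫ (ModSite.sectOn O U).map g = quotSectEquiv U M N' ((quotSectEquiv U M N).symm φ ≫ g)
      apply equalizer.hom_ext
      refine Eq.trans ?_ (quotSectEquiv_ι U _).symm
      refine Eq.trans ((Category.assoc _ _ _).trans (congrArg (φ ≫ ·) ((ModSite.sectOnι O U).naturality g))) ?_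
      refine Eq.trans (Category.assoc _ _ _).symm (Eq.trans ?_ (Category.assoc _ _ _))
      refine congrArg (· ≫ g) (Eq.trans ?_ (quotSectEquiv_ι U _))
      exact congrArg (· ≫ (ModSite.sectOnι O U).app N) ((quotSectEquiv U M N).apply_symm_apply φ).symm)

end Groth.LocCohZBase
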