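import Groth.Agent.LocCohZBase.ExtDerived
import Groth.Agent.LocCohZBase.SectSupp

/-!
# The derived functors of global sections with support are `Ext^q(ℤ_{Z,X}, -)`
-/

universe u

open CategoryTheory CategoryTheory.Limits Opposite TopologicalSpace

namespace Groth.LocCohZBase

variable {X : TopCat.{u}} (U : Opens X)

/-- The value of a morphism out of `ℤ_X/ℤ_U` on the generator. -/
noncomputable def topVal (F : CohTop.Ab X) :
    (ToposFin.quotZ (LocCohZ.openSh U) ⟶ F) →+ F.obj.obj (op (⊤ : Opens X)) :=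
  AddMonoidHom.mk' (fun φ => CohFree.evalGen (Opens.grothendieckTopology X) ⊤ F
      (cokernel.π (CohCx.freeSheafMap (Opens.grothendieckTopology X) (homOfLE (le_top : U ≤ ⊤))) ≫
        (LocCohZ.zqIsoQuotZ U).hom ≫ φ))
    (fun a b => by rw [Preadditive.comp_add, Preadditive.comp_add, map_add])

theorem topVal_apply (F : CohTop.Ab X) (φ : ToposFin.quotZ (LocCohZ.openSh U) ⟶ F) :
    topVal U F φ = CohFree.evalGen (Opens.grothendieckTopology X) ⊤ F
      (cokernel.π (CohCx.freeSheafMap (Opens.grothendieckTopology X) (homOfLE (le_top : U ≤ ⊤))) ≫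
        (LocCohZ.zqIsoQuotZ U).hom ≫ φ) := rfl

theorem topVal_injective (F : CohTop.Ab X) : Function.Injective (topVal U F) := fun a b h => by
  rw [← cancel_epi (LocCohZ.zqIsoQuotZ U).hom,
    ← cancel_epi (cokernel.π (CohCx.freeSheafMap (Opens.grothendieckTopology X) (homOfLE (le_top : U ≤ ⊤))))]
  exact (CohFree.homEquivSect (Opens.grothendieckTopology X) ⊤ F).injective h

theorem range_topVal (F : CohTop.Ab X) (s : F.obj.obj (op (⊤ : Opens X))) :
    (∃ φ, topVal U F φ = s) ↔ F.obj.map (homOfLE (le_top : U ≤ ⊤)).op s = 0 := by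
  constructor
  · rintro ⟨φ, rfl⟩
    rw [topVal_apply, ← CohFree.evalGen_freeSheafMap_comp, cokernel.condition_assoc, zero_comp, map_zero]
  · intro hs
    let e : LocCohZ.zq (le_top : U ≤ ⊤) ⟶ F :=
      Abelian.Ext.addEquiv₀ ((LocCohZ.sect0Equiv F (le_top : U ≤ ⊤)).symm ⟨s, hs⟩)
    refine ⟨(LocCohZ.zqIsoQuotZ U).inv ≫ e, ?_⟩
    rw [topVal_apply, Iso.hom_inv_id_assoc]
    exact congrArg Subtype.val ((LocCohZ.sect0Equiv F (le_top : U ≤ ⊤)).apply_symm_apply ⟨s, hs⟩)

theorem res_top_iff (F : CohTop.Ab X) (s : F.obj.obj (op (⊤ : Opens X))) :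
    F.obj.map (homOfLE (le_top : U ≤ ⊤)).op s = 0 ↔
      F.obj.map (homOfLE (inf_le_left : ⊤ ⊓ U ≤ ⊤)).op s = 0 :=
  map_eq_zero_iff_of_eq F _ _ (by simp) s

/-- Sections with support as morphisms. -/
noncomputable def suppToHom (F : CohTop.Ab X) :
    (LocCohZ.gammaZF U).obj F →+ (ToposFin.quotZ (LocCohZ.openSh U) ⟶ F) :=
  have h : ∀ x : ((LocCohZ.sectSuppF U).obj F).obj.obj (op (⊤ : Opens X)),
      ∃ φ, topVal U F φ = (suppι U F).hom.app (op ⊤) x :=
    fun x => (range_topVal U F _).2 ((res_top_iff U F _).2 (suppι_res U F ⊤ x))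
  AddMonoidHom.mk' (fun x => (h x).choose) (fun a b => topVal_injective U F
    (((h (a + b)).choose_spec.trans (map_add _ a b)).trans
      ((map_add (topVal U F) _ _).trans (congrArg₂ (· + ·) (h a).choose_spec (h b).choose_spec)).symm))

theorem topVal_suppToHom (F : CohTop.Ab X) (x : (LocCohZ.gammaZF U).obj F) :
    topVal U F (suppToHom U F x) = (suppι U F).hom.app (op ⊤) x :=
  ((range_topVal U F _).2 ((res_top_iff U F _).2 (suppι_res U F ⊤ x))).choose_spec

theorem suppToHom_bijective (F : CohTop.Ab X) : Function.Bijective (suppToHom U F) := by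
  refine ⟨fun a b h => suppι_injective U F ⊤ ?_, fun φ => ?_⟩
  · rw [← topVal_suppToHom, ← topVal_suppToHom, h]
  · obtain ⟨x, hx⟩ := exists_suppι U F ⊤ (topVal U F φ)
      ((res_top_iff U F _).1 ((range_topVal U F _).1 ⟨φ, rfl⟩))
    exact ⟨x, topVal_injective U F ((topVal_suppToHom U F x).trans hx)⟩

/-- `Γ_Z(X, -) = Hom(ℤ_{Z,X}, -)`. -/
noncomputable def gammaIso :
    LocCohZ.gammaZF U ≅ ExtDerived.homF (ToposFin.quotZ (LocCohZ.openSh U)) :=
  NatIso.ofComponents
    (fun F => (AddEquiv.ofBijective (suppToHom U F) (suppToHom_bijective U F)).toAddCommGrpIso)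
    (fun {F G} φ => by
      refine AddCommGrpCat.hom_ext (AddMonoidHom.ext fun x => topVal_injective U G ?_)
      refine (topVal_suppToHom U G _).trans ((suppι_naturality_apply U φ ⊤ x).trans ?_)
      exact (congrArg (φ.hom.app (op ⊤)) (topVal_suppToHom U F x)).symm)

theorem rhz_iso (q : ℕ) :
    Nonempty (LocCohZ.RHZ U q ≅ ToposFin.HZFunctor (LocCohZ.openSh U) q) :=
  ⟨{ hom := NatTrans.rightDerived (gammaIso U).hom q
     inv := NatTrans.rightDerived (gammaIso U).inv q
     hom_inv_id := by rw [← NatTrans.rightDerived_comp, Iso.hom_inv_id, NatTrans.rightDerived_id]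
     inv_hom_id := by rw [← NatTrans.rightDerived_comp, Iso.inv_hom_id, NatTrans.rightDerived_id] } ≪≫
    ExtDerived.derivedIso (ToposFin.quotZ (LocCohZ.openSh U)) q⟩

end Groth.LocCohZBase
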