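import Groth.Agent.LocCohZBase.HZshIso

/-!
# Exactness of restriction to an open, and higher direct images of restrictions
-/

universe u

open CategoryTheory CategoryTheory.Limits Opposite TopologicalSpace

namespace Groth.LocCohZBase

variable {X : TopCat.{u}} (U : Opens X)

instance preservesFiniteLimits_restr : PreservesFiniteLimits (CohTop.restrFunctor U) :=
  preservesFiniteLimits_of_natIso (pullInclIso U)

instance preservesFiniteColimits_restr : PreservesFiniteColimits (CohTop.restrFunctor U) :=
  preservesFiniteColimits_of_natIso (pullInclIso U)

instance additive_restr : (CohTop.restrFunctor U).Additive :=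
  Functor.additive_of_iso (pullInclIso U)

theorem rpushOn_id_iso (q : ℕ) :
    Nonempty (CohCx.RpushOn (𝟙 X) U q ≅ CohTop.restrFunctor U ⋙ CohTop.Rpush (CohCx.incl U) q) :=
  ⟨DerivedComp.rightDerivedCompIso (CohTop.restrFunctor U) (CohTop.push (CohCx.incl U)) q⟩

end Groth.LocCohZBase
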