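import Groth.Agent.LocCohZBase.Vanishing
import Groth.Agent.LocCohZBase.HZshIso
import Groth.Agent.LocCohZBase.AcyclicDerived

/-!
# Global sections of the first non-vanishing local cohomology sheaf
-/

universe u

open CategoryTheory CategoryTheory.Limits Opposite TopologicalSpace

namespace Groth.LocCohZBase

open Abelian

variable {X : TopCat.{u}} (U : Opens X)

instance mono_suppι (F : CohTop.Ab X) : Mono (suppι U F) :=
  inferInstanceAs (Mono (kernel.ι ((pullPush U).unit.app F)))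

instance preservesFiniteLimits_sectSuppF : PreservesFiniteLimits (LocCohZ.sectSuppF U) := by
  refine ((Functor.preservesFiniteLimits_tfae (LocCohZ.sectSuppF U)).out 1 3 rfl rfl).mp ?_
  intro S ⟨hS, hf⟩
  haveI : Mono ((pp U).map S.f) := Functor.map_mono _ _
  have nat : ∀ {A B : CohTop.Ab X} (g : A ⟶ B),
      (LocCohZ.sectSuppF U).map g ≫ suppι U B = suppι U A ≫ g := fun g => kernel.lift_ι _ _ _
  haveI hm : Mono ((LocCohZ.sectSuppF U).map S.f) := by
    haveI := mono_suppι U S.X₁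
    haveI : Mono (suppι U S.X₁ ≫ S.f) := mono_comp _ _
    haveI : Mono ((LocCohZ.sectSuppF U).map S.f ≫ suppι U S.X₂) := by
      rw [nat]
      assumption
    exact mono_of_mono _ (suppι U S.X₂)
  haveI : Mono (S.map (LocCohZ.sectSuppF U)).f := hm
  refine ⟨ShortComplex.exact_of_f_is_kernel _ (KernelFork.IsLimit.ofι' _ _ fun {W} k hk => ?_), hm⟩
  have h0 : (k ≫ suppι U S.X₂) ≫ S.g = 0 :=
    (Category.assoc _ _ _).trans ((congrArg (k ≫ ·) (nat S.g)).symm.trans
      ((Category.assoc _ _ _).symm.trans ((congrArg (· ≫ suppι U S.X₃) hk).trans zero_comp)))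
  let t := hS.lift (k ≫ suppι U S.X₂) h0
  have ht : t ≫ S.f = k ≫ suppι U S.X₂ := hS.lift_f _ _
  have h1 : t ≫ (pullPush U).unit.app S.X₁ = 0 := by
    rw [← cancel_mono ((pp U).map S.f), zero_comp, Category.assoc]
    refine (congrArg (t ≫ ·) ((pullPush U).unit.naturality S.f).symm).trans ?_
    refine (Category.assoc _ _ _).symm.trans ((congrArg (· ≫ _) ht).trans ?_)
    exact (Category.assoc _ _ _).trans ((congrArg (k ≫ ·) (kernel.condition _)).trans comp_zero)
  refine ⟨kernel.lift _ t h1, (cancel_mono (suppι U S.X₂)).1 ?_⟩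
  refine (Category.assoc _ _ _).trans ((congrArg (kernel.lift _ t h1 ≫ ·) (nat S.f)).trans ?_)
  exact (Category.assoc _ _ _).symm.trans ((congrArg (· ≫ S.f) (kernel.lift_ι _ t h1)).trans ht)

theorem nonempty_sections_sectSupp_equiv (F : CohTop.Ab X) :
    Nonempty (((LocCohZ.sectSuppF U).obj F).obj.obj (op (⊤ : Opens X)) ≃+
      LocCohZ.HZ F 0 (inf_le_left : (⊤ : Opens X) ⊓ U ≤ ⊤)) := by
  let e : ((LocCohZ.sectSuppF U).obj F).obj.obj (op (⊤ : Opens X)) →+
      LocCohZ.sectZ F (inf_le_left : (⊤ : Opens X) ⊓ U ≤ ⊤) :=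
    ((suppι U F).hom.app (op ⊤)).hom.codRestrict _ fun x => suppι_res U F ⊤ x
  have he : Function.Bijective e := by
    refine ⟨fun a b h => suppι_injective U F ⊤ (congrArg Subtype.val h), fun s => ?_⟩
    obtain ⟨x, hx⟩ := exists_suppι U F ⊤ s.1 s.2
    exact ⟨x, Subtype.ext hx⟩
  exact ⟨(AddEquiv.ofBijective e he).trans (LocCohZ.sect0Equiv F _).symm⟩

/-- If `ℋ^j_Z(F)` vanishes for `j < d`, then `Γ(X, ℋ^d_Z(F)) ≅ H^d_Z(X, F)`. -/
theorem nonempty_sections_HZsh_equiv (d : ℕ) : ∀ F : CohTop.Ab X, (∀ j < d, LocVanish U F j) →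
    Nonempty (((LocCohZ.HZsh U d).obj F).obj.obj (op (⊤ : Opens X)) ≃+
      LocCohZ.HZ F d (inf_le_left : (⊤ : Opens X) ⊓ U ≤ ⊤)) := by
  induction d with
  | zero =>
    intro F _
    obtain ⟨e⟩ := nonempty_sections_sectSupp_equiv U F
    exact ⟨((evalAt _ (op (⊤ : Opens X))).mapIso
      ((LocCohZ.sectSuppF U).rightDerivedZeroIsoSelf.app F)).addCommGroupIsoToAddEquiv.trans e⟩
  | succ m ih =>
    intro F h
    have h0 := subsingleton_zero_of_locVanish U F (h 0 m.succ_pos)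
    obtain ⟨I, Q, i, p, w, hS, hI, hI0⟩ := exists_ses_of_zero U F h0
    have hIall : ∀ (j : ℕ) (W : Opens X),
        Subsingleton (LocCohZ.HZ I j (inf_le_left : W ⊓ U ≤ W)) := fun j W =>
      match j with
      | 0 => hI0 W
      | j + 1 => Ext.subsingleton_of_injective _ I j
    have hQ : ∀ j < m, LocVanish U Q j := by
      intro j hj W x
      obtain ⟨S, hS', hx⟩ := h (j + 1) (by omega) W (x.comp hS.extClass rfl)
      refine ⟨S, hS', fun W' f hf => ?_⟩
      have h1 : ((Ext.mk₀ (zqRes U f)).comp x (zero_add j)).comp hS.extClass rfl = 0 := by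
        rw [Ext.comp_assoc _ _ _ (zero_add j) rfl (by omega)]
        exact hx f hf
      obtain ⟨a, ha⟩ := Ext.covariant_sequence_exact₃ _ hS ((Ext.mk₀ (zqRes U f)).comp x (zero_add j))
        rfl h1
      rw [resZ_apply, ← ha, @Subsingleton.elim _ (hIall j W') a 0, Ext.zero_comp]
    let δ₀ : LocCohZ.HZ Q m (inf_le_left : (⊤ : Opens X) ⊓ U ≤ ⊤) →+
        LocCohZ.HZ F (m + 1) (inf_le_left : (⊤ : Opens X) ⊓ U ≤ ⊤) :=
      AddMonoidHom.mk' (fun x => x.comp hS.extClass rfl) fun a b => Ext.add_comp a b hS.extClass rfl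
    have hδ : Function.Bijective δ₀ := by
      refine ⟨fun a b hab => ?_, fun x => ?_⟩
      · obtain ⟨c, hc⟩ := Ext.covariant_sequence_exact₃ _ hS (a - b) rfl
          ((map_sub δ₀ a b).trans (sub_eq_zero.2 hab))
        exact sub_eq_zero.1 (hc.symm.trans (by rw [@Subsingleton.elim _ (hIall m ⊤) c 0, Ext.zero_comp]))
      · obtain ⟨y, hy⟩ := Ext.covariant_sequence_exact₁ _ hS x (@Subsingleton.elim _ (hIall (m + 1) ⊤) _ _)
          (n₀ := m) rfl
        exact ⟨y, hy⟩
    let δ := AddEquiv.ofBijective δ₀ hδ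
    obtain ⟨e⟩ := ih Q hQ
    have : ∃ a : (LocCohZ.HZsh U (m + 1)).obj F ≅ (LocCohZ.HZsh U m).obj Q, True := by
      match m with
      | 0 =>
        obtain ⟨a⟩ := Groth.CohFin.nonempty_rightDerived_one_iso_of_injective (S := ShortComplex.mk i p w)
          (F := LocCohZ.sectSuppF U) hS
        have hz : IsZero ((LocCohZ.HZsh U 0).obj I) :=
          (isZero_zero_iff U I).2 fun V => hI0 V
        have hz' : IsZero ((LocCohZ.sectSuppF U).obj I) :=
          hz.of_iso ((LocCohZ.sectSuppF U).rightDerivedZeroIsoSelf.app I).symm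
        exact ⟨a ≪≫ cokernelIsoOfEq (hz'.eq_of_src _ 0) ≪≫ cokernelZeroIsoTarget ≪≫
          ((LocCohZ.sectSuppF U).rightDerivedZeroIsoSelf.app Q).symm, trivial⟩
      | k + 1 =>
        obtain ⟨a⟩ := Groth.CohFin.nonempty_rightDerived_shift (LocCohZ.sectSuppF U) k
          (ShortComplex.mk i p w) hS (fun j => (LocCohZ.sectSuppF U).isZero_rightDerived_obj_injective_succ j I)
        exact ⟨a, trivial⟩
    obtain ⟨a, -⟩ := this
    exact ⟨((evalAt _ (op (⊤ : Opens X))).mapIso a).addCommGroupIsoToAddEquiv.trans (e.trans δ)⟩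

theorem nonempty_HZ_congr (F : CohTop.Ab X) (i : ℕ) {W W' V : Opens X} (e : W = W') (h : W ≤ V)
    (h' : W' ≤ V) : Nonempty (LocCohZ.HZ F i h ≃+ LocCohZ.HZ F i h') := by
  subst e
  exact ⟨AddEquiv.refl _⟩

end Groth.LocCohZBase
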