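import Groth.Agent.SitesTopoi.Mod.Basic
import Groth.Agent.DAlg.RestrPushOver
import Groth.Agent.SitesTopoi.Mod.ExtZeroFlat
import Groth.Prelude.Def_ExtSupp
import Mathlib.CategoryTheory.Adjunction.Triple

/-!
# Excision for modules with supports on a ringed site
-/

universe u

open CategoryTheory CategoryTheory.Limits Opposite
open Groth.SitesTopoi.ModH

namespace Groth.LocCohZBase.Excision

variable {C : Type u} [SmallCategory C] [HasBinaryProducts C] {J : GrothendieckTopology C}
  {O : Sheaf J CommRingCat.{u}}

variable (O) in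
/-- Direct image from `C/V`, by restriction along `X ↦ V × X`. -/
noncomputable abbrev starPush (V : C) : ModSite.Mod (O.over V) ⥤ ModSite.Mod O :=
  SheafOfModules.pushforward (SheafOfModules.pushforwardOver (R := ModSite.ringSh O) V)

variable (O) in
/-- The adjunction with explicit unit. -/
noncomputable def starAdj (V : C) : ModSite.restr O V ⊣ starPush O V :=
  SheafOfModules.overPushforwardOverAdj (R := ModSite.ringSh O) V

theorem starAdj_counit_apply (V : C) (G : ModSite.Mod (O.over V)) (Y : Over V)
    (x : ((ModSite.restr O V).obj ((starPush O V).obj G)).val.obj (op Y)) :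
    ((starAdj O V).counit.app G).val.app (op Y) x =
      G.val.map ((Over.forgetAdjStar V).unit.app Y).op x := rfl

theorem starAdj_homEquiv_apply (V : C) {M : ModSite.Mod O} {G : ModSite.Mod (O.over V)}
    (φ : (ModSite.restr O V).obj M ⟶ G) (X : C) (m : M.val.obj (op X)) :
    ((starAdj O V).homEquiv M G φ).val.app (op X) m =
      φ.val.app (op ((Over.star V).obj X)) (M.val.map ((Over.forgetAdjStar V).counit.app X).op m) := by
  rw [Adjunction.homEquiv_unit]
  rfl

/-- The counit of the explicit adjunction is invertible for a subterminal object. -/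
theorem isIso_starAdj_counit (V : C) (hV : ∀ X : C, Subsingleton (X ⟶ V)) :
    IsIso (starAdj O V).counit := by
  have : ∀ G, IsIso ((starAdj O V).counit.app G) := fun G => by
    have : ∀ Y : Over V, IsIso ((Over.forgetAdjStar V).unit.app Y) := fun Y => by
      have : IsIso ((Over.forgetAdjStar V).unit.app Y).left := by
        rw [Over.forgetAdjStar_unit_app_left]
        refine ⟨prod.snd, prod.lift_snd _ _, Limits.prod.hom_ext (@Subsingleton.elim _ (hV _) _ _) ?_⟩
        exact (Category.assoc _ _ _).trans ((congrArg (prod.snd ≫ ·) (prod.lift_snd _ _)).trans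
          ((Category.comp_id _).trans (Category.id_comp _).symm))
      have : IsIso ((Over.forget V).map ((Over.forgetAdjStar V).unit.app Y)) := this
      exact isIso_of_reflects_iso _ (Over.forget V)
    have : IsIso ((PresheafOfModules.toPresheaf _).map ((starAdj O V).counit.app G).val) := by
      have : ∀ Y, IsIso (((PresheafOfModules.toPresheaf _).map ((starAdj O V).counit.app G).val).app Y) :=
        fun Y => inferInstanceAs (IsIso (G.val.presheaf.map ((Over.forgetAdjStar V).unit.app Y.unop).op))
      exact NatIso.isIso_of_isIso_app _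
    have : IsIso ((starAdj O V).counit.app G).val :=
      isIso_of_reflects_iso _ (PresheafOfModules.toPresheaf _)
    have : IsIso ((SheafOfModules.forget _).map ((starAdj O V).counit.app G)) := this
    exact isIso_of_reflects_iso ((starAdj O V).counit.app G) (SheafOfModules.forget _)
  exact NatIso.isIso_of_isIso_app _

/-- Restriction to a subterminal object splits extension by zero. -/
theorem isIso_extZero_unit (V : C) (hV : ∀ X : C, Subsingleton (X ⟶ V)) :
    IsIso (ModSite.extZeroAdj O V).unit :=
  (Adjunction.Triple.isIso_unit_iff_isIso_counit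
    ⟨ModSite.extZeroAdj O V, starAdj O V⟩).2 (isIso_starAdj_counit V hV)

variable (U V : C)

/-- A map killing `U × V` over `V` kills the restriction of `M_U`. -/
theorem restr_counit_comp {M : ModSite.Mod O} {G : ModSite.Mod (O.over V)}
    (φ : (ModSite.restr O V).obj M ⟶ G)
    (hφ : (ModSite.restr (O.over V) (Over.mk (prod.snd : U ⨯ V ⟶ V))).map φ = 0) :
    (ModSite.restr O V).map ((ModSite.extZeroAdj O U).counit.app M) ≫ φ = 0 := by
  let W : Over V := Over.mk (prod.snd : U ⨯ V ⟶ V)
  have h1 : ∀ (Y : Over V) (_ : Y ⟶ W) (m : ((ModSite.restr O V).obj M).val.obj (op Y)),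
      φ.val.app (op Y) m = 0 := fun Y g m =>
    congrArg (fun ψ : (ModSite.restr (O.over V) W).obj ((ModSite.restr O V).obj M) ⟶
      (ModSite.restr (O.over V) W).obj G => (ψ.val.app (op (Over.mk g))).hom m) hφ
  have h2 : (ModSite.restr O U).map ((starAdj O V).homEquiv M G φ) = 0 := by
    apply (SheafOfModules.toSheaf _).map_injective
    ext Y m
    let f : Y.unop.left ⟶ U := Y.unop.hom
    exact (starAdj_homEquiv_apply V φ Y.unop.left m).trans
      (h1 _ (Over.homMk (prod.lift (prod.snd ≫ f) prod.fst) ((prod.lift_snd _ _).trans (prod.lift_fst _ _).symm)) _)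
  apply ((starAdj O V).homEquiv _ _).injective
  rw [Adjunction.homEquiv_naturality_left]
  refine ((ExtSupp.mem_homZ_iff U _).1 h2).trans ?_
  rw [Adjunction.homEquiv_unit, Functor.map_zero, comp_zero]

theorem isNullOn_restr {Q : ModSite.Mod O} (hQ : ModSite.IsNullOn O U Q) :
    ModSite.IsNullOn (O.over V) (Over.mk (prod.snd : U ⨯ V ⟶ V)) ((ModSite.restr O V).obj Q) :=
  (ExtSupp.isNullOn_iff _ _ _).2 fun Y g x =>
    (ExtSupp.isNullOn_iff O U Q).1 hQ (g.left ≫ prod.fst) x

/-- `(M/M_U)|_V = M|_V/(M|_V)_{U × V}`. -/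
theorem nonempty_quotOn_restr_iso (M : ModSite.Mod O) :
    Nonempty ((ModSite.quotOn (O.over V) (Over.mk (prod.snd : U ⨯ V ⟶ V))).obj ((ModSite.restr O V).obj M) ≅
      (ModSite.restr O V).obj ((ModSite.quotOn O U).obj M)) := by
  let W : Over V := Over.mk (prod.snd : U ⨯ V ⟶ V)
  let c := (ModSite.extZeroAdj O U).counit.app M
  let c' := (ModSite.extZeroAdj (O.over V) W).counit.app ((ModSite.restr O V).obj M)
  let π : (ModSite.restr O V).obj M ⟶ (ModSite.restr O V).obj ((ModSite.quotOn O U).obj M) :=
    (ModSite.restr O V).map (cokernel.π c)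
  have hc : (ModSite.restr O V).map c ≫ π = 0 :=
    ((ModSite.restr O V).map_comp _ _).symm.trans ((congrArg _ (cokernel.condition c)).trans (Functor.map_zero _ _ _))
  have hπ : IsColimit (CokernelCofork.ofπ (f := (ModSite.restr O V).map c) π hc) :=
    CokernelCofork.mapIsColimit _ (cokernelIsCokernel c) (ModSite.restr O V)
  have h1 : c' ≫ π = 0 := (ExtSupp.mem_homZ_iff W π).1
    ((isNullOn_restr U V (ExtSupp.isNullOn_quotOn O U M)).eq_of_tgt _ _)
  have h2 : (ModSite.restr O V).map c ≫ cokernel.π c' = 0 :=
    restr_counit_comp U V _ ((ExtSupp.mem_homZ_iff W _).2 (cokernel.condition c'))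
  obtain ⟨d, hd⟩ := CokernelCofork.IsColimit.desc' hπ (cokernel.π c') h2
  refine ⟨⟨cokernel.desc c' π h1, d, ?_, ?_⟩⟩
  · exact coequalizer.hom_ext ((cokernel.π_desc_assoc _ _ _ _).trans (hd.trans (Category.comp_id _).symm))
  · refine Cofork.IsColimit.hom_ext hπ ?_
    show π ≫ d ≫ cokernel.desc c' π h1 = π ≫ 𝟙 _
    rw [Category.comp_id, ← Category.assoc]
    exact (congrArg (· ≫ _) hd).trans (cokernel.π_desc _ _ _)

theorem starPush_map_injective (U : C) (H : ModSite.Mod (O.over U)) (X : C) :
    Function.Injective (((starPush O U).obj H).val.map (prod.snd : U ⨯ X ⟶ X).op) := by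
  let e : (Over.star U).obj X ⟶ (Over.star U).obj (U ⨯ X) :=
    Over.homMk (prod.lift prod.fst (𝟙 _)) ((congrArg (_ ≫ ·) (prod.lift_fst _ _)).trans
      ((prod.lift_fst _ _).trans (prod.lift_fst _ _).symm))
  have he : e ≫ (Over.star U).map prod.snd = 𝟙 _ := by
    apply Over.OverMorphism.ext
    show prod.lift prod.fst (𝟙 (U ⨯ X)) ≫ prod.map (𝟙 U) prod.snd = 𝟙 _
    rw [prod.lift_map, Category.comp_id, Category.id_comp, prod.lift_fst_snd]
  have key : H.val.presheaf.map ((Over.star U).map (prod.snd : U ⨯ X ⟶ X)).op ≫ H.val.presheaf.map e.op = 𝟙 _ := by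
    rw [← Functor.map_comp, ← op_comp, he, op_id, CategoryTheory.Functor.map_id]
  intro a b h
  exact (congr($(key) a)).symm.trans ((congrArg (H.val.presheaf.map e.op) h).trans congr($(key) b))

/-- Extension by zero of a module null on `U × V` is null on `U`. -/
theorem isNullOn_extZero {G : ModSite.Mod (O.over V)}
    (hG : ModSite.IsNullOn (O.over V) (Over.mk (prod.snd : U ⨯ V ⟶ V)) G) :
    ModSite.IsNullOn O U ((ModSite.extZero O V).obj G) := by
  let T := (ModSite.extZero O V).obj G
  let H := (ModSite.restr O U).obj T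
  have hzero : ∀ α : G ⟶ (ModSite.restr O V).obj ((starPush O U).obj H), α = 0 := fun α => by
    apply (SheafOfModules.toSheaf _).map_injective
    ext Y x
    show α.val.app Y x = 0
    let Y' : Over V := Over.mk (prod.snd ≫ Y.unop.hom : U ⨯ Y.unop.left ⟶ V)
    let q : Y' ⟶ Y.unop := Over.homMk prod.snd rfl
    have hz : G.val.map q.op x = 0 :=
      (ExtSupp.isNullOn_iff _ _ G).1 hG
        (Over.homMk (V := Over.mk (prod.snd : U ⨯ V ⟶ V)) (prod.lift (prod.fst : U ⨯ Y.unop.left ⟶ U)
          (prod.snd ≫ Y.unop.hom)) (prod.lift_snd _ _) : Y' ⟶ _) _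
    have hn := PresheafOfModules.naturality_apply α.val q.op x
    rw [hz] at hn
    replace hn := (map_zero (α.val.app (op Y')).hom).symm.trans hn
    refine starPush_map_injective U H Y.unop.left (Eq.trans ?_ (map_zero _).symm)
    exact hn.symm
  have h0 : ∀ f : H ⟶ H, f = 0 := fun f => by
    apply ((starAdj O U).homEquiv T H).injective
    apply ((ModSite.extZeroAdj O V).homEquiv G _).injective
    rw [hzero (((ModSite.extZeroAdj O V).homEquiv G _) (((starAdj O U).homEquiv T H) f)),
      hzero (((ModSite.extZeroAdj O V).homEquiv G _) (((starAdj O U).homEquiv T H) 0))]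
  exact (IsZero.iff_id_eq_zero _).2 (h0 _)

/-- A module null on the members of a cover is zero. -/
theorem isZero_of_isNullOn (hUV : J.CoversTop (fun b : Bool => cond b U V)) {F : ModSite.Mod O}
    (hU : ModSite.IsNullOn O U F) (hV : ModSite.IsNullOn O V F) : IsZero F := by
  rw [IsZero.iff_id_eq_zero]
  refine mod_hom_ext fun X m => sec_extM F (hUV X) fun Y g hg => ?_
  obtain ⟨b, ⟨f⟩⟩ := hg
  have key : ∀ x : ModSite.sect F Y, x = 0 := fun x => by
    cases b
    · exact (ExtSupp.isNullOn_iff O V F).1 hV f x
    · exact (ExtSupp.isNullOn_iff O U F).1 hU f x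
  exact (key _).trans (key _).symm

/-- `M/M_U` is extended by zero from `V`. -/
theorem isIso_counit_quotOn (hV : ∀ X : C, Subsingleton (X ⟶ V))
    (hUV : J.CoversTop (fun b : Bool => cond b U V)) (M : ModSite.Mod O) :
    IsIso ((ModSite.extZeroAdj O V).counit.app ((ModSite.quotOn O U).obj M)) := by
  let Q := (ModSite.quotOn O U).obj M
  let c := (ModSite.extZeroAdj O V).counit.app Q
  have := isIso_extZero_unit (O := O) V hV
  have hc : IsIso ((ModSite.restr O V).map c) := by
    have e := (ModSite.extZeroAdj O V).right_triangle_components Q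
    have : IsIso ((ModSite.extZeroAdj O V).unit.app ((ModSite.restr O V).obj Q) ≫ (ModSite.restr O V).map c) := by
      rw [e]; infer_instance
    exact IsIso.of_isIso_comp_left ((ModSite.extZeroAdj O V).unit.app ((ModSite.restr O V).obj Q)) _
  have hQ : ModSite.IsNullOn O U Q := ExtSupp.isNullOn_quotOn O U M
  have hT : ModSite.IsNullOn O U ((ModSite.extZero O V).obj ((ModSite.restr O V).obj Q)) :=
    isNullOn_extZero U V (isNullOn_restr U V hQ)
  have : Mono c := Preadditive.mono_of_isZero_kernel _ (isZero_of_isNullOn U V hUV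
    (IsZero.of_mono ((ModSite.restr O U).map (kernel.ι c)) hT)
    ((isZero_kernel_of_mono ((ModSite.restr O V).map c)).of_iso (PreservesKernel.iso (ModSite.restr O V) c)))
  have : Epi c := Preadditive.epi_of_isZero_cokernel _ (isZero_of_isNullOn U V hUV
    (IsZero.of_epi ((ModSite.restr O U).map (cokernel.π c)) hQ)
    ((isZero_cokernel_of_epi ((ModSite.restr O V).map c)).of_iso (PreservesCokernel.iso (ModSite.restr O V) c)))
  exact isIso_of_mono_of_epi c

end Groth.LocCohZBase.Excision
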