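import Groth.Agent.LocCohZBase.RHZ
import Groth.Agent.LocCohZBase.InjSupp
import Groth.Agent.Misc7.GSS.Composite
import Groth.Agent.Misc7.GSS.Sections
import Groth.Agent.SiteCohomology.Flasque
import Mathlib.CategoryTheory.Preadditive.Yoneda.Limits

/-!
# Preparations for the spectral sequences of cohomology with supports
-/

universe u

open CategoryTheory CategoryTheory.Limits Opposite TopologicalSpace

namespace Groth.LocCohZBase

variable {X : TopCat.{u}}

theorem preservesFiniteLimits_gammaZF (U : Opens X) : PreservesFiniteLimits (LocCohZ.gammaZF U) :=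
  have : PreservesFiniteLimits (ExtDerived.homF (ToposFin.quotZ (LocCohZ.openSh U))) := inferInstance
  preservesFiniteLimits_of_natIso (gammaIso U).symm

theorem nonempty_RHZ_iso_HZc (U : Opens X) (F : CohTop.Ab X) (q : ℕ) :
    Nonempty ((LocCohZ.RHZ U q).obj F ≅ AddCommGrpCat.of (LocCohZ.HZc F q U)) := by
  obtain ⟨e⟩ := rhz_iso U q
  exact ⟨e.app F ≪≫ (LocCohZ.HZcEquivHZFunctor F q U).symm.toAddCommGrpIso⟩

variable {Y : TopCat.{u}} (f : X ⟶ Y) (V : Opens Y)

theorem exists_gammaPush (F : CohTop.Ab X) :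
    ∃ e : (LocCohZ.gammaZF V).obj ((CohTop.push f).obj F) ≃+
        (LocCohZ.gammaZF ((Opens.map f).obj V)).obj F,
      ∀ x, (suppι ((Opens.map f).obj V) F).hom.app (op ⊤) (e x) =
        (suppι V ((CohTop.push f).obj F)).hom.app (op ⊤) x := by
  have h1 : ∀ x : ((LocCohZ.sectSuppF V).obj ((CohTop.push f).obj F)).obj.obj (op (⊤ : Opens Y)),
      ∃ y, (suppι ((Opens.map f).obj V) F).hom.app (op ⊤) y =
        (suppι V ((CohTop.push f).obj F)).hom.app (op ⊤) x := fun x => by
    refine exists_suppι ((Opens.map f).obj V) F ⊤ _ ?_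
    have e := suppι_res V ((CohTop.push f).obj F) ⊤ x
    exact (map_eq_zero_iff_of_eq F ((Opens.map f).map (homOfLE inf_le_left)) _ rfl _).1 e
  have h2 : ∀ y : ((LocCohZ.sectSuppF ((Opens.map f).obj V)).obj F).obj.obj (op (⊤ : Opens X)),
      ∃ x, (suppι V ((CohTop.push f).obj F)).hom.app (op ⊤) x =
        (suppι ((Opens.map f).obj V) F).hom.app (op ⊤) y := fun y => by
    refine exists_suppι V ((CohTop.push f).obj F) ⊤ _ ?_
    have e := suppι_res ((Opens.map f).obj V) F ⊤ y
    exact (map_eq_zero_iff_of_eq F ((Opens.map f).map (homOfLE inf_le_left)) _ rfl _).2 e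
  refine ⟨AddEquiv.ofBijective (AddMonoidHom.mk' (fun x => (h1 x).choose) fun a b =>
    suppι_injective _ F ⊤ (((h1 (a + b)).choose_spec.trans (map_add _ a b)).trans
      ((map_add ((suppι ((Opens.map f).obj V) F).hom.app (op ⊤)).hom _ _).trans
        (congrArg₂ (· + ·) (h1 a).choose_spec (h1 b).choose_spec)).symm))
    ⟨fun a b e => suppι_injective V _ ⊤ ?_, fun y => ⟨(h2 y).choose, suppι_injective _ F ⊤ ?_⟩⟩,
    fun x => (h1 x).choose_spec⟩
  · rw [← (h1 a).choose_spec, ← (h1 b).choose_spec]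
    exact congrArg _ e
  · exact (h1 _).choose_spec.trans (h2 y).choose_spec

/-- `Γ_Z ∘ f_* = Γ_{f⁻¹Z}`. -/
noncomputable def gammaPushIso :
    CohTop.push f ⋙ LocCohZ.gammaZF V ≅ LocCohZ.gammaZF ((Opens.map f).obj V) :=
  NatIso.ofComponents (fun F => (exists_gammaPush f V F).choose.toAddCommGrpIso)
    (fun {F G} g => by
      refine AddCommGrpCat.hom_ext (AddMonoidHom.ext fun x => suppι_injective _ G ⊤ ?_)
      refine ((exists_gammaPush f V G).choose_spec _).trans ?_
      refine (suppι_naturality_apply V ((CohTop.push f).map g) ⊤ x).trans ?_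
      refine Eq.trans ?_ (suppι_naturality_apply ((Opens.map f).obj V) g ⊤ _).symm
      exact congrArg (g.hom.app (op ⊤)) ((exists_gammaPush f V F).choose_spec x).symm)

theorem nonempty_rightDerived_push_gamma [(CohTop.push f).Additive] (F : CohTop.Ab X) (n : ℕ) :
    Nonempty (((CohTop.push f ⋙ LocCohZ.gammaZF V).rightDerived n).obj F ≅
      AddCommGrpCat.of (LocCohZ.HZc F n ((Opens.map f).obj V))) := by
  obtain ⟨e⟩ := nonempty_RHZ_iso_HZc ((Opens.map f).obj V) F n
  let R := injectiveResolution F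
  exact ⟨R.isoRightDerivedObj _ n ≪≫ HomologicalComplex.homologyMapIso
    ((NatIso.mapHomologicalComplex (gammaPushIso f V) (ComplexShape.up ℕ)).app R.cocomplex) n ≪≫
    (R.isoRightDerivedObj _ n).symm ≪≫ e⟩

end Groth.LocCohZBase
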